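import Cfsg.Agent.Lib.Spor.FischerThm.MSrgData
import Cfsg.Agent.Lib.Fus.M24U.Iso
import Cfsg.Agent.Lib.Fus.Fi24Model.Types
import Cfsg.Agent.Lib.Block.FischerTypes.M24Below

/-! Type M(23) below a member gives type M(24); type M(24) is below no member. -/

set_option autoImplicit false
set_option linter.style.haveILetI false
set_option linter.unusedSectionVars false

namespace Cfsg.Agent.Spor.FischerThm

open Cfsg Cfsg.Agent.Spor.ThreeTrans Cfsg.Agent.Block.FischerTypes

theorem good_isGroup {X : Type*} [Group X] [Finite X] {E : Set X} (g : Good E) : IsThreeTranspositionGroup E :=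
  ⟨g.cls.1, fun k _ hx => conj_mem g.cls k hx, g.cls.2.2⟩

/-- An isomorphism carries type M(24). -/
theorem m24_map {X Y : Type*} [Group X] [Group Y] (τ : X ≃* Y) {E : Set X} (h : IsOfTypeM24 X E) :
    IsOfTypeM24 Y (τ '' E) := by
  obtain ⟨hc, d, hd, c, hc', hdc, h23, N, hN, ⟨eN⟩, ⟨e3⟩⟩ := h
  obtain ⟨σ, hσ⟩ := quot_map τ E d
  obtain ⟨ρ⟩ := closureQuot_map τ _ (image_common τ E d c)
  have h23' : IsOfTypeM23 (PerpQuot E d) (perpSet E d) := h23
  have hn : (N.map ρ.toMonoidHom).Normal := hN.map _ ρ.surjective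
  refine ⟨center_bot_map τ hc, τ d, ⟨d, hd, rfl⟩, τ c, ⟨c, hc', rfl⟩,
    fun k => hdc (by simpa using k.map τ.symm), ?_, N.map ρ.toMonoidHom, hn,
    ⟨(N.equivMapOfInjective ρ.toMonoidHom ρ.injective).symm.trans eN⟩,
    ⟨(QuotientGroup.congr N (N.map ρ.toMonoidHom) ρ rfl).symm.trans e3⟩⟩
  show IsOfTypeM23 (PerpQuot (τ '' E) (τ d)) (perpSet (τ '' E) (τ d))
  rw [← hσ]
  exact m23_map σ h23'

variable {G : Type*} [Group G] [Finite G] {D : Set G}

theorem lam_quot (S : Setting D) {d e : G} (hd : d ∈ D) (he : e ∈ perp D d) :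
    (common D d e).ncard = (perp (perpSet D d) (pr D d e he)).ncard :=
  pr_card S hd (P := common D d e) Set.inter_subset_left (fun q hq => hq.1) fun u hu =>
    (pr_perp_iff S hd he hu).trans ⟨fun k => ⟨hu, k⟩, fun k => k.2⟩

/-- Type M(23) below gives type M(24). -/
theorem m23_case (g : Good D) (S : Setting D) {d : G} (hd : d ∈ D)
    (h23 : IsOfTypeM23 (PerpQuot D d) (perpSet D d)) : IsOfTypeM24 G D := by
  have htyp : ∀ a ∈ D, IsOfTypeM23 (PerpQuot D a) (perpSet D a) := fun a ha => by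
    obtain ⟨σ, hσ⟩ := quot_iso S hd ha
    rw [← hσ]
    exact m23_map σ h23
  have hsub : ∀ a ∈ D, M23.Base (perpSet D a) := fun a ha =>
    M23.base (good_isGroup (good_quot S ha)) (good_quot S ha).primitive (htyp a ha)
  obtain ⟨c, hc, hdc⟩ := exists_not_commute S.cls (two_of_nc S.hyp) hd
  obtain ⟨e, he⟩ := S.perp_ne d hd
  have hne : (perpSet D d).Nonempty := ⟨_, pr_mem he⟩
  have hK := M23.counts (hsub d hd)
  obtain ⟨h1, h2, h3⟩ := srg_ok S g.core.2 hd hc hdc he
  rw [perp_card S hd, M23.total (hsub d hd) hne hK] at h2 h3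
  rw [lam_quot S hd he, M23.card_perp (hsub d hd) (pr_mem he) (hK _ (pr_mem he))] at h3
  have hmu := srg_m23 h1 h2 h3
  have B : M24.Base D := ⟨S, g.cen, hsub, htyp, fun a ha b hb k => (meets_linked S ha hb k).1,
    fun a ha b hb k => (meets_linked S ha hb k).2,
    fun a ha => exists_not_commute S.cls (two_of_nc S.hyp) ha, d, hd, c, hc, hdc, Or.inr hmu⟩
  have B' := M24.base Fus.Fi24Model.isGroup Fus.Fi24Model.primitive Fus.Fi24Model.isOfTypeM24
  obtain ⟨-, d', hd', c', hc', hdc', -⟩ := Fus.Fi24Model.isOfTypeM24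
  obtain ⟨L, F⟩ := Fus.M24U.exists_frame B hd hc hdc
  obtain ⟨L', F'⟩ := Fus.M24U.exists_frame B' hd' hc' hdc'
  obtain ⟨τ, hτ⟩ := Fus.M24U.exists_mulEquiv B' B F' F
  rw [← hτ]
  exact m24_map τ Fus.Fi24Model.isOfTypeM24

/-- Type M(24) is below no member. -/
theorem m24_absurd (g : Good D) (S : Setting D) {d : G} (hd : d ∈ D)
    (h24 : IsOfTypeM24 (PerpQuot D d) (perpSet D d)) : False := by
  have B := M24.base (good_isGroup (good_quot S hd)) (good_quot S hd).primitive h24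
  obtain ⟨c, hc, hdc⟩ := exists_not_commute S.cls (two_of_nc S.hyp) hd
  obtain ⟨e, he⟩ := S.perp_ne d hd
  obtain ⟨h1, h2, h3⟩ := srg_ok S g.core.2 hd hc hdc he
  rw [perp_card S hd, M24.total B ⟨_, pr_mem he⟩] at h2 h3
  rw [lam_quot S hd he, M24.card_perp B (pr_mem he)] at h3
  rw [srg_m24 h1 h2] at h3
  exact Bool.false_ne_true h3

end Cfsg.Agent.Spor.FischerThm
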