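import Cfsg.Agent.Lib.Spor.FischerThm.Basic
import Cfsg.Agent.Lib.Block.FischerTypes.U6Code.Linear

/-! Unitary classes of degree at most six, numbered inside the six-dimensional space. -/

set_option autoImplicit false
set_option linter.style.haveILetI false
set_option linter.unusedSectionVars false

namespace Cfsg.Agent.Spor.FischerThm

open Matrix Cfsg Cfsg.Agent.Spor.ThreeTrans Cfsg.Agent.Block.FischerTypes Cfsg.Agent.Spor.UnitTwo
open Cfsg.Agent.Classical Cfsg.Agent.Classical.PSUAut Cfsg.Agent.Spor.USixTwo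
open Cfsg.Agent.Block.FischerTypes.U6Code (vec isPt adj nrm vec_xor vec_zero exists_vec eq_of_vec vec_smul
  adj_iff nrm_eq smul_lt of_hv hv_lt)

/-- A point with no coordinate beyond the first `n`. -/
def ptN (n c : ℕ) : Bool := isPt c && Nat.blt (U6Code.lo c ||| U6Code.hi c) (2 ^ n)

/-- A class numbered by the points of the first `n` coordinates. -/
structure UNum {X : Type*} [Group X] (E : Set X) (n : ℕ) where
  /-- The member with a number. -/
  pt : ℕ → X
  mem : ∀ c, ptN n c = true → pt c ∈ E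
  surj : ∀ u ∈ E, ∃ c, ptN n c = true ∧ pt c = u
  inj : ∀ c d, ptN n c = true → ptN n d = true → pt c = pt d → c = d
  comm : ∀ c d, ptN n c = true → ptN n d = true → (Commute (pt c) (pt d) ↔ adj c d = true)
  conj : ∀ p c, ptN n p = true → ptN n c = true →
    ptN n (U6Code.refl p c) = true ∧ pt p * pt c * pt p = pt (U6Code.refl p c)

theorem ptN_iff {n c : ℕ} : ptN n c = true ↔ isPt c = true ∧ ∀ i : Fin 6, n ≤ i.val → vec c i = 0 := by
  simp only [ptN, Bool.and_eq_true, Nat.blt, Nat.ble_eq, Nat.succ_le_iff]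
  refine and_congr_right fun _ => ⟨fun h i hi => ?_, fun h => Nat.lt_pow_two_of_testBit _ fun i hi => ?_⟩
  · have hb := Nat.testBit_lt_two_pow (lt_of_lt_of_le h (Nat.pow_le_pow_right (by norm_num) hi))
    rw [Nat.testBit_or, U6Code.testBit_lo _ i.2, U6Code.testBit_hi _ i.2, Bool.or_eq_false_iff] at hb
    show U6Code.ofBits _ _ = 0
    rw [hb.1, hb.2, U6Code.ofBits_zero]
  · rcases Nat.lt_or_ge i 6 with h6 | h6
    · obtain ⟨e1, e2⟩ := U6Code.ofBits_ne_zero _ _ (h ⟨i, h6⟩ hi)
      rw [Nat.testBit_or, U6Code.testBit_lo _ h6, U6Code.testBit_hi _ h6, e1, e2]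
      rfl
    · exact Nat.testBit_lt_two_pow (lt_of_lt_of_le (Nat.or_lt_two_pow (n := 6) (U6Code.lo_lt c) (U6Code.hi_lt c))
        (Nat.pow_le_pow_right (by norm_num) h6))

variable {F : Type} [Field F] [Fintype F] (h4 : Fintype.card F = 4) {n : ℕ}
include h4

/-- Degree at most six gives a numbering. -/
theorem exists_num {X : Type*} [Group X] {E : Set X} (hn : 1 ≤ n) (hn6 : n ≤ 6)
    (τ : X ≃* PSU n F 2) (hτ : τ '' E = U6.roots h4 n) : Nonempty (UNum E n) := by
  classical
  let φ : F ≃+* K4 := FiniteField.ringEquivOfCardEq (by rw [h4]; rfl)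
  let pad : (Fin n → F) → Fin 6 → K4 := fun v i => if h : i.val < n then φ (v ⟨i, h⟩) else 0
  let cut : ℕ → Fin n → F := fun c i => φ.symm (vec c (Fin.castLE hn6 i))
  have pad_cut : ∀ c, ptN n c = true → pad (cut c) = vec c := fun c hc => funext fun i => by
    by_cases h : i.val < n
    · simp [pad, cut, h]
    · simp [pad, h, (ptN_iff.mp hc).2 i (not_lt.mp h)]
  have pad_hf : ∀ u w, hermForm 6 K4 2 (pad u) (pad w) = φ (hermForm n F 2 u w) := fun u w => by
    simp only [hermForm, map_sum, map_mul, map_pow]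
    symm
    refine Fintype.sum_of_injective (Fin.castLE hn6) (Fin.castLE_injective hn6) _ _ (fun i hi => ?_) fun i => ?_
    · have : ¬ i.val < n := fun h => hi ⟨⟨i, h⟩, rfl⟩
      simp [pad, this]
    · simp [pad]
  have pad_inj : Function.Injective pad := fun u w e => funext fun i => by
    simpa [pad] using congrFun e (Fin.castLE hn6 i)
  have pad_zero : pad 0 = 0 := funext fun i => by by_cases h : i.val < n <;> simp [pad, h]
  have pad_smul : ∀ a u, pad (a • u) = φ a • pad u := fun a u => funext fun i => by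
    by_cases h : i.val < n <;> simp [pad, h]
  have pad_add : ∀ u w, pad (u + w) = pad u + pad w := fun u w => funext fun i => by
    by_cases h : i.val < n <;> simp [pad, h]
  have iso : ∀ c, ptN n c = true → hermForm n F 2 (cut c) (cut c) = 0 := fun c hc => φ.injective (by
    rw [← pad_hf, pad_cut c hc, map_zero]; exact U6Code.iso_of_isPt (ptN_iff.mp hc).1)
  have nz : ∀ c, ptN n c = true → cut c ≠ 0 := fun c hc e =>
    U6Code.vec_ne_zero (U6Code.ne_zero_of_isPt (ptN_iff.mp hc).1) (U6Code.lt_of_isPt (ptN_iff.mp hc).1)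
      (by rw [← pad_cut c hc, e, pad_zero])
  let pt : ℕ → X := fun c => if h : ptN n c = true then τ.symm (U6.root h4 (iso c h)) else 1
  have hpt : ∀ c (h : ptN n c = true), τ (pt c) = U6.root h4 (iso c h) := fun c h => by simp [pt, h]
  have code : ∀ (v : Fin n → F), v ≠ 0 → ∀ hv : hermForm n F 2 v v = 0, ∀ x : ℕ, vec x = pad v → x < 4096 →
      ∃ h : ptN n (nrm x) = true, τ (pt (nrm x)) = U6.root h4 hv := by
    intro v hv0 hv x hx hx4
    have hx0 : x ≠ 0 := fun e => hv0 (pad_inj (by rw [← hx, e, vec_zero, pad_zero]))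
    obtain ⟨s, s1, s4, hs⟩ := nrm_eq hx4
    have hP : isPt (nrm x) = true := (U6Code.pts_surj x hx4 ((adj_iff x x).2 (by
      rw [hx, pad_hf, hv, map_zero]))).resolve_left hx0
    have hev : vec (nrm x) = pad (φ.symm (K4.of s) • v) := by
      rw [hs, vec_smul s4, hx, pad_smul, φ.apply_symm_apply]
    have hN : ptN n (nrm x) = true := ptN_iff.mpr ⟨hP, fun i hi => by
      rw [hev]; simp [pad, not_lt.mpr hi]⟩
    have hc : cut (nrm x) = φ.symm (K4.of s) • v := pad_inj (by rw [pad_cut _ hN, hev])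
    refine ⟨hN, ?_⟩
    rw [hpt _ hN, U6.root_congr h4 (iso _ hN) (hc ▸ iso _ hN) hc]
    refine U6.root_smul h4 hv (fun e => ?_) _
    exact U6Code.of_ne_zero s1 s4 (by rw [← φ.apply_symm_apply (K4.of s), e, map_zero])
  refine ⟨⟨pt, fun c hc => ?_, fun u hu => ?_, fun c d hc hd e => ?_, fun c d hc hd => ?_,
    fun p c hp hc => ?_⟩⟩
  · have h : τ (pt c) ∈ τ '' E := by rw [hτ, hpt c hc]; exact ⟨_, nz c hc, _, rfl⟩
    obtain ⟨u, hu, e⟩ := h
    exact τ.injective e ▸ hu
  · obtain ⟨v, hv0, hv, e⟩ : τ u ∈ U6.roots h4 n := hτ ▸ ⟨u, hu, rfl⟩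
    obtain ⟨x, hx4, hx⟩ := exists_vec (pad v)
    obtain ⟨hN, e'⟩ := code v hv0 hv x hx hx4
    exact ⟨_, hN, τ.injective (e'.trans e)⟩
  · have e' := congrArg τ e
    rw [hpt c hc, hpt d hd] at e'
    obtain ⟨a, -, ea⟩ := U6.root_eq h4 hn (iso c hc) (iso d hd) (nz c hc) e'
    refine U6Code.eq_of_smul_vec (ptN_iff.mp hc).1 (ptN_iff.mp hd).1 (a := φ a) ?_
    rw [← pad_cut c hc, ← pad_cut d hd, ea, pad_smul]
  · rw [show Commute (pt c) (pt d) ↔ Commute (τ (pt c)) (τ (pt d)) from
      ⟨fun k => k.map τ, fun k => by simpa using k.map τ.symm⟩, hpt c hc, hpt d hd,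
      U6.root_commute h4 hn _ _ (nz c hc) (nz d hd), adj_iff, ← pad_cut c hc, ← pad_cut d hd, pad_hf,
      map_eq_zero_iff φ φ.injective]
  · have hP := iso p hp
    have hC := iso c hc
    have ev : suVal (tv h4 hP) *ᵥ cut c = cut c + hermForm n F 2 (cut c) (cut p) • cut p := by
      rw [suVal_tv h4, T_apply h4]
    have key : τ (pt p * pt c * pt p) = U6.root h4 (v := suVal (tv h4 hP) *ᵥ cut c) (by rw [su_form]; exact hC) := by
      rw [map_mul, map_mul, hpt p hp, hpt c hc]
      simp only [U6.root, ← map_mul]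
      congr 1
      conv_lhs => arg 2; rw [← inv_eq_of_mul_eq_one_right (tv_mul_self h4 hP)]
      exact suVal_conj h4 _ hC
    by_cases h : adj c p = true
    · have e : U6Code.refl p c = c := by simp [U6Code.refl, h]
      have h0 : hermForm n F 2 (cut c) (cut p) = 0 := φ.injective (by
        rw [← pad_hf, pad_cut c hc, pad_cut p hp, map_zero]; exact (adj_iff c p).1 h)
      rw [e]
      refine ⟨hc, τ.injective (key.trans ?_)⟩
      rw [hpt c hc]
      exact U6.root_congr h4 _ _ (by rw [ev, h0, zero_smul, add_zero])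
    · obtain ⟨x, hx⟩ : ∃ x, x = c ^^^ U6Code.smul (U6Code.hv c p) p := ⟨_, rfl⟩
      have e : U6Code.refl p c = nrm x := by simp [U6Code.refl, Bool.eq_false_iff.2 h, hx]
      have evx : vec x = pad (suVal (tv h4 hP) *ᵥ cut c) := by
        rw [ev, pad_add, pad_smul, ← pad_hf, pad_cut c hc, pad_cut p hp, hx, vec_xor, vec_smul (hv_lt c p), of_hv]
      have hne : suVal (tv h4 hP) *ᵥ cut c ≠ 0 := fun k => nz c hc (by
        have k2 := congrArg (suVal (tv h4 hP) *ᵥ ·) k
        simpa only [Matrix.mulVec_mulVec, ← suVal_mul, tv_mul_self h4 hP, Matrix.mulVec_zero,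
          show suVal (1 : SU n F 2) = 1 from rfl, Matrix.one_mulVec] using k2)
      obtain ⟨hN, e'⟩ := code _ hne (by rw [su_form]; exact hC) x evx
        (hx ▸ Nat.xor_lt_two_pow (n := 12) (U6Code.lt_of_isPt (ptN_iff.mp hc).1) (smul_lt _ _))
      rw [e]
      exact ⟨hN, τ.injective (key.trans e'.symm)⟩

end Cfsg.Agent.Spor.FischerThm
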