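import Cfsg.Agent.Lib.Spor.FischerThm.Basic
import Cfsg.Agent.Lib.Grp.PolarRec.Symp

/-! Classes with additive commuting rows are determined by one pair and its perpendicular. -/

set_option autoImplicit false
set_option linter.style.haveILetI false
set_option linter.unusedSectionVars false

namespace Cfsg.Agent.Spor.FischerThm

open Cfsg Cfsg.Agent.Spor.ThreeTrans Cfsg.Agent.Block.FischerTypes
open Cfsg.Agent.Spor.ThreeTrans renaming mul_self → dsq
open Cfsg.Agent.Grp.PolarRec (row row_comm row_nc iso_of_equivariant)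

variable {G : Type*} [Group G] {D : Set G}

/-- Nobody is apart from all three members of a line. -/
def RowAdd (D : Set G) : Prop :=
  ∀ a ∈ D, ∀ b ∈ D, ¬ Commute a b → ∀ f ∈ D, ¬ Commute f a → ¬ Commute f b → Commute f (a * b * a)

theorem line_comm {a b f : G} (hfa : Commute f a) (hfb : Commute f b) : Commute f (a * b * a) :=
  (hfa.mul_right hfb).mul_right hfa

theorem line_apart (h : IsThreeTranspositionClass D) {a b f : G} (ha : a ∈ D)
    (hfa : Commute f a) (hfb : ¬ Commute f b) : ¬ Commute f (a * b * a) := fun k => hfb (by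
  have := (hfa.mul_right k).mul_right hfa
  simpa [mul_assoc, mul_self_mul h.1 ha, dsq h.1 ha] using this)

theorem row_symm {a f : G} (ha : a ∈ D) (hf : f ∈ D) : row D a f = row D f a := by
  by_cases k : Commute a f
  · rw [row_comm k, row_comm k.symm]
  · rw [row_nc hf k, row_nc ha fun e => k e.symm]

theorem row_eq_row {X : Type*} [Group X] {E : Set X} {a f : G} {b e : X} (hf : f ∈ D) (he : e ∈ E)
    (hiff : Commute a f ↔ Commute b e) : row D a f = row E b e := by
  by_cases k : Commute a f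
  · rw [row_comm k, row_comm (hiff.mp k)]
  · rw [row_nc hf k, row_nc he fun e' => k (hiff.mpr e')]

theorem row_iff {X : Type*} [Group X] {E : Set X} {a f : G} {b e : X} (hf : f ∈ D) (he : e ∈ E)
    (heq : row D a f = row E b e) : Commute a f ↔ Commute b e := by
  constructor
  · intro k
    by_contra k'
    rw [row_comm k, row_nc he k'] at heq
    exact zero_ne_one heq
  · intro k
    by_contra k'
    rw [row_comm k, row_nc hf k'] at heq
    exact one_ne_zero heq

/-- Rows add along lines. -/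
theorem row_add (h : IsThreeTranspositionClass D) (hR : RowAdd D) {a b f : G} (ha : a ∈ D)
    (hb : b ∈ D) (hab : ¬ Commute a b) (hf : f ∈ D) :
    row D (a * b * a) f = row D a f + row D b f := by
  have two : (1 : ZMod 2) + 1 = 0 := rfl
  by_cases ka : Commute a f
  · by_cases kb : Commute b f
    · rw [row_comm ka, row_comm kb, row_comm (line_comm ka.symm kb.symm).symm, add_zero]
    · rw [row_comm ka, row_nc hf kb,
        row_nc hf fun k => line_apart h ha ka.symm (fun e => kb e.symm) k.symm, zero_add]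
  · by_cases kb : Commute b f
    · have e : a * b * a = b * a * b := braid h.1 ha hb hab
      rw [row_nc hf ka, row_comm kb, e,
        row_nc hf fun k => line_apart h hb kb.symm (fun e => ka e.symm) k.symm, add_zero]
    · rw [row_nc hf ka, row_nc hf kb, two,
        row_comm (hR a ha b hb hab f hf (fun e => ka e.symm) fun e => kb e.symm).symm]

/-- A set of members stable under a generating set is everything. -/
theorem stable_all (h : IsThreeTranspositionClass D) {S : Set G} (hS : S ⊆ D)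
    (hgen : Subgroup.closure S = ⊤) {A : Set G} (hA : A ⊆ D) (hne : A.Nonempty)
    (hcl : ∀ s ∈ S, ∀ e ∈ A, s * e * s ∈ A) : ∀ e ∈ D, e ∈ A := by
  have all : ∀ g : G, ∀ e ∈ A, g * e * g⁻¹ ∈ A := by
    intro g
    have hg : g ∈ Subgroup.closure S := hgen ▸ Subgroup.mem_top g
    induction hg using Subgroup.closure_induction_left with
    | one => simp
    | mul_left s hs y _ ih =>
      intro e he
      simpa [mul_assoc, inv_eq h.1 (hS hs)] using hcl s hs _ (ih e he)
    | inv_mul_cancel s hs y _ ih =>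
      intro e he
      simpa [mul_assoc, inv_eq h.1 (hS hs)] using hcl s hs _ (ih e he)
  intro e he
  obtain ⟨a, ha⟩ := hne
  obtain ⟨g, rfl⟩ := transitive h (hA ha) he
  exact all g a ha

/-- One pair and the perpendicular of its first member generate. -/
theorem closure_local (h : IsThreeTranspositionClass D) (hR : RowAdd D) {d c : G} (hd : d ∈ D)
    (hc : c ∈ D) (hdc : ¬ Commute d c) :
    Subgroup.closure (insert d (insert c (perp D d))) = ⊤ := by
  set H := Subgroup.closure (insert d (insert c (perp D d)))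
  have hdH : d ∈ H := Subgroup.subset_closure (Set.mem_insert _ _)
  have hcH : c ∈ H := Subgroup.subset_closure (Set.mem_insert_of_mem _ (Set.mem_insert _ _))
  have hp : ∀ x ∈ D, Commute x d → x ∈ H := fun x hx k => by
    by_cases e : x = d
    · exact e ▸ hdH
    · exact Subgroup.subset_closure (Set.mem_insert_of_mem _ (Set.mem_insert_of_mem _ ⟨hx, e, k.symm⟩))
  have both : ∀ x ∈ D, ¬ Commute x d → ¬ Commute x c → x ∈ H := by
    intro x hx kd kc
    have k := hR x hx c hc kc d hd (fun e => kd e.symm) hdc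
    rw [braid h.1 hx hc kc] at k
    have := mul_mem (mul_mem hcH (hp _ (conj'_mem h hc hx) k.symm)) hcH
    simpa [mul_assoc, dsq h.1 hc, mul_self_mul h.1 hc] using this
  rw [eq_top_iff, ← h.2.2, Subgroup.closure_le]
  intro x hx
  by_cases kd : Commute x d
  · exact hp x hx kd
  by_cases kc : Commute x c
  · have hy : d * x * d ∈ H := both _ (conj'_mem h hd hx)
      (fun k => line_apart h hd (Commute.refl d) (fun e => kd e.symm) k.symm)
      (fun k => by
        rw [braid h.1 hd hx fun e => kd e.symm] at k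
        exact line_apart h hx kc.symm (fun e => hdc e.symm) k.symm)
    have := mul_mem (mul_mem hdH hy) hdH
    simpa [mul_assoc, dsq h.1 hd, mul_self_mul h.1 hd] using this
  · exact both x hx kd kc

/-- Two classes with additive rows are matched by one pair and its perpendicular. -/
theorem ident [Finite G] (g : Good D) (hR : RowAdd D) {X : Type*} [Group X] {E : Set X}
    (hE : IsThreeTranspositionClass E) (hX : Subgroup.center X = ⊥) (hRE : RowAdd E)
    (htw : TwinFree E) {d c : G} (hd : d ∈ D) (hc : c ∈ D) (hdc : ¬ Commute d c)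
    {d' c' : X} (hd' : d' ∈ E) (hc' : c' ∈ E) (hdc' : ¬ Commute d' c') (σ : G → X)
    (hσ : ∀ u ∈ perp D d, σ u ∈ perp E d') (hσs : ∀ y ∈ perp E d', ∃ u ∈ perp D d, σ u = y)
    (hcomm : ∀ u ∈ perp D d, ∀ v ∈ perp D d, Commute (σ u) (σ v) ↔ Commute u v)
    (hcσ : ∀ u ∈ perp D d, Commute c' (σ u) ↔ Commute c u) :
    ∃ τ : G ≃* X, τ '' D = E := by
  classical
  have h := g.cls
  set S : Set G := insert d (insert c (perp D d)) with hSdef
  let sg : G → X := fun s => if s = d then d' else if s = c then c' else σ s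
  have hcd : c ≠ d := fun e => hdc (e ▸ Commute.refl d)
  have sd : sg d = d' := if_pos rfl
  have sc : sg c = c' := (if_neg hcd).trans (if_pos rfl)
  have su : ∀ u ∈ perp D d, sg u = σ u := fun u hu => by
    have : u ≠ c := fun e => hdc (e ▸ hu.2.2)
    simp only [sg, if_neg hu.2.1, if_neg this]
  have hSD : S ⊆ D := by
    rintro s (rfl | rfl | hs)
    exacts [hd, hc, hs.1]
  have hS' : ∀ s ∈ S, sg s ∈ E := by
    rintro s (rfl | rfl | hs)
    exacts [sd ▸ hd', sc ▸ hc', su s hs ▸ (hσ s hs).1]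
  have sgc : ∀ s ∈ S, ∀ t ∈ S, Commute (sg s) (sg t) ↔ Commute s t := by
    have t1 : ∀ u ∈ perp D d, (Commute d' (σ u) ↔ Commute d u) := fun u hu =>
      iff_of_true (hσ u hu).2.2 hu.2.2
    rintro s (rfl | rfl | hs) t (rfl | rfl | ht)
    · exact iff_of_true (Commute.refl _) (Commute.refl _)
    · rw [sd, sc]; exact iff_of_false hdc' hdc
    · rw [sd, su t ht]; exact t1 t ht
    · rw [sc, sd]; exact iff_of_false (fun k => hdc' k.symm) fun k => hdc k.symm
    · exact iff_of_true (Commute.refl _) (Commute.refl _)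
    · rw [sc, su t ht]; exact hcσ t ht
    · rw [su s hs, sd]; exact Commute.symm_iff.trans ((t1 s hs).trans Commute.symm_iff)
    · rw [su s hs, sc]; exact Commute.symm_iff.trans ((hcσ s hs).trans Commute.symm_iff)
    · rw [su s hs, su t ht]; exact hcomm s hs t ht
  have hgen := closure_local h hR hd hc hdc
  have hgen' : Subgroup.closure (sg '' S) = ⊤ := by
    rw [eq_top_iff, ← closure_local hE hRE hd' hc' hdc']
    refine Subgroup.closure_mono ?_
    rintro y (rfl | rfl | hy)
    · exact ⟨d, Or.inl rfl, sd⟩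
    · exact ⟨c, Or.inr (Or.inl rfl), sc⟩
    · obtain ⟨u, hu, rfl⟩ := hσs y hy
      exact ⟨u, Or.inr (Or.inr hu), su u hu⟩
  have hS'E : sg '' S ⊆ E := by rintro _ ⟨s, hs, rfl⟩; exact hS' s hs
  let Rel : G → X → Prop := fun x y =>
    x ∈ D ∧ y ∈ E ∧ ∀ s ∈ S, row D x s = row E y (sg s)
  have base : ∀ s ∈ S, Rel s (sg s) := fun s hs =>
    ⟨hSD hs, hS' s hs, fun t ht => row_eq_row (hSD ht) (hS' t ht) (sgc s hs t ht).symm⟩
  have step : ∀ s ∈ S, ∀ x y, Rel x y → Rel (s * x * s) (sg s * y * sg s) := by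
    intro s hs x y hxy
    obtain ⟨hx, hy, hr⟩ := hxy
    have hsD := hSD hs
    have hsE := hS' s hs
    have hiff : Commute x s ↔ Commute y (sg s) := row_iff hsD hsE (hr s hs)
    refine ⟨conj'_mem h hsD hx, conj'_mem hE hsE hy, fun t ht => ?_⟩
    by_cases k : Commute x s
    · rw [← k.eq, mul_assoc, dsq h.1 hsD, mul_one, ← (hiff.mp k).eq, mul_assoc, dsq hE.1 hsE, mul_one]
      exact hr t ht
    · rw [row_add h hR hsD hx (fun e => k e.symm) (hSD ht),
        row_add hE hRE hsE hy (fun e => k (hiff.mpr e.symm)) (hS' t ht), hr t ht,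
        row_eq_row (hSD ht) (hS' t ht) (sgc s hs t ht).symm]
  have uniq : ∀ x y z, Rel x y → Rel x z → y = z := by
    intro x y z h1 h2
    refine htw y z ⟨h1.2.1, h2.2.1, fun e he => ?_⟩
    have hall := stable_all hE hS'E hgen' (A := {e | e ∈ E ∧ row E y e = row E z e})
      (fun e k => k.1) ⟨sg d, hS' d (Or.inl rfl), (h1.2.2 d (Or.inl rfl)).symm.trans (h2.2.2 d (Or.inl rfl))⟩
      (fun s' hs' e ⟨he, k⟩ => by
        obtain ⟨s, hs, rfl⟩ := hs'
        have hsE := hS' s hs
        refine ⟨conj'_mem hE hsE he, ?_⟩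
        by_cases c1 : Commute (sg s) e
        · rw [c1.eq, mul_assoc, dsq hE.1 hsE, mul_one]; exact k
        · rw [row_symm h1.2.1 (conj'_mem hE hsE he), row_symm h2.2.1 (conj'_mem hE hsE he),
            row_add hE hRE hsE he c1 h1.2.1, row_add hE hRE hsE he c1 h2.2.1,
            row_symm hsE h1.2.1, row_symm hsE h2.2.1, row_symm he h1.2.1, row_symm he h2.2.1,
            ← h1.2.2 s hs, ← h2.2.2 s hs, k]) e he
    exact row_iff he he hall.2
  have exi : ∀ x ∈ D, ∃ y, Rel x y := by
    intro x hx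
    exact (stable_all h hSD hgen (A := {x | ∃ y, Rel x y}) (fun x ⟨y, k⟩ => k.1)
      ⟨d, _, base d (Or.inl rfl)⟩ (fun s hs e ⟨y, k⟩ => ⟨_, step s hs e y k⟩) x hx)
  let φ : G → X := fun x => if hx : x ∈ D then (exi x hx).choose else 1
  have hφ : ∀ x ∈ D, Rel x (φ x) := fun x hx => by
    simp only [φ, dif_pos hx]; exact (exi x hx).choose_spec
  have φS : ∀ s ∈ S, φ s = sg s := fun s hs => uniq s _ _ (hφ s (hSD hs)) (base s hs)
  have hsurj : ∀ y ∈ E, ∃ x ∈ D, φ x = y := fun y hy => by
    refine stable_all hE hS'E hgen' (A := {y | ∃ x ∈ D, φ x = y}) (fun y ⟨x, hx, e⟩ => e ▸ (hφ x hx).2.1)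
      ⟨_, d, hd, rfl⟩ ?_ y hy
    rintro _ ⟨s, hs, rfl⟩ _ ⟨x, hx, rfl⟩
    exact ⟨s * x * s, conj'_mem h (hSD hs) hx,
      uniq _ _ _ (hφ _ (conj'_mem h (hSD hs) hx)) (step s hs x _ (hφ x hx))⟩
  obtain ⟨τ, hτ⟩ := iso_of_equivariant hE hX ⟨d', hd', c', hc', fun e => hdc' (e ▸ Commute.refl d')⟩
    g.hyp g.cen φ (fun x hx => (hφ x hx).2.1) hsurj hSD hgen fun s hs x hx => by
      rw [φS s hs]
      exact uniq _ _ _ (hφ _ (conj'_mem h (hSD hs) hx)) (step s hs x _ (hφ x hx))
  refine ⟨τ, Set.ext fun y => ⟨?_, fun hy => ?_⟩⟩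
  · rintro ⟨x, hx, rfl⟩
    rw [hτ x hx]; exact (hφ x hx).2.1
  · obtain ⟨x, hx, rfl⟩ := hsurj y hy
    exact ⟨x, hx, hτ x hx⟩

/-- Rows add as soon as no member misses a line of the perpendicular. -/
theorem rowAdd_of_meets [Finite G] (S : Setting D) {d : G} (hd : d ∈ D)
    (hE : RowAdd (perpSet D d))
    (hM : ∀ c ∈ D, ¬ Commute d c → ∀ a ∈ perp D d, ∀ b ∈ perp D d, ¬ Commute a b →
      Commute c a ∨ Commute c b ∨ Commute c (a * b * a)) : RowAdd D := by
  intro a ha b hb hab f hf hfa hfb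
  have h := S.cls
  obtain ⟨x, hx⟩ := (meets_linked S ha hb hab).1
  obtain ⟨g, rfl⟩ := transitive h hd hx.1.1
  have pull1 : ∀ {u}, g * d * g⁻¹ ∈ perp D u → u ∈ D → g⁻¹ * u * g ∈ perp D d := fun {u} k hu => by
    have := perp_symm' S hu k
    rw [← conj_mem_perp h g d]
    simpa [mul_assoc] using this
  have ha' := pull1 hx.1 ha
  have hb' := pull1 hx.2 hb
  have cj : ∀ u v : G, Commute (g⁻¹ * u * g) (g⁻¹ * v * g) ↔ Commute u v := fun u v => by
    have := commute_conj_iff g⁻¹ u v
    rwa [inv_inv] at this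
  have hf' : g⁻¹ * f * g ∈ D := by simpa using conj_mem h g⁻¹ hf
  have e3 : g⁻¹ * a * g * (g⁻¹ * b * g) * (g⁻¹ * a * g) = g⁻¹ * (a * b * a) * g := by group
  by_cases k : Commute d (g⁻¹ * f * g)
  · by_cases e : g⁻¹ * f * g = d
    · exact absurd ((cj f a).mp (e.symm ▸ ha'.2.2)) hfa
    have hfp : g⁻¹ * f * g ∈ perp D d := ⟨hf', e, k⟩
    have hw : g⁻¹ * a * g * (g⁻¹ * b * g) * (g⁻¹ * a * g) ∈ perp D d := by
      have := perp_conj' h ha'.2.2.symm hb'
      rwa [inv_eq h.1 ha'.1] at this
    have hE' := hE _ (pr_mem ha') _ (pr_mem hb')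
      (fun k => hab ((cj a b).mp (commute_of_pr h S.tf hd ha' hb' k))) _ (pr_mem hfp)
      (fun k => hfa ((cj f a).mp (commute_of_pr h S.tf hd hfp ha' k)))
      (fun k => hfb ((cj f b).mp (commute_of_pr h S.tf hd hfp hb' k)))
    have k2 := commute_of_pr h S.tf hd hfp hw hE'
    rw [e3] at k2
    exact (cj f (a * b * a)).mp k2
  · rcases hM _ hf' k _ ha' _ hb' (fun k => hab ((cj a b).mp k)) with k1 | k1 | k1
    · exact absurd ((cj f a).mp k1) hfa
    · exact absurd ((cj f b).mp k1) hfb
    · rw [e3] at k1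
      exact (cj f (a * b * a)).mp k1

end Cfsg.Agent.Spor.FischerThm
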