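import Cfsg.Agent.Lib.Spor.FischerThm.Srg
import Cfsg.Agent.Lib.Block.FischerTypes.M23Structure
import Cfsg.Agent.Lib.Block.FischerTypes.M23Up.Final
import Cfsg.Agent.Lib.Block.FischerTypes.M24Below

/-! Type M(22) below a member gives type M(23). -/

set_option autoImplicit false
set_option linter.style.haveILetI false
set_option linter.unusedSectionVars false

namespace Cfsg.Agent.Spor.FischerThm

open Cfsg Cfsg.Agent.Spor.ThreeTrans Cfsg.Agent.Block.FischerTypes

universe u

variable {G : Type u} [Group G] [Finite G] {D : Set G}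

theorem good_group {X : Type*} [Group X] [Finite X] {E : Set X} (g : Good E) : IsThreeTranspositionGroup E :=
  ⟨g.cls.1, fun k _ hx => conj_mem g.cls k hx, g.cls.2.2⟩

theorem class_conjugates (h : IsThreeTranspositionClass D) {d : G} (hd : d ∈ D) : D = conjugatesOf d :=
  Set.ext fun x => ⟨fun hx => by
    obtain ⟨r, hr⟩ := transitive h hd hx
    exact isConj_iff.mpr ⟨r, hr⟩, fun hx => by
    obtain ⟨r, rfl⟩ := isConj_iff.mp hx
    exact conj_mem h r hd⟩

/-- Type M(22) below gives type M(23). -/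
theorem m22_case (g : Good D) (S : Setting D) {d : G} (hd : d ∈ D)
    (h22 : IsOfTypeM22 (PerpQuot D d) (perpSet D d)) : IsOfTypeM23 G D := by
  have h := S.cls
  have hall : ∀ a ∈ D, IsOfTypeM22 (PerpQuot D a) (perpSet D a) := fun a ha => by
    obtain ⟨σ, hσ⟩ := quot_iso S hd ha
    rw [← hσ]
    exact m22_map σ h22
  have B : M23.Base D := ⟨S, g.cen,
    fun a ha => M22.ctx (good_group (good_quot S ha)) (good_quot S ha).primitive (hall a ha),
    fun a ha c hc k => (meets_linked S ha hc k).1, fun a ha c hc k => (meets_linked S ha hc k).2,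
    fun a ha => exists_not_commute h (two_of_nc S.hyp) ha⟩
  have key : ∀ L : Subgroup G, L = PerpGroup D d → IsQuasisimple ↥L ∧
      (Subgroup.zpowers d).subgroupOf L = Subgroup.center ↥L ∧
      ∃ E : Set (↥L ⧸ Subgroup.center ↥L), IsThreeTranspositionClass E ∧ IsOfTypeM22 _ E := by
    rintro _ rfl
    exact ⟨M23.quasisimple B hd, (M23.centre B hd).symm, perpSet D d, (good_quot S hd).cls, h22⟩
  obtain ⟨hq, hz, E, hE, hE'⟩ := key _ (M23.centralizer_eq B hd)
  haveI hn : ((Subgroup.zpowers d).subgroupOf (Subgroup.centralizer ({d} : Set G))).Normal := by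
    rw [hz]; infer_instance
  have htype : ∃ E : Set (↥(Subgroup.centralizer ({d} : Set G)) ⧸
      (Subgroup.zpowers d).subgroupOf (Subgroup.centralizer ({d} : Set G))),
      IsThreeTranspositionClass E ∧ IsOfTypeM22 _ E :=
    ⟨_, class_image (QuotientGroup.quotientMulEquivOfEq hz.symm) hE,
      m22_map (QuotientGroup.quotientMulEquivOfEq hz.symm) hE'⟩
  obtain ⟨I⟩ := Block.M23Up.exists_ident (h.1.1 d hd) hq (Block.M23Up.quot_iso_of_type hq htype)
  obtain ⟨v, hv⟩ := S.perp_ne d hd
  obtain ⟨k, hk⟩ := transitive h hd hv.1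
  rw [class_conjugates h hd]
  exact (Block.M23Up.fi23_facts I
    ⟨k, Subgroup.mem_centralizer_singleton_iff.mpr (by rw [hk]; exact hv.2.2.symm.eq), by rw [hk]; exact hv.2.1⟩).2.1

end Cfsg.Agent.Spor.FischerThm
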