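import Cfsg.Agent.Lib.Spor.FischerThm.Basic
import Cfsg.Agent.Lib.Invol.FischerCore.SrgSquare

/-! The commuting graph of a setting is strongly regular: the integrality condition on its parameters. -/

set_option autoImplicit false
set_option linter.style.haveILetI false
set_option linter.unusedSectionVars false

namespace Cfsg.Agent.Spor.FischerThm

open Cfsg Cfsg.Agent.Spor.ThreeTrans Cfsg.Agent.Block.FischerTypes
open Matrix

section Mat

variable {V : Type*} [Fintype V] [DecidableEq V]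

/-- A real symmetric matrix with `C³ = r² C` has trace a multiple of `r`. -/
theorem trace_dvd {C : Matrix V V ℝ} (hC : C.IsHermitian) {r : ℕ}
    (h3 : C * C * C = ((r * r : ℕ) : ℝ) • C) {T : ℤ} (htr : C.trace = (T : ℝ)) : (r : ℤ) ∣ T := by
  classical
  have hev : ∀ i, hC.eigenvalues i = 0 ∨ hC.eigenvalues i = r ∨ hC.eigenvalues i = -(r : ℝ) := by
    intro i
    set l := hC.eigenvalues i with hl
    set b : V → ℝ := ⇑(hC.eigenvectorBasis i) with hb
    have h1 : C *ᵥ b = l • b := by rw [hb, hl]; exact hC.mulVec_eigenvectorBasis i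
    have hb0 : b ≠ 0 := fun e => by
      exact hC.eigenvectorBasis.orthonormal.ne_zero i (by ext j; exact congrFun e j)
    have h2 : (C * C * C) *ᵥ b = (l * l * l) • b := by
      rw [← mulVec_mulVec, ← mulVec_mulVec, h1, mulVec_smul, h1, smul_smul, mulVec_smul, h1, smul_smul]
    rw [h3, smul_mulVec, h1, smul_smul] at h2
    have h4 : (l * l * l - ((r * r : ℕ) : ℝ) * l) • b = 0 := by rw [sub_smul, h2, sub_self]
    have h5 := (smul_eq_zero.mp h4).resolve_right hb0
    push_cast at h5
    have h6 : l * (l - r) * (l + r) = 0 := by linarith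
    rcases mul_eq_zero.mp h6 with h7 | h7
    · rcases mul_eq_zero.mp h7 with h8 | h8
      · exact Or.inl h8
      · exact Or.inr (Or.inl (by linarith))
    · exact Or.inr (Or.inr (by linarith))
  obtain ⟨n, hn⟩ : ∃ n : ℤ, C.trace = (n : ℝ) * r := by
    refine ⟨∑ i, if hC.eigenvalues i = 0 then 0 else if hC.eigenvalues i = r then 1 else -1, ?_⟩
    rw [hC.trace_eq_sum_eigenvalues, Int.cast_sum, Finset.sum_mul]
    refine Finset.sum_congr rfl fun i _ => ?_
    simp only [RCLike.ofReal_real_eq_id, id_eq]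
    by_cases h0 : hC.eigenvalues i = 0
    · simp [h0]
    by_cases hp : hC.eigenvalues i = (r : ℝ)
    · rw [if_neg h0, if_pos hp, hp]; simp
    · rw [if_neg h0, if_neg hp]
      rcases hev i with h | h | h
      · exact absurd h h0
      · exact absurd h hp
      · rw [h]; simp
  rw [htr] at hn
  exact ⟨n, by exact_mod_cast hn.trans (mul_comm _ _)⟩

/-- Integrality for a strongly regular graph. -/
theorem srg_matrix [Nonempty V] (A : Matrix V V ℝ) (hA : A.IsHermitian) (hdiag : A.trace = 0)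
    {k lam mu : ℕ} (hmu : mu ≤ k)
    (hJ : A * (Matrix.of fun _ _ => (1 : ℝ)) = (k : ℝ) • (Matrix.of fun _ _ => (1 : ℝ)))
    (hsq : A * A = (mu : ℝ) • (Matrix.of fun _ _ => (1 : ℝ)) + ((lam : ℝ) - mu) • A +
      ((k : ℝ) - mu) • (1 : Matrix V V ℝ)) :
    ((Fintype.card V : ℤ) - 1) * ((mu : ℤ) - lam) - 2 * k = 0 ∨
      ∃ r : ℕ, ((r * r : ℕ) : ℤ) = ((mu : ℤ) - lam) * ((mu : ℤ) - lam) + 4 * ((k : ℤ) - mu) ∧
        (r : ℤ) ∣ ((Fintype.card V : ℤ) - 1) * ((mu : ℤ) - lam) - 2 * k := by
  classical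
  set J : Matrix V V ℝ := Matrix.of fun _ _ => (1 : ℝ) with hJdef
  set v : ℝ := (Fintype.card V : ℝ) with hv
  have hv0 : v ≠ 0 := by rw [hv]; exact_mod_cast Fintype.card_ne_zero
  have hJH : J.IsHermitian := by ext i j; simp [hJdef]
  have hJA : J * A = (k : ℝ) • J := by
    have := congrArg Matrix.conjTranspose hJ
    rw [conjTranspose_mul, hA.eq, hJH.eq, conjTranspose_smul, hJH.eq] at this
    simpa using this
  have hJJ : J * J = v • J := by ext i j; simp [hJdef, Matrix.mul_apply, hv]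
  have hcount : (mu : ℝ) * v + ((lam : ℝ) - mu) * k + ((k : ℝ) - mu) = k * k := by
    have h1 : A * A * J = ((mu : ℝ) • J + ((lam : ℝ) - mu) • A + ((k : ℝ) - mu) • (1 : Matrix V V ℝ)) * J := by
      rw [hsq]
    rw [Matrix.mul_assoc, hJ, Matrix.mul_smul, hJ, smul_smul, Matrix.add_mul, Matrix.add_mul, Matrix.smul_mul,
      Matrix.smul_mul, Matrix.smul_mul, Matrix.one_mul, hJJ, hJ, smul_smul, smul_smul] at h1
    obtain ⟨i⟩ := (inferInstance : Nonempty V)
    have := congrFun (congrFun h1 i) i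
    simp [hJdef] at this
    linarith
  set w : ℝ := (mu : ℝ) - lam with hw
  set s : ℝ := (2 * k + w) / v with hs
  obtain ⟨Δ, hΔ⟩ : ∃ Δ : ℕ, (Δ : ℤ) = ((mu : ℤ) - lam) * ((mu : ℤ) - lam) + 4 * ((k : ℤ) - mu) :=
    ⟨_, Int.toNat_of_nonneg (add_nonneg (mul_self_nonneg _) (by omega))⟩
  have hΔR : (Δ : ℝ) = w * w + 4 * ((k : ℝ) - mu) := by
    rw [hw]
    have := congrArg (Int.cast : ℤ → ℝ) hΔ
    push_cast at this
    exact this
  set C : Matrix V V ℝ := (2 : ℝ) • A + w • (1 : Matrix V V ℝ) - s • J with hC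
  have hCH : C.IsHermitian := by
    rw [hC, Matrix.IsHermitian, conjTranspose_sub, conjTranspose_add, conjTranspose_smul, conjTranspose_smul,
      conjTranspose_smul, hA.eq, hJH.eq, conjTranspose_one]
    simp
  have hCJ : C * J = 0 := by
    rw [hC, Matrix.sub_mul, Matrix.add_mul, Matrix.smul_mul, Matrix.smul_mul, Matrix.smul_mul, hJ, Matrix.one_mul,
      hJJ, smul_smul, smul_smul, ← add_smul, ← sub_smul, hs, div_mul_cancel₀ _ hv0, sub_self, zero_smul]
  have hJC : J * C = 0 := by
    have := congrArg Matrix.conjTranspose hCJ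
    rw [conjTranspose_mul, hCH.eq, hJH.eq, conjTranspose_zero] at this
    exact this
  have hCC : C * C = (Δ : ℝ) • (1 : Matrix V V ℝ) - ((Δ : ℝ) / v) • J := by
    rw [hC]
    simp only [Matrix.sub_mul, Matrix.mul_sub, Matrix.add_mul, Matrix.mul_add, Matrix.smul_mul, Matrix.mul_smul,
      Matrix.one_mul, Matrix.mul_one, hsq, hJ, hJA, hJJ]
    match_scalars
    · rw [hs, hΔR]; field_simp; rw [hw]; linear_combination (4 : ℝ) * hcount
    · rw [hw]; ring
    · rw [hΔR]; ring
  have h3 : C * C * C = (Δ : ℝ) • C := by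
    rw [hCC, Matrix.sub_mul, Matrix.smul_mul, Matrix.smul_mul, Matrix.one_mul, hJC, smul_zero, sub_zero]
  set T : ℤ := ((Fintype.card V : ℤ) - 1) * ((mu : ℤ) - lam) - 2 * k with hT
  have htr : C.trace = (T : ℝ) := by
    rw [hC, trace_sub, trace_add, trace_smul, trace_smul, trace_smul, hdiag, trace_one]
    have : J.trace = v := by simp [hJdef, Matrix.trace, hv]
    rw [this, smul_eq_mul, smul_eq_mul, smul_eq_mul, hs, div_mul_cancel₀ _ hv0, hw, hT]
    push_cast [hv]; ring
  by_cases hT0 : T = 0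
  · exact Or.inl hT0
  obtain ⟨r, rfl⟩ := Invol.FischerCore.isSquare_of_cube hCH h3 hT0 htr
  exact Or.inr ⟨r, hΔ, trace_dvd hCH h3 htr⟩

end Mat

/-- The test on the parameters. -/
def srgOK (k lam mu : ℕ) : Bool :=
  let v1 := k + k * (k - 1 - lam) / mu
  let a : ℤ := (mu : ℤ) - lam
  let T : ℤ := v1 * a - 2 * k
  let D := (a * a + 4 * ((k : ℤ) - mu)).toNat
  decide (k * (k - 1 - lam) % mu = 0) && (decide (T = 0) ||
    (decide (D.sqrt * D.sqrt = D) && decide (T % (D.sqrt : ℤ) = 0)))

variable {G : Type*} [Group G] [Finite G] {D : Set G}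

/-- An apart pair never has the whole perpendicular in common. -/
theorem mu_lt (S : Setting D) (hG : pCore 3 G = ⊥) {d c : G} (hd : d ∈ D) (hc : c ∈ D)
    (hdc : ¬ Commute d c) : (common D d c).ncard < (perp D d).ncard := by
  by_contra hle
  have h1 := Set.eq_of_subset_of_ncard_le (Set.inter_subset_left : common D d c ⊆ perp D d)
    (not_lt.mp hle) (Set.toFinite _)
  have h2 := Set.eq_of_subset_of_ncard_le (Set.inter_subset_right : common D d c ⊆ perp D c)
    ((perp_card_eq S hd hc).trans_le (not_lt.mp hle)) (Set.toFinite _)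
  have hp : perpThree D d c := ⟨hd, hc, h1.symm.trans h2⟩
  have := mul_mem_core_three S.cls hp
  rw [hG, Subgroup.mem_bot] at this
  rw [eq_inv_of_mul_eq_one_left this, inv_eq S.cls.1 hc] at hdc
  exact hdc (Commute.refl c)

/-- The parameters of a setting pass the test. -/
theorem srg_ok (S : Setting D) (hG : pCore 3 G = ⊥) {d c e : G} (hd : d ∈ D) (hc : c ∈ D)
    (hdc : ¬ Commute d c) (he : e ∈ perp D d) :
    1 ≤ (common D d c).ncard ∧ (common D d c).ncard < (perp D d).ncard ∧
      srgOK (perp D d).ncard (common D d e).ncard (common D d c).ncard = true := by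
  classical
  have hpos : 1 ≤ (common D d c).ncard :=
    (Set.ncard_pos (Set.toFinite _)).mpr (meets_linked S hd hc hdc).1
  have hlt := mu_lt S hG hd hc hdc
  refine ⟨hpos, hlt, ?_⟩
  have hcount := count S hd hc hdc he
  set k := (perp D d).ncard with hk
  set lam := (common D d e).ncard with hlam
  set mu := (common D d c).ncard with hmu
  haveI := Fintype.ofFinite ↥D
  haveI : Nonempty ↥D := ⟨⟨d, hd⟩⟩
  let A : Matrix ↥D ↥D ℝ := Matrix.of fun x y => if (y : G) ∈ perp D (x : G) then 1 else 0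
  have hsymm : ∀ x y : ↥D, (y : G) ∈ perp D (x : G) ↔ (x : G) ∈ perp D (y : G) := fun x y =>
    ⟨perp_symm' S x.2, perp_symm' S y.2⟩
  have hA : A.IsHermitian := by
    ext x y
    simp only [A, conjTranspose_apply, Matrix.of_apply, star_trivial, hsymm x y]
  have hcnt : ∀ P : Set G, P ⊆ D →
      ((Finset.univ.filter fun x : ↥D => (x : G) ∈ P).card : ℝ) = (P.ncard : ℝ) := by
    intro P hP
    rw [← Set.ncard_coe_finset, ← Set.ncard_image_of_injective _ Subtype.val_injective]
    congr 2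
    ext u
    simp only [Finset.coe_filter, Finset.mem_univ, true_and, Set.mem_image, Set.mem_setOf_eq]
    exact ⟨fun ⟨x, hx, e⟩ => e ▸ hx, fun hu => ⟨⟨u, hP hu⟩, hu, rfl⟩⟩
  have hrow : ∀ x : ↥D, ∑ y, A x y = (k : ℝ) := by
    intro x
    simp only [A, Matrix.of_apply, Finset.sum_boole]
    rw [hcnt _ (fun u hu => hu.1), hk, perp_card_eq S hd x.2]
  have hJ : A * (Matrix.of fun _ _ => (1 : ℝ)) = (k : ℝ) • (Matrix.of fun _ _ => (1 : ℝ)) := by
    ext x y
    simp [Matrix.mul_apply, hrow]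
  have hsq : A * A = (mu : ℝ) • (Matrix.of fun _ _ => (1 : ℝ)) + ((lam : ℝ) - mu) • A +
      ((k : ℝ) - mu) • (1 : Matrix ↥D ↥D ℝ) := by
    ext x y
    have e1 : (A * A) x y = ((common D (x : G) (y : G)).ncard : ℝ) := by
      rw [← hcnt _ (fun u hu => hu.1.1), Matrix.mul_apply, Finset.card_filter]
      push_cast
      refine Finset.sum_congr rfl fun z _ => ?_
      simp only [A, Matrix.of_apply, hsymm z y]
      by_cases h1 : (z : G) ∈ perp D (x : G) <;> by_cases h2 : (z : G) ∈ perp D (y : G) <;>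
        simp [h1, h2]
    rw [e1]
    simp only [A, Matrix.add_apply, Matrix.smul_apply, Matrix.of_apply, smul_eq_mul, Matrix.one_apply]
    by_cases hxy : x = y
    · subst hxy
      rw [if_neg (fun h => h.2.1 rfl), if_pos rfl,
        show common D (x : G) (x : G) = perp D (x : G) from Set.inter_self _, perp_card_eq S hd x.2]
      ring
    · rw [if_neg hxy]
      by_cases hcm : Commute (x : G) (y : G)
      · have hp : (y : G) ∈ perp D (x : G) := ⟨y.2, fun e' => hxy (Subtype.ext e'.symm), hcm⟩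
        rw [if_pos hp, lam_eq S hd he x.2 hp, ← hlam]; ring
      · rw [if_neg (fun h => hcm h.2.2), mu_eq S hd hc hdc x.2 y.2 hcm, ← hmu]; ring
  have htr : A.trace = 0 := by simp [A, Matrix.trace, perp]
  have key := srg_matrix A hA htr hlt.le hJ hsq
  have hv : (Fintype.card ↥D : ℤ) - 1 = ((k + k * (k - 1 - lam) / mu : ℕ) : ℤ) := by
    rw [← Nat.card_eq_fintype_card, Nat.card_coe_set_eq, split_class hd, ← hk, hcount,
      Nat.mul_div_cancel _ (by omega)]
    push_cast; ring
  have hdiv : k * (k - 1 - lam) % mu = 0 := by rw [hcount]; exact Nat.mul_mod_left _ _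
  simp only [srgOK, hdiv, decide_true, Bool.true_and]
  rw [← hv]
  rcases key with h0 | ⟨r, hr, hdvd⟩
  · simp only [h0, decide_true, Bool.true_or]
  · have e : (((mu : ℤ) - lam) * ((mu : ℤ) - lam) + 4 * ((k : ℤ) - mu)).toNat = r * r := by
      rw [← hr, Int.toNat_natCast]
    rw [e, Nat.sqrt_eq]
    simp only [decide_true, Bool.true_and, Bool.or_eq_true, decide_eq_true_eq]
    exact Or.inr (Int.emod_eq_zero_of_dvd hdvd)

end Cfsg.Agent.Spor.FischerThm
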