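import Cfsg.Agent.Lib.Spor.FischerThm.Ident
import Cfsg.Agent.S0439

/-! The transpositions of a symmetric group as a class with additive rows. -/

set_option autoImplicit false
set_option linter.style.haveILetI false
set_option linter.unusedSectionVars false

namespace Cfsg.Agent.Spor.FischerThm

open Cfsg Cfsg.Agent.Spor.ThreeTrans Cfsg.Agent.Block.FischerTypes
open Equiv (swap)

variable {α : Type*} [DecidableEq α]

theorem swap_ends {i j a b : α} (hij : i ≠ j) (e : swap i j = swap a b) :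
    (a = i ∧ b = j) ∨ (a = j ∧ b = i) := by
  have hab : a ≠ b := fun k => hij (by
    have := congrArg (fun σ : Equiv.Perm α => σ i) e
    simpa [k] using this.symm)
  have h1 := congrArg (fun σ : Equiv.Perm α => σ a) e
  simp only [Equiv.swap_apply_left] at h1
  by_cases ka : a = i
  · subst ka; rw [Equiv.swap_apply_left] at h1; exact Or.inl ⟨rfl, h1.symm⟩
  by_cases kb : a = j
  · subst kb; rw [Equiv.swap_apply_right] at h1; exact Or.inr ⟨rfl, h1.symm⟩
  rw [Equiv.swap_apply_of_ne_of_ne ka kb] at h1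
  exact absurd h1 hab

theorem swap_comm_iff {i j a b : α} (hij : i ≠ j) (hab : a ≠ b) :
    Commute (swap i j) (swap a b) ↔
      ((a = i ∧ b = j) ∨ (a = j ∧ b = i) ∨ (a ≠ i ∧ a ≠ j ∧ b ≠ i ∧ b ≠ j)) := by
  constructor
  · intro h
    have key : swap (swap i j a) (swap i j b) = swap a b := by
      rw [Equiv.swap_apply_apply, Equiv.swap_inv, h.eq, mul_assoc, Equiv.swap_mul_self, mul_one]
    rcases swap_ends hab key.symm with ⟨e1, e2⟩ | ⟨e1, e2⟩
    · right; right
      refine ⟨fun k => ?_, fun k => ?_, fun k => ?_, fun k => ?_⟩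
      · subst k; rw [Equiv.swap_apply_left] at e1; exact hij e1.symm
      · subst k; rw [Equiv.swap_apply_right] at e1; exact hij e1
      · subst k; rw [Equiv.swap_apply_left] at e2; exact hij e2.symm
      · subst k; rw [Equiv.swap_apply_right] at e2; exact hij e2
    · by_cases ka : a = i
      · subst ka; rw [Equiv.swap_apply_left] at e1; exact Or.inl ⟨rfl, e1.symm⟩
      by_cases kb : a = j
      · subst kb; rw [Equiv.swap_apply_right] at e1; exact Or.inr (Or.inl ⟨rfl, e1.symm⟩)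
      rw [Equiv.swap_apply_of_ne_of_ne ka kb] at e1
      exact absurd e1 hab
  · rintro (⟨rfl, rfl⟩ | ⟨rfl, rfl⟩ | ⟨h1, h2, h3, h4⟩)
    · exact Commute.refl _
    · rw [Equiv.swap_comm a b]
    · refine Equiv.Perm.Disjoint.commute fun x => ?_
      by_cases kx : x = i ∨ x = j
      · right
        rcases kx with rfl | rfl
        · exact Equiv.swap_apply_of_ne_of_ne h1.symm h3.symm
        · exact Equiv.swap_apply_of_ne_of_ne h2.symm h4.symm
      · left
        rw [not_or] at kx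
        exact Equiv.swap_apply_of_ne_of_ne kx.1 kx.2

theorem swap_apart {i j a b : α} (hij : i ≠ j) (hab : a ≠ b) (h : ¬ Commute (swap i j) (swap a b)) :
    (a = i ∨ a = j ∨ b = i ∨ b = j) ∧ ¬ (a = i ∧ b = j) ∧ ¬ (a = j ∧ b = i) := by
  rw [swap_comm_iff hij hab] at h
  tauto

theorem swap_triangle {i j l : α} (hij : i ≠ j) (hil : i ≠ l) (hjl : j ≠ l) :
    swap i j * swap j l * swap i j = swap i l := by
  have := Equiv.swap_apply_apply (swap i j) j l
  rw [Equiv.swap_apply_right, Equiv.swap_apply_of_ne_of_ne hil.symm hjl.symm, Equiv.swap_inv] at this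
  exact this.symm

theorem swap_ne_comm {i j l : α} (hij : i ≠ j) (hil : i ≠ l) (hjl : j ≠ l) :
    ¬ Commute (swap i j) (swap j l) := by
  rw [swap_comm_iff hij hjl]
  tauto

/-- Two apart transpositions share one point. -/
theorem swap_share {i j a b : α} (hij : i ≠ j) (hab : a ≠ b)
    (h : ¬ Commute (swap i j) (swap a b)) :
    ∃ p q r : α, p ≠ q ∧ p ≠ r ∧ q ≠ r ∧ swap i j = swap p q ∧ swap a b = swap q r := by
  obtain ⟨h1, h2, h3⟩ := swap_apart hij hab h
  rcases h1 with rfl | rfl | rfl | rfl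
  · exact ⟨j, a, b, hij.symm, fun e => h2 ⟨rfl, e.symm⟩, hab, Equiv.swap_comm _ _, rfl⟩
  · exact ⟨i, a, b, hij, fun e => h3 ⟨rfl, e.symm⟩, hab, rfl, rfl⟩
  · exact ⟨j, b, a, hij.symm, fun e => h3 ⟨e.symm, rfl⟩, hab.symm, Equiv.swap_comm _ _, Equiv.swap_comm _ _⟩
  · exact ⟨i, b, a, hij, fun e => h2 ⟨e.symm, rfl⟩, hab.symm, rfl, Equiv.swap_comm _ _⟩

theorem rowAdd_swaps : RowAdd {σ : Equiv.Perm α | σ.IsSwap} := by
  rintro _ ⟨i, j, hij, rfl⟩ _ ⟨a, b, hab, rfl⟩ h _ ⟨x, y, hxy, rfl⟩ hf1 hf2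
  obtain ⟨p, q, r, hpq, hpr, hqr, e1, e2⟩ := swap_share hij hab h
  rw [e1] at hf1 ⊢
  rw [e2] at hf2 ⊢
  rw [swap_triangle hpq hpr hqr, swap_comm_iff hxy hpr]
  rw [swap_comm_iff hxy hpq] at hf1
  rw [swap_comm_iff hxy hqr] at hf2
  grind

theorem twinFree_swaps (h : ∀ i j a b : α, ∃ l, l ≠ i ∧ l ≠ j ∧ l ≠ a ∧ l ≠ b) :
    TwinFree {σ : Equiv.Perm α | σ.IsSwap} := by
  rintro _ _ ⟨⟨i, j, hij, rfl⟩, ⟨a, b, hab, rfl⟩, hall⟩
  have key : ∀ i j a b : α, i ≠ j → a ≠ b → (∀ e ∈ {σ : Equiv.Perm α | σ.IsSwap},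
      Commute (swap i j) e ↔ Commute (swap a b) e) → i ≠ a → i ≠ b → False := by
    intro i j a b hij hab hall h1 h2
    by_cases h3 : j = a ∨ j = b
    · have k := (hall (swap i j) ⟨i, j, hij, rfl⟩).mp (Commute.refl _)
      rw [swap_comm_iff hab hij] at k
      tauto
    · rw [not_or] at h3
      obtain ⟨l, hl1, hl2, hl3, hl4⟩ := h i j a b
      have k := (hall (swap i l) ⟨i, l, hl1.symm, rfl⟩)
      rw [swap_comm_iff hij hl1.symm, swap_comm_iff hab hl1.symm] at k
      grind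
  by_cases h1 : i = a ∨ i = b
  · by_cases h2 : j = a ∨ j = b
    · rcases h1 with rfl | rfl <;> rcases h2 with rfl | rfl
      exacts [absurd rfl hij, rfl, Equiv.swap_comm _ _, absurd rfl hij]
    · rw [not_or] at h2
      exact (key j i a b hij.symm hab (by rwa [Equiv.swap_comm j i]) h2.1 h2.2).elim
  · rw [not_or] at h1
    exact (key i j a b hij hab hall h1.1 h1.2).elim

theorem center_perm (h : ∀ i j : α, ∃ l, l ≠ i ∧ l ≠ j) :
    Subgroup.center (Equiv.Perm α) = ⊥ := by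
  refine eq_bot_iff.mpr fun σ hσ => Subgroup.mem_bot.mpr (Equiv.ext fun i => ?_)
  by_contra hne
  obtain ⟨l, hl1, hl2⟩ := h i (σ i)
  have k := Subgroup.mem_center_iff.mp hσ (swap i l)
  have e : swap (σ i) (σ l) = swap i l := by
    rw [Equiv.swap_apply_apply, ← k, mul_inv_cancel_right]
  rcases swap_ends hl1.symm e.symm with ⟨e1, -⟩ | ⟨e1, -⟩
  · exact hne e1
  · exact hl2 e1.symm

theorem exists_other {n : ℕ} (hn : 3 ≤ n) (i j : Fin n) : ∃ l, l ≠ i ∧ l ≠ j := by
  obtain ⟨l, hl⟩ : ∃ l : Fin n, l ∉ ({i, j} : Finset (Fin n)) := by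
    by_contra hall
    push Not at hall
    have := Finset.card_le_card (fun x _ => hall x : (Finset.univ : Finset (Fin n)) ⊆ {i, j})
    rw [Finset.card_univ, Fintype.card_fin] at this
    have := Finset.card_le_two (a := i) (b := j)
    omega
  exact ⟨l, by simpa using hl⟩

theorem exists_fifth {n : ℕ} (hn : 5 ≤ n) (i j a b : Fin n) : ∃ l, l ≠ i ∧ l ≠ j ∧ l ≠ a ∧ l ≠ b := by
  obtain ⟨l, hl⟩ : ∃ l : Fin n, l ∉ ({i, j, a, b} : Finset (Fin n)) := by
    by_contra hall
    push Not at hall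
    have := Finset.card_le_card (fun x _ => hall x : (Finset.univ : Finset (Fin n)) ⊆ {i, j, a, b})
    rw [Finset.card_univ, Fintype.card_fin] at this
    have := Finset.card_le_four (a := i) (b := j) (c := a) (d := b)
    omega
  exact ⟨l, by simpa using hl⟩

end Cfsg.Agent.Spor.FischerThm
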