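import Cfsg.Agent.Lib.Spor.FischerThm.Model
import Cfsg.Agent.Lib.Spor.FischerThm.Swaps
import Cfsg.Agent.Lib.Spor.FischerThm.Srg

/-! A symmetric perpendicular quotient. -/

set_option autoImplicit false
set_option linter.style.haveILetI false
set_option linter.unusedSectionVars false

namespace Cfsg.Agent.Spor.FischerThm

open Cfsg Cfsg.Agent.Spor.ThreeTrans Cfsg.Agent.Block.FischerTypes
open Equiv (swap)
open Finset

/-- The ordered pairs over a set of transpositions. -/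
noncomputable def pairsOf {k : ℕ} (T : Set (Equiv.Perm (Fin k))) : Finset (Fin k × Fin k) := by
  classical exact univ.filter fun p => p.1 ≠ p.2 ∧ swap p.1 p.2 ∈ T

theorem mem_pairsOf {k : ℕ} {T : Set (Equiv.Perm (Fin k))} {p : Fin k × Fin k} :
    p ∈ pairsOf T ↔ p.1 ≠ p.2 ∧ swap p.1 p.2 ∈ T := by simp [pairsOf]

theorem card_pairsOf {k : ℕ} (T : Set (Equiv.Perm (Fin k))) (hT : ∀ σ ∈ T, σ.IsSwap) :
    (pairsOf T).card = 2 * T.ncard := by
  classical
  have hfin : T.Finite := Set.toFinite _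
  rw [Set.ncard_eq_toFinset_card T hfin,
    Finset.card_eq_sum_card_fiberwise (f := fun p : Fin k × Fin k => swap p.1 p.2) (t := hfin.toFinset)
      (fun p hp => by simpa using (mem_pairsOf.mp hp).2)]
  rw [Finset.sum_congr rfl (g := fun _ => 2), Finset.sum_const, smul_eq_mul, mul_comm]
  intro σ hσ
  obtain ⟨i, j, hij, rfl⟩ := hT σ (hfin.mem_toFinset.mp hσ)
  have : ((pairsOf T).filter fun p => swap p.1 p.2 = swap i j) = {(i, j), (j, i)} := by
    ext ⟨a, b⟩
    simp only [Finset.mem_filter, mem_pairsOf, Finset.mem_insert, Finset.mem_singleton, Prod.mk.injEq]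
    constructor
    · rintro ⟨-, e⟩
      exact swap_ends hij e.symm
    · rintro (⟨rfl, rfl⟩ | ⟨rfl, rfl⟩)
      · exact ⟨⟨hij, hfin.mem_toFinset.mp hσ⟩, rfl⟩
      · exact ⟨⟨hij.symm, by rw [Equiv.swap_comm]; exact hfin.mem_toFinset.mp hσ⟩, Equiv.swap_comm _ _⟩
  rw [this, Finset.card_pair]
  simp [hij]

variable {G : Type*} [Group G] [Finite G] {D : Set G} {d : G} {k : ℕ}
  {ψ : G → Equiv.Perm (Fin k)}

/-- Two points joined by a common neighbour of `d` and `c`. -/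
def SRel (D : Set G) (d : G) (ψ : G → Equiv.Perm (Fin k)) (c : G) (i j : Fin k) : Prop :=
  i ≠ j ∧ ∃ u ∈ common D d c, ψ u = swap i j

theorem SRel.symm {c : G} {i j : Fin k} (h : SRel D d ψ c i j) : SRel D d ψ c j i :=
  ⟨h.1.symm, h.2.imp fun u hu => ⟨hu.1, hu.2.trans (Equiv.swap_comm i j)⟩⟩

variable (S : Setting D) (R : Read D {σ : Equiv.Perm (Fin k) | σ.IsSwap} d ψ)
include S R

theorem SRel.trans' {c : G} {i j l : Fin k} (h1 : SRel D d ψ c i j) (h2 : SRel D d ψ c j l)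
    (hil : i ≠ l) : SRel D d ψ c i l := by
  obtain ⟨hij, u, hu, eu⟩ := h1
  obtain ⟨hjl, v, hv, ev⟩ := h2
  refine ⟨hil, u * v * u, common_conj_closed S hu hv, ?_⟩
  rw [(R.conj u hu.1 v hv.1).2, eu, ev, swap_triangle hij hil hjl]

theorem sRel_mem {c u : G} {i j : Fin k} (hij : i ≠ j) (hu : u ∈ perp D d) (e : ψ u = swap i j) :
    SRel D d ψ c i j ↔ u ∈ common D d c := by
  refine ⟨fun ⟨_, v, hv, ev⟩ => ?_, fun h => ⟨hij, u, h, e⟩⟩
  rwa [R.inj u hu v hv.1 (e.trans ev.symm)]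

/-- The equation at one joined pair. -/
theorem sRel_count {c : G} (hd : d ∈ D) (hc : c ∈ D) (hdc : ¬ Commute d c)
    (τ : PerpQuot D d ≃* Equiv.Perm (Fin k)) (hτ : τ '' perpSet D d = {σ | σ.IsSwap})
    (hk : 5 ≤ k) {a b : Fin k} (hab : SRel D d ψ c a b) [DecidableRel (SRel D d ψ c)] :
    (univ.filter fun p : Fin k × Fin k => SRel D d ψ c p.1 p.2 ∧ p.1 ≠ a ∧ p.1 ≠ b ∧ p.2 ≠ a ∧ p.2 ≠ b).card =
      (k - 3) * (k - 4) := by
  classical
  obtain ⟨hne, x, hx, ex⟩ := hab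
  set p : Fin k := ⟨0, by omega⟩
  set q : Fin k := ⟨1, by omega⟩
  set r : Fin k := ⟨2, by omega⟩
  have hpq : p ≠ q := by simp [p, q]
  have hpr : p ≠ r := by simp [p, r]
  have hqr : q ≠ r := by simp [q, r]
  have hbelow := read_below S hd τ hτ hc hdc hx (show swap p q ∈ {σ | σ.IsSwap} from ⟨p, q, hpq, rfl⟩)
    (show swap q r ∈ {σ | σ.IsSwap} from ⟨q, r, hqr, rfl⟩) (swap_ne_comm hpq hpr hqr)
  set T₁ : Set (Equiv.Perm (Fin k)) := ψ '' (common D d c ∩ perp D x)
  set T₂ : Set (Equiv.Perm (Fin k)) := common {σ | σ.IsSwap} (swap p q) (swap q r)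
  have hT₁ : T₁.ncard = T₂.ncard := by
    rw [← hbelow]
    exact Set.InjOn.ncard_image fun u hu v hv e => R.inj u hu.1.1 v hv.1.1 e
  have e1 : (univ.filter fun p : Fin k × Fin k => SRel D d ψ c p.1 p.2 ∧ p.1 ≠ a ∧ p.1 ≠ b ∧ p.2 ≠ a ∧ p.2 ≠ b) =
      pairsOf T₁ := by
    ext ⟨i, j⟩
    simp only [Finset.mem_filter, Finset.mem_univ, true_and, mem_pairsOf]
    constructor
    · rintro ⟨⟨hij, u, hu, eu⟩, h1, h2, h3, h4⟩
      refine ⟨hij, u, ⟨hu, hu.1.1, fun e => ?_, ?_⟩, eu⟩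
      · subst e
        rcases swap_ends hij (eu.symm.trans ex) with ⟨e1, -⟩ | ⟨e1, -⟩
        · exact h1 e1.symm
        · exact h3 e1.symm
      · refine ((R.comm x hx.1 u hu.1).mp ?_)
        rw [ex, eu, swap_comm_iff hne hij]
        exact Or.inr (Or.inr ⟨h1, h2, h3, h4⟩)
    · rintro ⟨hij, u, ⟨hu, hux⟩, eu⟩
      refine ⟨⟨hij, u, hu, eu⟩, ?_⟩
      have hcm := (R.comm x hx.1 u hu.1).mpr hux.2.2
      rw [ex, eu, swap_comm_iff hne hij] at hcm
      rcases hcm with ⟨rfl, rfl⟩ | ⟨rfl, rfl⟩ | h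
      · exact absurd (R.inj u hu.1 x hx.1 (eu.trans ex.symm)) hux.2.1
      · exact absurd (R.inj u hu.1 x hx.1 (eu.trans ((Equiv.swap_comm _ _).trans ex.symm))) hux.2.1
      · exact h
  have e2 : pairsOf T₂ = ((univ \ {p, q, r}) : Finset (Fin k)).offDiag := by
    ext ⟨i, j⟩
    simp only [mem_pairsOf, Finset.mem_offDiag, Finset.mem_sdiff, Finset.mem_univ, true_and,
      Finset.mem_insert, Finset.mem_singleton, not_or]
    constructor
    · rintro ⟨hij, ⟨-, hn1, hc1⟩, -, hn2, hc2⟩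
      rw [swap_comm_iff hpq hij] at hc1
      rw [swap_comm_iff hqr hij] at hc2
      rcases hc1 with ⟨rfl, rfl⟩ | ⟨rfl, rfl⟩ | hc1
      · exact absurd rfl hn1
      · exact absurd (Equiv.swap_comm _ _) hn1
      rcases hc2 with ⟨rfl, rfl⟩ | ⟨rfl, rfl⟩ | hc2
      · exact absurd rfl hn2
      · exact absurd (Equiv.swap_comm _ _) hn2
      exact ⟨⟨hc1.1, hc1.2.1, hc2.2.1⟩, ⟨hc1.2.2.1, hc1.2.2.2, hc2.2.2.2⟩, hij⟩
    · rintro ⟨⟨a1, a2, a3⟩, ⟨b1, b2, b3⟩, hij⟩
      refine ⟨hij, ⟨⟨i, j, hij, rfl⟩, fun e => ?_, ?_⟩, ⟨i, j, hij, rfl⟩, fun e => ?_, ?_⟩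
      · rcases swap_ends hij e with ⟨e', -⟩ | ⟨e', -⟩
        exacts [a1 e'.symm, b1 e'.symm]
      · exact (swap_comm_iff hpq hij).mpr (Or.inr (Or.inr ⟨a1, a2, b1, b2⟩))
      · rcases swap_ends hij e with ⟨e', -⟩ | ⟨e', -⟩
        exacts [a2 e'.symm, b2 e'.symm]
      · exact (swap_comm_iff hqr hij).mpr (Or.inr (Or.inr ⟨a2, a3, b2, b3⟩))
  have hswap₁ : ∀ σ ∈ T₁, σ.IsSwap := by
    rintro _ ⟨u, hu, rfl⟩
    exact R.mem u hu.1.1
  rw [e1, card_pairsOf T₁ hswap₁, hT₁, ← card_pairsOf T₂ (fun σ hσ => hσ.1.1), e2,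
    Finset.offDiag_card, Finset.card_sdiff_of_subset (Finset.subset_univ _), Finset.card_univ,
    Fintype.card_fin, Finset.card_eq_three.mpr ⟨p, q, r, hpq, hpr, hqr, rfl⟩]
  obtain ⟨t, rfl⟩ : ∃ t, k = t + 5 := ⟨k - 5, by omega⟩
  simp only [show t + 5 - 3 = t + 2 by omega, show t + 5 - 4 = t + 1 by omega]
  rw [Nat.sub_eq_iff_eq_add (Nat.le_mul_self _)]
  ring

/-- All transpositions avoiding a point, or two triangles on six points. -/
theorem sRel_shape {c : G} (hG : pCore 3 G = ⊥) (hd : d ∈ D) (hc : c ∈ D) (hdc : ¬ Commute d c)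
    (τ : PerpQuot D d ≃* Equiv.Perm (Fin k)) (hτ : τ '' perpSet D d = {σ | σ.IsSwap})
    (hk : 5 ≤ k) :
    (∃ w, ∀ i j, SRel D d ψ c i j ↔ i ≠ j ∧ i ≠ w ∧ j ≠ w) ∨
      (k = 6 ∧ ∃ A : Finset (Fin k), A.card = 3 ∧ ∀ i j, SRel D d ψ c i j ↔ i ≠ j ∧ (i ∈ A ↔ j ∈ A)) := by
  classical
  set r := SRel D d ψ c with hr
  let N : Fin k → Finset (Fin k) := fun i => univ.filter fun j => r i j
  have hN : ∀ i j, j ∈ N i ↔ r i j := fun i j => by simp [N]
  obtain ⟨x, hx⟩ := (meets_linked S hd hc hdc).1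
  obtain ⟨i₀, j₀, hij₀, e₀⟩ := R.mem x hx.1
  obtain ⟨a, -, hmax⟩ := Finset.exists_max_image univ (fun i => (N i).card) ⟨i₀, Finset.mem_univ _⟩
  have hmax' : ∀ i, (N i).card ≤ (N a).card := fun i => hmax i (Finset.mem_univ _)
  obtain ⟨b, hb⟩ : (N a).Nonempty := Finset.card_pos.mp
    (lt_of_lt_of_le (Finset.card_pos.mpr ⟨j₀, (hN _ _).mpr ⟨hij₀, x, hx, e₀⟩⟩) (hmax' i₀))
  set C := insert a (N a) with hC
  have ha : a ∉ N a := fun h => ((hN _ _).mp h).1 rfl
  have hCmem : ∀ i, i ∈ C ↔ i = a ∨ r a i := fun i => by simp [hC, hN]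
  have rtr : ∀ {i j l}, r i j → r j l → i ≠ l → r i l := fun h1 h2 h3 => SRel.trans' S R h1 h2 h3
  have hclass : ∀ i ∈ C, ∀ j, j ≠ i → (r i j ↔ j ∈ C) := by
    intro i hi j hji
    rcases (hCmem i).mp hi with rfl | hi
    · exact ⟨fun h => (hCmem j).mpr (Or.inr h), fun h => ((hCmem j).mp h).resolve_left hji⟩
    · rw [hCmem]
      by_cases hja : j = a
      · subst hja; exact iff_of_true hi.symm (Or.inl rfl)
      · exact ⟨fun h => Or.inr (rtr hi h (Ne.symm hja)),
          fun h => rtr hi.symm (h.resolve_left hja) hji.symm⟩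
  set O := univ \ C with hO
  have hOmem : ∀ i, i ∈ O ↔ i ∉ C := fun i => by simp [hO]
  have hout : ∀ i ∉ C, ∀ j, r i j → j ∉ C := fun i hi j hij hj => by
    exact hi ((hclass j hj i hij.1).mp hij.symm)
  set P := univ.filter fun p : Fin k × Fin k => r p.1 p.2 ∧ p.1 ∉ C with hP
  have hNC : (N a).card + 1 = C.card := (Finset.card_insert_of_notMem ha).symm
  have hCO : C.card + O.card = k := by
    rw [hO, add_comm, Finset.card_sdiff_add_card_eq_card (Finset.subset_univ _), Finset.card_univ,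
      Fintype.card_fin]
  have hPle1 : P.card ≤ O.card * O.card - O.card := by
    rw [← Finset.offDiag_card]
    refine Finset.card_le_card fun p hp => ?_
    simp only [hP, Finset.mem_filter, Finset.mem_univ, true_and] at hp
    exact Finset.mem_offDiag.mpr ⟨(hOmem _).mpr hp.2, (hOmem _).mpr (hout _ hp.2 _ hp.1), hp.1.1⟩
  have hPsum : P.card = ∑ i ∈ O, (N i).card := by
    rw [Finset.card_eq_sum_card_fiberwise (f := Prod.fst) (t := O) (fun p hp => by
      simp only [hP, Finset.coe_filter, Set.mem_setOf_eq, Finset.mem_univ, true_and] at hp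
      exact (hOmem _).mpr hp.2)]
    refine Finset.sum_congr rfl fun i hi => ?_
    refine Finset.card_bij (fun p _ => p.2) ?_ ?_ fun j hj =>
      ⟨(i, j), by simp [hP, (hN i j).mp hj, (hOmem i).mp hi], rfl⟩
    · rintro ⟨p, q⟩ hpq
      simp only [Finset.mem_filter] at hpq
      obtain ⟨hpq, rfl⟩ := hpq
      simp only [hP, Finset.mem_filter] at hpq
      exact (hN _ _).mpr hpq.2.1
    · rintro ⟨p, q⟩ hpq ⟨p', q'⟩ hpq' (rfl : q = q')
      simp only [Finset.mem_filter] at hpq hpq'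
      rw [hpq.2, hpq'.2]
  have hPle2 : P.card ≤ O.card * (N a).card := by
    rw [hPsum, ← smul_eq_mul, ← Finset.sum_const]
    exact Finset.sum_le_sum fun i _ => hmax' i
  -- the equation at `a`, `b`
  have hbC : b ∈ C := Finset.mem_insert_of_mem hb
  have hab := (hN a b).mp hb
  have eqa : (C.card - 2) * (C.card - 3) + P.card = (k - 3) * (k - 4) := by
    rw [← sRel_count S R hd hc hdc τ hτ hk hab]
    have hsplit : (univ.filter fun p : Fin k × Fin k =>
        r p.1 p.2 ∧ p.1 ≠ a ∧ p.1 ≠ b ∧ p.2 ≠ a ∧ p.2 ≠ b) = (C \ {a, b}).offDiag ∪ P := by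
      ext ⟨i, j⟩
      simp only [Finset.mem_filter, Finset.mem_univ, true_and, Finset.mem_union, Finset.mem_offDiag,
        Finset.mem_sdiff, Finset.mem_insert, Finset.mem_singleton, not_or, hP]
      constructor
      · rintro ⟨h, h1, h2, h3, h4⟩
        by_cases hi : i ∈ C
        · exact Or.inl ⟨⟨hi, h1, h2⟩, ⟨(hclass i hi j h.1.symm).mp h, h3, h4⟩, h.1⟩
        · exact Or.inr ⟨h, hi⟩
      · rintro (⟨⟨hi, h1, h2⟩, ⟨hj, h3, h4⟩, hij⟩ | ⟨h, hi⟩)
        · exact ⟨(hclass i hi j (Ne.symm hij)).mpr hj, h1, h2, h3, h4⟩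
        · have hj := hout i hi j h
          exact ⟨h, fun e => hi (e ▸ Finset.mem_insert_self _ _), fun e => hi (e ▸ hbC),
            fun e => hj (e ▸ Finset.mem_insert_self _ _), fun e => hj (e ▸ hbC)⟩
    rw [hsplit, Finset.card_union_of_disjoint]
    · rw [Finset.offDiag_card, Finset.card_sdiff_of_subset
        (Finset.insert_subset (Finset.mem_insert_self _ _) (Finset.singleton_subset_iff.mpr hbC)),
        Finset.card_pair hab.1, show C.card - 3 = C.card - 2 - 1 by omega, Nat.mul_sub, mul_one]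
    · rw [Finset.disjoint_left]
      intro p hp hp'
      simp only [Finset.mem_offDiag, Finset.mem_sdiff] at hp
      simp only [hP, Finset.mem_filter] at hp'
      exact hp'.2.2 hp.1.1
  by_cases hP0 : P.card = 0
  · left
    rw [hP0, add_zero] at eqa
    have hCcard : C.card = k - 1 := by
      have h2 : 2 ≤ C.card := by
        have := Finset.card_pos.mpr ⟨b, hb⟩; omega
      have h3 : 3 ≤ C.card := by
        by_contra hlt
        rw [show C.card = 2 by omega] at eqa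
        simp only [Nat.sub_self, zero_mul] at eqa
        rcases mul_eq_zero.mp eqa.symm with e | e <;> omega
      obtain ⟨s, hs⟩ : ∃ s, C.card = s + 3 := ⟨C.card - 3, by omega⟩
      obtain ⟨t, rfl⟩ : ∃ t, k = t + 5 := ⟨k - 5, by omega⟩
      rw [hs] at eqa ⊢
      simp only [show s + 3 - 2 = s + 1 by omega, show s + 3 - 3 = s by omega,
        show t + 5 - 3 = t + 2 by omega, show t + 5 - 4 = t + 1 by omega] at eqa
      have : s = t + 1 := by nlinarith
      omega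
    obtain ⟨w, hw⟩ := Finset.card_eq_one.mp (show O.card = 1 by omega)
    have hwC : ∀ i, i ∉ C ↔ i = w := fun i => by rw [← hOmem, hw, Finset.mem_singleton]
    refine ⟨w, fun i j => ⟨fun h => ?_, fun ⟨hij, hi, hj⟩ => ?_⟩⟩
    · have hi : i ∈ C := by
        by_contra hi
        have hmem : (i, j) ∈ P := by simp [hP, h, hi]
        rw [Finset.card_eq_zero.mp hP0] at hmem
        simp at hmem
      exact ⟨h.1, fun e => (hwC i).mpr e hi,
        fun e => (hwC j).mpr e ((hclass i hi j h.1.symm).mp h)⟩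
    · exact (hclass i (not_not.mp fun h => hi ((hwC i).mp h)) j hij.symm).mpr
        (not_not.mp fun h => hj ((hwC j).mp h))
  right
  obtain ⟨⟨i₁, j₁⟩, hp₁⟩ := Finset.card_pos.mp (Nat.pos_of_ne_zero hP0)
  simp only [hP, Finset.mem_filter, Finset.mem_univ, true_and] at hp₁
  have hO2 : 2 ≤ O.card := Finset.one_lt_card.mpr
    ⟨i₁, (hOmem _).mpr hp₁.2, j₁, (hOmem _).mpr (hout _ hp₁.2 _ hp₁.1), hp₁.1.1⟩
  have hbig : C.card * C.card - C.card ≤ (k - 3) * (k - 4) := by
    rw [← sRel_count S R hd hc hdc τ hτ hk hp₁.1, ← Finset.offDiag_card]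
    refine Finset.card_le_card fun ⟨i, j⟩ hp => ?_
    obtain ⟨hi, hj, hij⟩ := Finset.mem_offDiag.mp hp
    simp only [Finset.mem_filter, Finset.mem_univ, true_and]
    have hj₁ := hout _ hp₁.2 _ hp₁.1
    exact ⟨(hclass i hi j (Ne.symm hij)).mpr hj, fun e => hp₁.2 (e ▸ hi), fun e => hj₁ (e ▸ hi),
      fun e => hp₁.2 (e ▸ hj), fun e => hj₁ (e ▸ hj)⟩
  have hA : 1 ≤ (N a).card := Finset.card_pos.mpr ⟨b, hb⟩
  have hsix : k = 6 ∧ C.card = 3 ∧ P.card = 6 := by
    obtain ⟨s, hs⟩ : ∃ s, C.card = s + 2 := ⟨C.card - 2, by omega⟩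
    obtain ⟨t, ht⟩ : ∃ t, O.card = t + 2 := ⟨O.card - 2, by omega⟩
    obtain ⟨k', rfl⟩ : ∃ k', k = k' + 5 := ⟨k - 5, by omega⟩
    have hNa : (N a).card = s + 1 := by omega
    rw [hNa, ht] at hPle2
    rw [ht, show (t + 2) * (t + 2) - (t + 2) = (t + 2) * (t + 1) by
      rw [Nat.sub_eq_iff_eq_add (Nat.le_mul_self _)]; ring] at hPle1
    rw [hs, show (s + 2) * (s + 2) - (s + 2) = (s + 2) * (s + 1) by
      rw [Nat.sub_eq_iff_eq_add (Nat.le_mul_self _)]; ring] at hbig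
    simp only [show k' + 5 - 3 = k' + 2 by omega, show k' + 5 - 4 = k' + 1 by omega] at eqa hbig
    rw [hs] at eqa
    rcases Nat.eq_zero_or_pos s with rfl | hspos
    · -- classes of two points
      simp only [Nat.sub_self, zero_mul, zero_add, mul_one] at eqa hPle2
      obtain rfl : t = k' + 1 := by omega
      obtain rfl : k' = 0 := by nlinarith
      exfalso
      have hmu : (common D d c).ncard = 2 := by
        have e : pairsOf (ψ '' common D d c) = C.offDiag ∪ P := by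
          ext ⟨i, j⟩
          simp only [mem_pairsOf, Finset.mem_union, Finset.mem_offDiag, hP, Finset.mem_filter,
            Finset.mem_univ, true_and]
          constructor
          · rintro ⟨hij, u, hu, eu⟩
            have h : r i j := ⟨hij, u, hu, eu⟩
            by_cases hi : i ∈ C
            · exact Or.inl ⟨hi, (hclass i hi j hij.symm).mp h, hij⟩
            · exact Or.inr ⟨h, hi⟩
          · rintro (⟨hi, hj, hij⟩ | ⟨⟨hij, u, hu, eu⟩, -⟩)
            · obtain ⟨-, u, hu, eu⟩ := (hclass i hi j (Ne.symm hij)).mpr hj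
              exact ⟨hij, u, hu, eu⟩
            · exact ⟨hij, u, hu, eu⟩
        have h2 := card_pairsOf (ψ '' common D d c) (by rintro _ ⟨u, hu, rfl⟩; exact R.mem u hu.1)
        rw [e, Set.InjOn.ncard_image (fun u hu v hv => R.inj u hu.1 v hv.1),
          Finset.card_union_of_disjoint (Finset.disjoint_left.mpr fun p hp hp' => by
            simp only [hP, Finset.mem_filter] at hp'
            exact hp'.2.2 (Finset.mem_offDiag.mp hp).1), Finset.offDiag_card, hs, eqa] at h2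
        omega
      obtain ⟨e, he⟩ := S.perp_ne d hd
      obtain ⟨-, -, hok⟩ := srg_ok S hG hd hc hdc he
      have hlam := read_lam S hd τ hτ he
      have hkk := read_perp_card S hd τ hτ
      have kE : {σ : Equiv.Perm (Fin (0 + 5)) | σ.IsSwap}.ncard = 10 := by
        have h := card_pairsOf {σ : Equiv.Perm (Fin (0 + 5)) | σ.IsSwap} (fun σ hσ => hσ)
        have e' : pairsOf {σ : Equiv.Perm (Fin (0 + 5)) | σ.IsSwap} = (univ : Finset (Fin (0 + 5))).offDiag := by
          ext ⟨i, j⟩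
          simp only [mem_pairsOf, Finset.mem_offDiag, Finset.mem_univ, true_and]
          exact ⟨fun h => h.1, fun h => ⟨h, i, j, h, rfl⟩⟩
        rw [e', Finset.offDiag_card, Finset.card_univ, Fintype.card_fin] at h
        omega
      have lE : (perp {σ : Equiv.Perm (Fin (0 + 5)) | σ.IsSwap} (τ (pr D d e he))).ncard = 3 := by
        obtain ⟨i, j, hij, eij⟩ : (τ (pr D d e he)).IsSwap := by
          have : τ (pr D d e he) ∈ τ '' perpSet D d := ⟨_, pr_mem he, rfl⟩
          rwa [hτ] at this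
        rw [eij]
        have h := card_pairsOf (perp {σ : Equiv.Perm (Fin (0 + 5)) | σ.IsSwap} (swap i j)) (fun σ hσ => hσ.1)
        have e' : pairsOf (perp {σ : Equiv.Perm (Fin (0 + 5)) | σ.IsSwap} (swap i j)) =
            ((univ \ {i, j}) : Finset (Fin (0 + 5))).offDiag := by
          ext ⟨p, q⟩
          simp only [mem_pairsOf, Finset.mem_offDiag, Finset.mem_sdiff, Finset.mem_univ, true_and,
            Finset.mem_insert, Finset.mem_singleton, not_or]
          constructor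
          · rintro ⟨hpq, -, hn, hcm⟩
            rw [swap_comm_iff hij hpq] at hcm
            rcases hcm with ⟨rfl, rfl⟩ | ⟨rfl, rfl⟩ | h
            · exact absurd rfl hn
            · exact absurd (Equiv.swap_comm _ _) hn
            · exact ⟨⟨h.1, h.2.1⟩, ⟨h.2.2.1, h.2.2.2⟩, hpq⟩
          · rintro ⟨⟨h1, h2⟩, ⟨h3, h4⟩, hpq⟩
            refine ⟨hpq, ⟨p, q, hpq, rfl⟩, fun e => ?_, (swap_comm_iff hij hpq).mpr (Or.inr (Or.inr ⟨h1, h2, h3, h4⟩))⟩
            rcases swap_ends hpq e with ⟨e', -⟩ | ⟨e', -⟩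
            exacts [h1 e'.symm, h3 e'.symm]
        rw [e', Finset.offDiag_card, Finset.card_sdiff_of_subset (Finset.subset_univ _), Finset.card_univ,
          Fintype.card_fin, Finset.card_pair hij] at h
        omega
      rw [hmu, hlam, lE, hkk, kE] at hok
      revert hok
      decide +kernel
    · obtain ⟨s, rfl⟩ : ∃ s', s = s' + 1 := ⟨s - 1, by omega⟩
      simp only [show s + 1 + 2 - 2 = s + 1 by omega, show s + 1 + 2 - 3 = s by omega] at eqa
      have hk' : k' + 5 = (s + 1 + 2) + (t + 2) := by omega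
      by_cases hst : t ≤ s + 1
      · have h1 : s * (t + 1) = 0 := by nlinarith
        obtain rfl : s = 0 := by simpa using h1
        have hk6 : k' = t := by omega
        subst hk6
        rcases (by omega : k' = 0 ∨ k' = 1) with rfl | rfl
        · omega
        · exact ⟨rfl, by omega, by omega⟩
      · exfalso; nlinarith
  obtain ⟨hk6, hC3, hP6⟩ := hsix
  refine ⟨hk6, C, hC3, fun i j => ⟨fun h => ⟨h.1, ⟨fun hi => (hclass i hi j h.1.symm).mp h,
    fun hj => (hclass j hj i h.1).mp h.symm⟩⟩, fun ⟨hij, hiff⟩ => ?_⟩⟩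
  by_cases hi : i ∈ C
  · exact (hclass i hi j hij.symm).mpr (hiff.mp hi)
  · have hfull : P = O.offDiag := Finset.eq_of_subset_of_card_le
      (fun p hp => by
        simp only [hP, Finset.mem_filter, Finset.mem_univ, true_and] at hp
        exact Finset.mem_offDiag.mpr ⟨(hOmem _).mpr hp.2, (hOmem _).mpr (hout _ hp.2 _ hp.1), hp.1.1⟩)
      (by rw [Finset.offDiag_card, hP6, show O.card = 3 by omega])
    have : (i, j) ∈ P := hfull ▸ Finset.mem_offDiag.mpr
      ⟨(hOmem _).mpr hi, (hOmem _).mpr fun hj => hi (hiff.mpr hj), hij⟩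
    simp only [hP, Finset.mem_filter] at this
    exact this.2.1

/-- Additive rows over a symmetric quotient. -/
theorem rowAdd_sym (hG : pCore 3 G = ⊥) (hd : d ∈ D)
    (τ : PerpQuot D d ≃* Equiv.Perm (Fin k)) (hτ : τ '' perpSet D d = {σ | σ.IsSwap})
    (hk : 5 ≤ k) : RowAdd D := by
  classical
  refine rowAdd_of_meets S hd (fun a ha b hb hab f hf h1 h2 => ?_) fun c hc hdc a ha b hb hab => ?_
  · have hm : ∀ q ∈ perpSet D d, τ q ∈ {σ : Equiv.Perm (Fin k) | σ.IsSwap} := fun q hq =>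
      hτ ▸ ⟨q, hq, rfl⟩
    have cm : ∀ q q' : PerpQuot D d, Commute (τ q) (τ q') ↔ Commute q q' := fun q q' =>
      ⟨fun k => by simpa using k.map τ.symm, fun k => k.map τ⟩
    have := rowAdd_swaps (τ a) (hm a ha) (τ b) (hm b hb) (fun e => hab ((cm a b).mp e)) (τ f) (hm f hf)
      (fun e => h1 ((cm f a).mp e)) (fun e => h2 ((cm f b).mp e))
    rw [← map_mul, ← map_mul] at this
    exact (cm _ _).mp this
  · obtain ⟨i, j, hij, ei⟩ := R.mem a ha
    obtain ⟨i', j', hij', ei'⟩ := R.mem b hb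
    have hab' : ¬ Commute (ψ a) (ψ b) := fun e => hab ((R.comm a ha b hb).mp e)
    rw [ei, ei'] at hab'
    obtain ⟨p, q, r, hpq, hpr, hqr, e1, e2⟩ := swap_share hij hij' hab'
    have ea : ψ a = swap p q := ei.trans e1
    have eb : ψ b = swap q r := ei'.trans e2
    obtain ⟨hw, ew⟩ := R.conj a ha b hb
    rw [ea, eb, swap_triangle hpq hpr hqr] at ew
    have done : SRel D d ψ c p q ∨ SRel D d ψ c q r ∨ SRel D d ψ c p r := by
      rcases sRel_shape S R hG hd hc hdc τ hτ hk with ⟨w, hw'⟩ | ⟨-, A, -, hA⟩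
      · simp only [hw']
        grind
      · simp only [hA]
        grind
    rcases done with k1 | k1 | k1
    · exact Or.inl ((sRel_mem S R hpq ha ea).mp k1).2.2.2
    · exact Or.inr (Or.inl ((sRel_mem S R hqr hb eb).mp k1).2.2.2)
    · exact Or.inr (Or.inr ((sRel_mem S R hpr hw ew).mp k1).2.2.2)

omit S R in
/-- A symmetric quotient with a point missed gives a larger symmetric group. -/
theorem sym_ident (g : Good D) (S : Setting D) (R : Read D {σ : Equiv.Perm (Fin k) | σ.IsSwap} d ψ)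
    (hR : RowAdd D) (hk : 5 ≤ k) {c : G} (hd : d ∈ D) (hc : c ∈ D) (hdc : ¬ Commute d c) {w : Fin k}
    (hw : ∀ i j, SRel D d ψ c i j ↔ i ≠ j ∧ i ≠ w ∧ j ≠ w) :
    ∃ τ : G ≃* Equiv.Perm (Fin (k + 2)), τ '' D = {σ | σ.IsSwap} := by
  let ι : Fin k → Fin (k + 2) := Fin.castAdd 2
  let n0 : Fin (k + 2) := Fin.natAdd k 0
  let n1 : Fin (k + 2) := Fin.natAdd k 1
  have hιinj : Function.Injective ι := Fin.castAdd_injective _ _
  have h01 : n0 ≠ n1 := by simp [n0, n1, Fin.ext_iff]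
  have hι0 : ∀ i, ι i ≠ n0 := fun i => by simp [ι, n0, Fin.ext_iff]; omega
  have hι1 : ∀ i, ι i ≠ n1 := fun i => by simp [ι, n1, Fin.ext_iff]; omega
  let σ : G → Equiv.Perm (Fin (k + 2)) := fun u =>
    finSumFinEquiv.permCongr (Equiv.Perm.sumCongr (ψ u) 1)
  have hσ : ∀ u i j, ψ u = swap i j → σ u = swap (ι i) (ι j) := fun u i j e => by
    simp [σ, ι, e, Equiv.permCongr_def]
  refine ident g hR (Cfsg.Agent.S0439.result (k + 2) (by omega)) (center_perm fun i j => exists_other (by omega) i j)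
    rowAdd_swaps (twinFree_swaps fun i j a b => exists_fifth (by omega) i j a b) hd hc hdc
    (d' := swap n0 n1) (c' := swap (ι w) n0) ⟨n0, n1, h01, rfl⟩ ⟨_, _, hι0 w, rfl⟩
    (by rw [swap_comm_iff h01 (hι0 w)]; tauto) σ ?_ ?_ ?_ ?_
  · intro u hu
    obtain ⟨i, j, hij, e⟩ := R.mem u hu
    rw [hσ u i j e]
    refine ⟨⟨_, _, hιinj.ne hij, rfl⟩, fun k => ?_,
      (swap_comm_iff h01 (hιinj.ne hij)).mpr (Or.inr (Or.inr ⟨hι0 i, hι1 i, hι0 j, hι1 j⟩))⟩
    rcases swap_ends (hιinj.ne hij) k with ⟨e', -⟩ | ⟨e', -⟩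
    exacts [hι0 i e'.symm, hι0 j e'.symm]
  · rintro _ ⟨⟨p, q, hpq, rfl⟩, hne, hcm⟩
    rw [swap_comm_iff h01 hpq] at hcm
    rcases hcm with ⟨rfl, rfl⟩ | ⟨rfl, rfl⟩ | ⟨p0, p1, q0, q1⟩
    · exact absurd rfl hne
    · exact absurd (Equiv.swap_comm _ _) hne
    have lift : ∀ x : Fin (k + 2), x ≠ n0 → x ≠ n1 → ∃ i, ι i = x := by
      intro x h0 h1
      induction x using Fin.addCases with
      | left i => exact ⟨i, rfl⟩
      | right i => fin_cases i <;> first | exact absurd rfl h0 | exact absurd rfl h1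
    obtain ⟨i, rfl⟩ := lift p p0 p1
    obtain ⟨j, rfl⟩ := lift q q0 q1
    obtain ⟨u, hu, e⟩ := R.surj (swap i j) ⟨i, j, fun e => hpq (e ▸ rfl), rfl⟩
    exact ⟨u, hu, hσ u i j e⟩
  · intro u hu v hv
    obtain ⟨i, j, hij, e⟩ := R.mem u hu
    obtain ⟨a, b, hab, e'⟩ := R.mem v hv
    rw [hσ u i j e, hσ v a b e', ← R.comm u hu v hv, e, e', swap_comm_iff hij hab,
      swap_comm_iff (hιinj.ne hij) (hιinj.ne hab)]
    simp [hιinj.eq_iff]
  · intro u hu
    obtain ⟨i, j, hij, e⟩ := R.mem u hu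
    rw [hσ u i j e, swap_comm_iff (hι0 w) (hιinj.ne hij)]
    have : Commute c u ↔ SRel D d ψ c i j := by
      rw [sRel_mem S R hij hu e]
      exact ⟨fun k => ⟨hu, hu.1, fun e => hdc (e ▸ hu.2.2), k⟩, fun k => k.2.2.2⟩
    rw [this, hw]
    simp [hιinj.eq_iff, hι0, hij]

end Cfsg.Agent.Spor.FischerThm
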