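import Cfsg.Agent.Lib.Spor.FischerThm.ReflCoords
import Cfsg.Agent.Lib.Spor.FischerThm.SymCase

/-! Six points with two triangles give the reflection group of dimension five. -/

set_option autoImplicit false
set_option linter.style.haveILetI false
set_option linter.unusedSectionVars false

namespace Cfsg.Agent.Spor.FischerThm

open Cfsg Cfsg.Agent.Spor.ThreeTrans Cfsg.Agent.Block.FischerTypes
open Cfsg.Agent.Spor.FischerThm.Q3
open Equiv (swap)

/-- Reflection classes are twin-free. -/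
theorem RModel.twinFree {n : ℕ} (hn : 5 ≤ n) {X : Type*} [Group X] {E : Set X}
    {Q : QuadraticForm (ZMod 3) (V n)} {pv : V n → X} (R : RModel E Q pv) : TwinFree E := by
  rintro a b ⟨ha, hb, hall⟩
  obtain ⟨u, hu, rfl⟩ := R.surj a ha
  obtain ⟨v, hv, rfl⟩ := R.surj b hb
  by_cases e : v = u ∨ v = -u
  · rcases e with rfl | rfl
    · rfl
    · exact (R.neg u).symm
  obtain ⟨w, hw, h1, h2, h3, h4⟩ := ReflThree.exists_sep R.nd hn (c := 1) one_ne_zero hu hv
    (not_or.mp e).1 (not_or.mp e).2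
  rcases (R.comm v w hv hw).mp ((hall _ (R.mem w hw)).mp ((R.comm u w hu hw).mpr (Or.inl h1))) with k | k
  · exact absurd k h2
  · exact absurd (R.inj w v hw hv k.symm) (by tauto)

/-- The form with weights one but the last. -/
def five (x : V 5) : ZMod 3 := x 0 * x 0 + x 1 * x 1 + x 2 * x 2 + x 3 * x 3 + 2 * (x 4 * x 4)

/-- Its polar. -/
def fiveB (x y : V 5) : ZMod 3 :=
  2 * (x 0 * y 0 + x 1 * y 1 + x 2 * y 2 + x 3 * y 3 + 2 * (x 4 * y 4))

/-- The thirty-six points. -/
def fiveReps : List ℕ :=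
  [1, 3, 9, 27, 40, 43, 49, 52, 67, 70, 76, 79, 85, 88, 91, 93, 100, 102, 109, 111, 117, 136, 138, 144,
    166, 169, 172, 174, 181, 183, 190, 192, 198, 217, 219, 225]

/-- The fifteen points perpendicular to the first, at the pairs of six points. -/
def sixTable (i j : Fin 6) : ℕ :=
  ([0, 3, 93, 102, 192, 219, 3, 0, 183, 174, 138, 111, 93, 183, 0, 9, 225, 198, 102, 174, 9, 0, 117, 144,
    192, 138, 225, 117, 0, 27, 219, 111, 198, 144, 27, 0] : List ℕ).getD (6 * i.val + j.val) 0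

theorem fiveReps_all : ((List.range 243).all fun c => !decide (five (vec 5 c) = 1) ||
    fiveReps.any fun r => decide (vec 5 c = vec 5 r) || decide (vec 5 c = -vec 5 r)) = true := by decide +kernel

theorem fiveReps_norm : (fiveReps.all fun r => decide (five (vec 5 r) = 1)) = true := by decide +kernel

/-- Commuting points. -/
def fiveComm (x y : V 5) : Bool := decide (fiveB x y = 0) || decide (x = y) || decide (x = -y)

theorem five_row : (fiveReps.all fun a => fiveReps.all fun b => fiveComm (vec 5 a) (vec 5 b) ||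
    fiveReps.all fun f => fiveComm (vec 5 f) (vec 5 a) || fiveComm (vec 5 f) (vec 5 b) ||
      fiveComm (vec 5 f) (vec 5 b - fiveB (vec 5 a) (vec 5 b) • vec 5 a)) = true := by decide +kernel

theorem sixTable_swap : ∀ i j : Fin 6, sixTable i j = sixTable j i := by decide +kernel

theorem sixTable_norm : ∀ i j : Fin 6, i ≠ j → five (vec 5 (sixTable i j)) = 1 ∧
    fiveB (vec 5 1) (vec 5 (sixTable i j)) = 0 ∧
    (fiveB (vec 5 91) (vec 5 (sixTable i j)) = 0 ↔ (i.val < 3 ↔ j.val < 3)) := by decide +kernel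

set_option synthInstance.maxSize 2000 in
set_option synthInstance.maxHeartbeats 400000 in
theorem sixTable_comm : ∀ i j a b : Fin 6, i ≠ j → a ≠ b →
    (fiveComm (vec 5 (sixTable i j)) (vec 5 (sixTable a b)) = true ↔
      ((a = i ∧ b = j) ∨ (a = j ∧ b = i) ∨ (a ≠ i ∧ a ≠ j ∧ b ≠ i ∧ b ≠ j))) := by decide +kernel

theorem sixTable_onto : (fiveReps.all fun r => !decide (fiveB (vec 5 1) (vec 5 r) = 0) ||
    (List.finRange 6).any fun i => (List.finRange 6).any fun j => decide (i ≠ j) && Nat.beq (sixTable i j) r) = true := by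
  decide +kernel

theorem five_apart : fiveB (vec 5 1) (vec 5 91) ≠ 0 ∧ five (vec 5 1) = 1 ∧ five (vec 5 91) = 1 ∧
    vec 5 1 ≠ vec 5 91 ∧ vec 5 1 ≠ -vec 5 91 ∧
    ∀ i j : Fin 6, i ≠ j → vec 5 91 ≠ vec 5 (sixTable i j) ∧ vec 5 91 ≠ -vec 5 (sixTable i j) ∧
      vec 5 1 ≠ vec 5 (sixTable i j) ∧ vec 5 1 ≠ -vec 5 (sixTable i j) := by decide +kernel

variable {G : Type*} [Group G] [Finite G] {D : Set G}

/-- Two triangles give the reflection group of dimension five. -/
theorem six_ident {k : ℕ} {d c : G} {ψ : G → Equiv.Perm (Fin k)} (g : Good D) (S : Setting D)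
    (R : Read D {σ : Equiv.Perm (Fin k) | σ.IsSwap} d ψ) (hR : RowAdd D) (hk : k = 6) (hd : d ∈ D)
    (hc : c ∈ D) (hdc : ¬ Commute d c) {A : Finset (Fin k)} (hA : A.card = 3)
    (hw : ∀ i j, SRel D d ψ c i j ↔ i ≠ j ∧ (i ∈ A ↔ j ∈ A)) :
    ∃ Q : QuadraticForm (ZMod 3) (V 5), (QuadraticMap.polarBilin Q).Nondegenerate ∧
      ∃ e : G ≃* RGrp Q 1, e '' D = rset Q 1 := by
  classical
  subst hk
  let Q : QuadraticForm (ZMod 3) (V 5) := QuadraticMap.weightedSumSquares (ZMod 3) ![1, 1, 1, 1, (2 : ZMod 3)]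
  have hQ : ∀ x, Q x = five x := fun x => by
    simp [Q, QuadraticMap.weightedSumSquares_apply, Fin.sum_univ_five, five]
  have hB : ∀ x y, B Q x y = fiveB x y := fun x y => by
    simp only [B, QuadraticMap.polar, hQ, five, fiveB, Pi.add_apply]; ring
  have hnd : (QuadraticMap.polarBilin Q).Nondegenerate := by
    have left : ∀ x : V 5, (∀ y, B Q x y = 0) → x = 0 := fun x hx => by
      obtain ⟨i, hi, rfl⟩ := exists_code x
      have : ∀ i : Fin 243, (∀ k : Fin 5, fiveB (vec 5 i) (Pi.single k 1) = 0) → vec 5 i = 0 := by decide +kernel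
      exact this ⟨i, by omega⟩ fun k => (hB _ _).symm.trans (hx _)
    exact ⟨left, fun x hx => left x fun y => (B_comm Q x y).trans (hx y)⟩
  refine ⟨Q, hnd, ?_⟩
  obtain ⟨⟨pv, M⟩, hcen⟩ := rmodel_of_refl (c := (1 : ZMod 3)) le_rfl Q hnd one_ne_zero
  rw [one_smul] at M
  have same : ∀ {x y}, five x = 1 → five y = 1 → (Commute (pv x) (pv y) ↔ fiveComm x y = true) := by
    intro x y hx hy
    rw [M.comm x y ((hQ x).trans hx) ((hQ y).trans hy), hB]
    simp only [fiveComm, Bool.or_eq_true, decide_eq_true_eq]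
    constructor
    · rintro (k | k)
      · exact Or.inl (Or.inl k)
      · exact (M.inj x y ((hQ x).trans hx) ((hQ y).trans hy) k).elim (fun e => Or.inl (Or.inr e)) Or.inr
    · rintro ((k | k) | k)
      · exact Or.inl k
      · exact Or.inr (by rw [k])
      · exact Or.inr (by rw [k, M.neg])
  have hnorm := fiveReps_norm
  simp only [List.all_eq_true, decide_eq_true_eq] at hnorm
  have reps : ∀ T ∈ rset Q 1, ∃ r ∈ fiveReps, T = pv (vec 5 r) := by
    intro T hT
    obtain ⟨x, hx, rfl⟩ := M.surj T hT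
    obtain ⟨i, hi, rfl⟩ := exists_code x
    have h := fiveReps_all
    simp only [List.all_eq_true, List.mem_range, Bool.or_eq_true, Bool.not_eq_true', decide_eq_false_iff_not,
      List.any_eq_true, decide_eq_true_eq] at h
    rcases h i (by omega) with k | ⟨r, hr, k | k⟩
    · exact absurd ((hQ _).symm.trans hx) k
    · exact ⟨r, hr, by rw [k]⟩
    · exact ⟨r, hr, by rw [k, M.neg]⟩
  have hRE : RowAdd (rset Q 1) := by
    intro a ha b hb hab f hf h1 h2
    obtain ⟨ra, hra, rfl⟩ := reps a ha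
    obtain ⟨rb, hrb, rfl⟩ := reps b hb
    obtain ⟨rf, hrf, rfl⟩ := reps f hf
    rw [same (hnorm _ hra) (hnorm _ hrb)] at hab
    rw [same (hnorm _ hrf) (hnorm _ hra)] at h1
    rw [same (hnorm _ hrf) (hnorm _ hrb)] at h2
    have h := five_row
    simp only [List.all_eq_true, Bool.or_eq_true] at h
    rcases h ra hra rb hrb with k | k
    · exact absurd k hab
    rcases k rf hrf with (k | k) | k
    · exact absurd k h1
    · exact absurd k h2
    have qa := (hQ _).trans (hnorm _ hra)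
    have qb := (hQ _).trans (hnorm _ hrb)
    rw [M.conj _ _ qa qb, hB, same (hnorm _ hrf)
      ((hQ _).symm.trans (hB (vec 5 ra) (vec 5 rb) ▸ M.q_move qa qb))]
    exact k
  -- normalise the triangle
  obtain ⟨π, hπ⟩ : ∃ π : Equiv.Perm (Fin 6), ∀ i, (π i).val < 3 ↔ i ∈ A := by
    let e1 : {x // x ∈ A} ≃ Fin 3 := Fintype.equivFinOfCardEq (by simp [hA])
    let e2 : {x // ¬ x ∈ A} ≃ Fin 3 := Fintype.equivFinOfCardEq
      (by rw [Fintype.card_subtype_compl]; simp [hA])
    refine ⟨((Equiv.sumCompl (fun x => x ∈ A)).symm.trans (Equiv.sumCongr e1 e2)).trans finSumFinEquiv, fun i => ?_⟩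
    by_cases hi : i ∈ A
    · rw [Equiv.trans_apply, Equiv.trans_apply, Equiv.sumCompl_symm_apply_of_pos hi]
      exact iff_of_true (e1 ⟨i, hi⟩).isLt hi
    · rw [Equiv.trans_apply, Equiv.trans_apply, Equiv.sumCompl_symm_apply_of_neg hi]
      exact iff_of_false (not_lt.mpr (Nat.le_add_right 3 (e2 ⟨i, hi⟩).val)) hi
  have pick : ∀ u : G, ∃ T, ∀ i j, i ≠ j → ψ u = swap i j → T = pv (vec 5 (sixTable (π i) (π j))) := by
    intro u
    by_cases h : ∃ i j, i ≠ j ∧ ψ u = swap i j
    · obtain ⟨i, j, hij, e⟩ := h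
      refine ⟨pv (vec 5 (sixTable (π i) (π j))), fun a b hab e' => ?_⟩
      rcases swap_ends hij (e.symm.trans e') with ⟨rfl, rfl⟩ | ⟨rfl, rfl⟩
      · rfl
      · rw [sixTable_swap]
    · exact ⟨1, fun i j hij e => absurd ⟨i, j, hij, e⟩ h⟩
  choose σ hσ using pick
  obtain ⟨a1, a2, a3, a4, a5, a6⟩ := five_apart
  have q1 : Q (vec 5 1) = 1 := (hQ _).trans a2
  have q91 : Q (vec 5 91) = 1 := (hQ _).trans a3
  refine ident g hR M.cls hcen hRE (M.twinFree le_rfl) hd hc hdc (d' := pv (vec 5 1)) (c' := pv (vec 5 91))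
    (M.mem _ q1) (M.mem _ q91) ?_ σ ?_ ?_ ?_ ?_
  · rw [same a2 a3]
    simp [fiveComm, a1, a4, a5]
  · intro u hu
    obtain ⟨i, j, hij, e⟩ := R.mem u hu
    obtain ⟨t1, t2, -⟩ := sixTable_norm (π i) (π j) (π.injective.ne hij)
    obtain ⟨-, -, t5, t6⟩ := a6 (π i) (π j) (π.injective.ne hij)
    rw [hσ u i j hij e]
    refine ⟨M.mem _ ((hQ _).trans t1), fun k => ?_, (same a2 t1).mpr (by simp [fiveComm, t2])⟩
    rcases M.inj _ _ q1 ((hQ _).trans t1) k.symm with r | r
    exacts [t5 r, t6 r]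
  · rintro T ⟨hT, hne, hcm⟩
    obtain ⟨r, hr, rfl⟩ := reps T hT
    have h := sixTable_onto
    simp only [List.all_eq_true, Bool.or_eq_true, Bool.not_eq_true', decide_eq_false_iff_not, List.any_eq_true,
      Bool.and_eq_true, decide_eq_true_eq] at h
    have hB0 : fiveB (vec 5 1) (vec 5 r) = 0 := by
      rw [same a2 (hnorm _ hr)] at hcm
      simp only [fiveComm, Bool.or_eq_true, decide_eq_true_eq] at hcm
      rcases hcm with (k | k) | k
      · exact k
      · exact absurd (by rw [k]) hne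
      · exact absurd (by rw [k, M.neg]) hne
    rcases h r hr with k | ⟨i, -, j, -, hij, e⟩
    · exact absurd hB0 k
    have hij' : π.symm i ≠ π.symm j := π.symm.injective.ne hij
    obtain ⟨u, hu, eu⟩ := R.surj (swap (π.symm i) (π.symm j)) ⟨_, _, hij', rfl⟩
    refine ⟨u, hu, ?_⟩
    rw [hσ u _ _ hij' eu, Equiv.apply_symm_apply, Equiv.apply_symm_apply, Nat.eq_of_beq_eq_true e]
  · intro u hu v hv
    obtain ⟨i, j, hij, e⟩ := R.mem u hu
    obtain ⟨a, b, hab, e'⟩ := R.mem v hv
    obtain ⟨t1, -, -⟩ := sixTable_norm (π i) (π j) (π.injective.ne hij)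
    obtain ⟨t1', -, -⟩ := sixTable_norm (π a) (π b) (π.injective.ne hab)
    rw [hσ u i j hij e, hσ v a b hab e', ← R.comm u hu v hv, e, e', same t1 t1',
      sixTable_comm _ _ _ _ (π.injective.ne hij) (π.injective.ne hab), swap_comm_iff hij hab]
    simp only [π.injective.eq_iff, ne_eq]
  · intro u hu
    obtain ⟨i, j, hij, e⟩ := R.mem u hu
    obtain ⟨t1, -, t3⟩ := sixTable_norm (π i) (π j) (π.injective.ne hij)
    obtain ⟨t7, t8, -, -⟩ := a6 (π i) (π j) (π.injective.ne hij)
    have : Commute c u ↔ SRel D d ψ c i j := by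
      rw [sRel_mem S R hij hu e]
      exact ⟨fun k => ⟨hu, hu.1, fun e => hdc (e ▸ hu.2.2), k⟩, fun k => k.2.2.2⟩
    rw [hσ u i j hij e, same a3 t1, this, hw, ← hπ i, ← hπ j]
    simp only [fiveComm, Bool.or_eq_true, decide_eq_true_eq, t3, t7, t8, or_false, hij, ne_eq,
      not_false_iff, true_and]

end Cfsg.Agent.Spor.FischerThm
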