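import Cfsg.Agent.Lib.Spor.FischerThm.SpCase
import Cfsg.Agent.Lib.Spor.FischerThm.Srg

/-! An orthogonal perpendicular quotient over the field of two elements in dimension at least eight
does not occur. -/

set_option autoImplicit false
set_option linter.style.haveILetI false
set_option linter.unusedSectionVars false

namespace Cfsg.Agent.Spor.FischerThm

open Cfsg Cfsg.Agent.Spor.ThreeTrans Cfsg.Agent.Block.FischerTypes
open Cfsg.Agent.Spor.ThreeTrans renaming mul_self → dsq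

theorem three_blocks : ∀ (t₁ t₂ t₃ : Bool) (p q r : F22), ∃ s₁ s₂ s₃ u₁ u₂ u₃ : F22,
    bb p s₁ + bb q s₂ + bb r s₃ = 0 ∧ bb p u₁ + bb q u₂ + bb r u₃ = 0 ∧
    bb s₁ u₁ + bb s₂ u₂ + bb s₃ u₃ = 1 ∧ qb t₁ s₁ + qb t₂ s₂ + qb t₃ s₃ = 1 ∧
    qb t₁ u₁ + qb t₂ u₂ + qb t₃ u₃ = 1 := by decide +kernel

set_option synthInstance.maxSize 2000 in
set_option synthInstance.maxHeartbeats 400000 in
theorem three_singular :
    ∀ t₁ t₂ t₃ : Bool, ∃ p₁ p₂ p₃ r₁ r₂ r₃ : F22, (p₁, p₂, p₃) ≠ 0 ∧ (r₁, r₂, r₃) ≠ 0 ∧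
    (p₁, p₂, p₃) ≠ (r₁, r₂, r₃) ∧ qb t₁ p₁ + qb t₂ p₂ + qb t₃ p₃ = 0 ∧
    qb t₁ r₁ + qb t₂ r₂ + qb t₃ r₃ = 0 ∧ bb p₁ r₁ + bb p₂ r₂ + bb p₃ r₃ = 0 := by
  decide +kernel

variable {n : ℕ}

/-- Nonsingular vectors of at least two blocks come in even number. -/
theorem even_ns (τ : Fin n → Bool) (hn : 2 ≤ n) :
    Even (Finset.univ.filter fun x : Blk n => qF τ x = 1).card := by
  classical
  have h : ((Finset.univ.filter fun x : Blk n => qF τ x = 1).card : ZMod 2) = ∑ x : Blk n, qF τ x := by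
    rw [Finset.card_filter, Nat.cast_sum]
    refine Finset.sum_congr rfl fun x _ => ?_
    have : ∀ t : ZMod 2, ((if t = 1 then 1 else 0 : ℕ) : ZMod 2) = t := by decide
    exact this _
  refine ZMod.natCast_eq_zero_iff_even.mp (h.trans ?_)
  simp only [qF]
  rw [Finset.sum_comm]
  refine Finset.sum_eq_zero fun i _ => ?_
  obtain ⟨j, hj⟩ : ∃ j : Fin n, j ≠ i := by
    by_cases h : i.val = 0
    · exact ⟨⟨1, by omega⟩, fun e => by simp [← e] at h⟩
    · exact ⟨⟨0, by omega⟩, fun e => h (by simp [← e])⟩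
  let z : Blk n := Pi.single j (1, 0)
  refine Finset.sum_involution (fun x _ => x + z) (fun x _ => ?_) (fun x _ _ e => ?_)
    (fun x _ => Finset.mem_univ _) fun x _ => ?_
  · simp only [z, Pi.add_apply, Pi.single_eq_of_ne hj.symm, add_zero]
    exact CharTwo.add_self_eq_zero _
  · have : z = 0 := by simpa using e
    simpa [z] using congrFun this j
  · rw [add_assoc, char2B, add_zero]

theorem bF_cons (p p' : F22) (w w' : Blk n) :
    bF (Fin.cons p w : Blk (n + 1)) (Fin.cons p' w') = bb p p' + bF w w' := by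
  simp [bF, Fin.sum_univ_succ]

theorem qF_cons (τ : Fin (n + 1) → Bool) (p : F22) (w : Blk n) :
    qF τ (Fin.cons p w : Blk (n + 1)) = qb (τ 0) p + qF (fun i => τ i.succ) w := by
  simp [qF, Fin.sum_univ_succ]

theorem cons_add (p p' : F22) (w w' : Blk n) :
    (Fin.cons p w : Blk (n + 1)) + Fin.cons p' w' = Fin.cons (p + p') (w + w') := by
  funext i
  induction i using Fin.cases <;> simp

variable {G : Type*} [Group G] [Finite G] {D : Set G} {d : G} {X : Type*} [Group X] {E : Set X}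

theorem orth_absurd (g : Good D) (S : Setting D) (hd : d ∈ D) (hn : 3 ≤ n)
    (ι' : PerpQuot D d ≃* X) (hι : ι' '' perpSet D d = E) (hE : IsThreeTranspositionClass E)
    (hER : RowAdd E) (τ : Fin (n + 1) → Bool) (hτ : τ 0 = true) (pv : Blk (n + 1) → X)
    (pv_mem : ∀ x, qF τ x = 1 → pv x ∈ E) (pv_surj : ∀ T ∈ E, ∃ x, qF τ x = 1 ∧ T = pv x)
    (pv_inj : ∀ x y, qF τ x = 1 → qF τ y = 1 → pv x = pv y → x = y)
    (pv_comm : ∀ x y, qF τ x = 1 → qF τ y = 1 → (Commute (pv x) (pv y) ↔ bF x y = 0))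
    (pv_conj : ∀ x y, qF τ x = 1 → qF τ y = 1 → bF x y = 1 → pv x * pv y * pv x = pv (x + y)) :
    False := by
  classical
  haveI : Finite X := Finite.of_equiv _ ι'.toEquiv
  have h := S.cls
  obtain ⟨ψ, R⟩ := exists_read S hd ι' hι
  set τ' : Fin n → Bool := fun i => τ i.succ with hτ'
  let a : Blk (n + 1) := Fin.cons (1, 0) 0
  let b : Blk (n + 1) := Fin.cons (0, 1) 0
  have hqa : qF τ a = 1 := by simp only [a, qF_cons, qF_zero, hτ]; decide
  have hqb : qF τ b = 1 := by simp only [b, qF_cons, qF_zero, hτ]; decide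
  have hab : bF a b = 1 := by simp only [a, b, bF_cons, bF_zero_left]; decide
  have hnc : ¬ Commute (pv a) (pv b) := by rw [pv_comm a b hqa hqb, hab]; exact one_ne_zero
  -- additive rows
  have hP : RowAdd (perpSet D d) := by
    have := rowAdd_image ι'.symm hER
    rwa [← hι, Set.image_image, show (fun x => ι'.symm (ι' x)) = id from funext fun x => ι'.symm_apply_apply x,
      Set.image_id] at this
  have mk : ∀ {y}, y ∈ E → ι'.symm y ∈ perpSet D d := fun {y} hy => by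
    rw [← hι] at hy
    obtain ⟨q, hq, rfl⟩ := hy
    rwa [ι'.symm_apply_apply]
  have cm : ∀ y y', Commute (ι'.symm y) (ι'.symm y') ↔ Commute y y' := fun y y' =>
    ⟨fun k => by simpa using k.map ι', fun k => k.map ι'.symm⟩
  have hR : RowAdd D := by
    refine rowAdd_of_linked S hd hP ?_
    refine linked_of_std (good_quot S hd) (mk (pv_mem a hqa)) (mk (pv_mem b hqb))
      (fun k => hnc ((cm _ _).mp k)) fun B' hB' _ => ?_
    obtain ⟨x, hx, ex⟩ := pv_surj _ (hι ▸ ⟨B', hB', rfl⟩ : ι' B' ∈ E)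
    have eB : B' = ι'.symm (pv x) := by rw [← ex, ι'.symm_apply_apply]
    let j1 : Fin n := ⟨0, by omega⟩
    let j2 : Fin n := ⟨1, by omega⟩
    let j3 : Fin n := ⟨2, by omega⟩
    have n12 : j1 ≠ j2 := by simp [j1, j2]
    have n13 : j1 ≠ j3 := by simp [j1, j3]
    have n23 : j2 ≠ j3 := by simp [j2, j3]
    obtain ⟨s₁, s₂, s₃, u₁, u₂, u₃, e1, e2, e3, e4, e5⟩ :=
      three_blocks (τ' j1) (τ' j2) (τ' j3) (x j1.succ) (x j2.succ) (x j3.succ)
    let v : F22 → F22 → F22 → Blk (n + 1) := fun s t u =>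
      Fin.cons 0 (Pi.single j1 s + Pi.single j2 t + Pi.single j3 u)
    have vB : ∀ (y : Blk (n + 1)) s t u, bF y (v s t u) =
        bb (y j1.succ) s + bb (y j2.succ) t + bb (y j3.succ) u := fun y s t u => by
      conv_lhs => rw [← Fin.cons_self_tail y]
      simp only [v, bF_cons, bF_add_right, bF_single, Fin.tail]
      simp [bb]
    have vq : ∀ s t u, qF τ (v s t u) = qb (τ' j1) s + qb (τ' j2) t + qb (τ' j3) u := fun s t u => by
      have e0 : qb (τ 0) (0 : F22) = 0 := by simp [qb]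
      simp only [v, qF_cons, e0, qF_add, qF_single, bF_add_left, bF_single, Pi.single_eq_of_ne n12.symm,
        Pi.single_eq_of_ne n13.symm, Pi.single_eq_of_ne n23.symm]
      simp [bb, hτ', Pi.single_eq_of_ne n12.symm, Pi.single_eq_of_ne n13.symm, Pi.single_eq_of_ne n23.symm]
    have va : ∀ s t u, bF a (v s t u) = 0 ∧ bF b (v s t u) = 0 := fun s t u => by
      simp [vB, a, b, bb]
    have qP : qF τ (v s₁ s₂ s₃) = 1 := by rw [vq, e4]
    have qQ : qF τ (v u₁ u₂ u₃) = 1 := by rw [vq, e5]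
    have hPQ : bF (v s₁ s₂ s₃) (v u₁ u₂ u₃) = 1 := by
      rw [vB]
      simp [v, n12, n13, n23, n12.symm, n13.symm, n23.symm, e3]
    refine ⟨_, mk (pv_mem _ qP), _, mk (pv_mem _ qQ), fun k => ?_, ?_, ?_, ?_, ?_, ?_, ?_⟩
    · rw [cm, pv_comm _ _ qP qQ, hPQ] at k; exact one_ne_zero k
    · rw [cm, pv_comm _ _ qP hqa, bF_comm]; exact (va _ _ _).1
    · rw [cm, pv_comm _ _ qP hqb, bF_comm]; exact (va _ _ _).2
    · rw [eB, cm, pv_comm _ _ qP hx, bF_comm, vB]; exact e1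
    · rw [cm, pv_comm _ _ qQ hqa, bF_comm]; exact (va _ _ _).1
    · rw [cm, pv_comm _ _ qQ hqb, bF_comm]; exact (va _ _ _).2
    · rw [eB, cm, pv_comm _ _ qQ hx, bF_comm, vB]; exact e2
  -- the row of an apart member
  obtain ⟨c, hc, hdc⟩ := exists_not_commute h (two_of_nc S.hyp) hd
  let pre : Blk (n + 1) → G := fun x => if hx : qF τ x = 1 then (R.surj (pv x) (pv_mem x hx)).choose else 1
  have hpre : ∀ x, qF τ x = 1 → pre x ∈ perp D d ∧ ψ (pre x) = pv x := fun x hx => by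
    simp only [pre, dif_pos hx]; exact (R.surj (pv x) (pv_mem x hx)).choose_spec
  have hvec : ∀ u ∈ perp D d, ∃ x, qF τ x = 1 ∧ u = pre x := fun u hu => by
    obtain ⟨x, hx, e⟩ := pv_surj _ (R.mem u hu)
    exact ⟨x, hx, R.inj u hu _ (hpre x hx).1 (e.trans (hpre x hx).2.symm)⟩
  have hpre_inj : ∀ x y, qF τ x = 1 → qF τ y = 1 → pre x = pre y → x = y := fun x y hx hy e =>
    pv_inj x y hx hy (by rw [← (hpre x hx).2, e, (hpre y hy).2])
  have hpc : ∀ x y, qF τ x = 1 → qF τ y = 1 → (Commute (pre x) (pre y) ↔ bF x y = 0) :=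
    fun x y hx hy => by
      rw [← R.comm _ (hpre x hx).1 _ (hpre y hy).1, (hpre x hx).2, (hpre y hy).2, pv_comm x y hx hy]
  let f : Blk (n + 1) → ZMod 2 := fun x => Grp.PolarRec.row D c (pre x)
  have qsum : ∀ x y, qF τ x = 1 → qF τ y = 1 → bF x y = 1 → qF τ (x + y) = 1 := fun x y hx hy hxy => by
    rw [qF_add, hx, hy, hxy]; rfl
  have hfadd : ∀ x y, qF τ x = 1 → qF τ y = 1 → bF x y = 1 → f (x + y) = f x + f y := by
    intro x y hx hy hxy
    have hnc : ¬ Commute (pre x) (pre y) := by rw [hpc x y hx hy, hxy]; exact one_ne_zero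
    obtain ⟨hw, ew⟩ := R.conj _ (hpre x hx).1 _ (hpre y hy).1
    rw [(hpre x hx).2, (hpre y hy).2, pv_conj x y hx hy hxy] at ew
    have hs := hpre _ (qsum x y hx hy hxy)
    have e : pre x * pre y * pre x = pre (x + y) := R.inj _ hw _ hs.1 (ew.trans hs.2.symm)
    show Grp.PolarRec.row D c _ = Grp.PolarRec.row D c _ + Grp.PolarRec.row D c _
    rw [← e, row_symm hc hw.1, row_symm hc (hpre x hx).1.1, row_symm hc (hpre y hy).1.1]
    exact row_add h hR (hpre x hx).1.1 (hpre y hy).1.1 hnc hc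
  -- linear on the perpendicular of `a`
  let ω : Blk n → Blk (n + 1) := fun w => Fin.cons (1 + qF τ' w, 0) w
  have hω : ∀ w, qF τ (ω w) = 1 ∧ bF a (ω w) = 0 := fun w => by
    simp only [ω, a, qF_cons, bF_cons, bF_zero_left, hτ, ← hτ']
    have : ∀ t : ZMod 2, qb true (1 + t, 0) + t = 1 ∧ bb (1, 0) (1 + t, 0) + 0 = 0 := by decide
    exact this _
  have ωadd : ∀ w w', bF w w' = 1 → ω (w + w') = ω w + ω w' := fun w w' hww => by
    simp only [ω, cons_add, qF_add, hww]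
    congr 1
    have : ∀ s t : ZMod 2, ((1 + (s + t + 1), 0) : F22) = (1 + s, 0) + (1 + t, 0) := by decide
    exact this _ _
  obtain ⟨wv, ε, hfω⟩ := additive_classify τ' (fun w => f (ω w)) fun w w' hww => by
    show f (ω (w + w')) = _
    rw [ωadd w w' hww]
    refine hfadd _ _ (hω w).1 (hω w').1 ?_
    simp only [ω, bF_cons, hww]
    have : ∀ s t : ZMod 2, bb (s, 0) (t, 0) + 1 = 1 := by decide
    exact this _ _
  -- the value at `a`
  have hfa : f a = ε := by
    let j1 : Fin n := ⟨0, by omega⟩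
    let j2 : Fin n := ⟨1, by omega⟩
    have n12 : j1 ≠ j2 := by simp [j1, j2]
    obtain ⟨e₁, e₂, hz₁, hz₂, hz3, q1, q2, hb12⟩ : ∃ e₁ e₂ : Blk n, e₁ ≠ 0 ∧ e₂ ≠ 0 ∧ e₁ + e₂ ≠ 0 ∧
        qF τ' e₁ = 0 ∧ qF τ' e₂ = 0 ∧ bF e₁ e₂ = 0 := by
      let j3 : Fin n := ⟨2, by omega⟩
      have n13 : j1 ≠ j3 := by simp [j1, j3]
      have n23 : j2 ≠ j3 := by simp [j2, j3]
      obtain ⟨p₁, p₂, p₃, r₁, r₂, r₃, a1, a2, a3, a4, a5, a6⟩ :
          ∃ p₁ p₂ p₃ r₁ r₂ r₃ : F22, (p₁, p₂, p₃) ≠ 0 ∧ (r₁, r₂, r₃) ≠ 0 ∧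
            (p₁, p₂, p₃) ≠ (r₁, r₂, r₃) ∧ qb (τ' j1) p₁ + qb (τ' j2) p₂ + qb (τ' j3) p₃ = 0 ∧
            qb (τ' j1) r₁ + qb (τ' j2) r₂ + qb (τ' j3) r₃ = 0 ∧ bb p₁ r₁ + bb p₂ r₂ + bb p₃ r₃ = 0 := by
        exact three_singular (τ' j1) (τ' j2) (τ' j3)
      let v : F22 → F22 → F22 → Blk n := fun s t u => Pi.single j1 s + Pi.single j2 t + Pi.single j3 u
      have vv : ∀ s t u, (v s t u) j1 = s ∧ (v s t u) j2 = t ∧ (v s t u) j3 = u := fun s t u => by
        simp [v, n12, n13, n23, n12.symm, n13.symm, n23.symm]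
      have vne : ∀ s t u, (s, t, u) ≠ 0 → v s t u ≠ 0 := fun s t u hne e => hne (by
        obtain ⟨h1, h2, h3⟩ := vv s t u
        rw [e] at h1 h2 h3
        simp [← h1, ← h2, ← h3])
      have vq : ∀ s t u, qF τ' (v s t u) = qb (τ' j1) s + qb (τ' j2) t + qb (τ' j3) u := fun s t u => by
        simp only [v, qF_add, qF_single, bF_add_left, bF_single, Pi.single_eq_of_ne n12.symm,
          Pi.single_eq_of_ne n13.symm, Pi.single_eq_of_ne n23.symm]
        simp [bb, Pi.single_eq_of_ne n12.symm, Pi.single_eq_of_ne n13.symm, Pi.single_eq_of_ne n23.symm]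
      refine ⟨v p₁ p₂ p₃, v r₁ r₂ r₃, vne _ _ _ a1, vne _ _ _ a2, fun e => a3 ?_, by rw [vq, a4],
        by rw [vq, a5], ?_⟩
      · have e' : v p₁ p₂ p₃ = v r₁ r₂ r₃ := by
          by_contra k; exact add_ne_zero_of_ne k e
        obtain ⟨h1, h2, h3⟩ := vv p₁ p₂ p₃
        obtain ⟨k1, k2, k3⟩ := vv r₁ r₂ r₃
        rw [e'] at h1 h2 h3
        simp [← h1, ← h2, ← h3, k1, k2, k3]
      · conv_lhs => arg 2; simp only [v]
        obtain ⟨h1, h2, h3⟩ := vv p₁ p₂ p₃
        rw [bF_add_right, bF_add_right, bF_single, bF_single, bF_single, h1, h2, h3, a6]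
    have q12 : qF τ' (e₁ + e₂) = 0 := by rw [qF_add, q1, q2, hb12]; rfl
    have hp : ∀ e, qF τ' e = 0 → ω e = Fin.cons (1, 0) e := fun e he => by simp [ω, he]
    have hval : ∀ e, e ≠ 0 → qF τ' e = 0 → f (Fin.cons (1, 0) e) = bF wv e + ε := fun e he0 he => by
      have := hfω e he0
      rw [← hp e he, this, he, add_zero, mul_one]
    have qp : ∀ p : F22, qb true p = 1 → ∀ e, qF τ' e = 0 → qF τ (Fin.cons p e : Blk (n + 1)) = 1 :=
      fun p hp e he => by rw [qF_cons, hτ, ← hτ', hp, he]; rfl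
    have d10 : qb true (1, 0) = 1 := by decide
    have d01 : qb true (0, 1) = 1 := by decide
    have d11 : qb true (1, 1) = 1 := by decide
    -- two ways to reach the same vector
    have s1 : (Fin.cons (1, 1) e₁ : Blk (n + 1)) = b + Fin.cons (1, 0) e₁ := by
      simp only [b, cons_add, zero_add]; congr 1
    have s2 : (Fin.cons (0, 1) (e₁ + e₂) : Blk (n + 1)) = Fin.cons (1, 1) e₁ + Fin.cons (1, 0) e₂ := by
      simp only [cons_add]; congr 1
    have s3 : (Fin.cons (1, 1) (0 : Blk n) : Blk (n + 1)) = b + a := by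
      simp only [a, b, cons_add, zero_add]; congr 1
    have s4 : (Fin.cons (0, 1) (e₁ + e₂) : Blk (n + 1)) =
        Fin.cons (1, 1) (0 : Blk n) + Fin.cons (1, 0) (e₁ + e₂) := by
      simp only [cons_add, zero_add]; congr 1
    have f1 : f (Fin.cons (1, 1) e₁) = f b + f (Fin.cons (1, 0) e₁) := by
      rw [s1]; refine hfadd _ _ hqb (qp _ d10 _ q1) ?_
      simp only [b, bF_cons, bF_zero_left]; decide
    have f2 : f (Fin.cons (0, 1) (e₁ + e₂)) = f (Fin.cons (1, 1) e₁) + f (Fin.cons (1, 0) e₂) := by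
      rw [s2]; refine hfadd _ _ (qp _ d11 _ q1) (qp _ d10 _ q2) ?_
      rw [bF_cons, hb12]; decide
    have f3 : f (Fin.cons (1, 1) (0 : Blk n)) = f b + f a := by
      rw [s3]; exact hfadd _ _ hqb hqa (by rw [bF_comm, hab])
    have f4 : f (Fin.cons (0, 1) (e₁ + e₂)) =
        f (Fin.cons (1, 1) (0 : Blk n)) + f (Fin.cons (1, 0) (e₁ + e₂)) := by
      rw [s4]; refine hfadd _ _ (qp _ d11 _ (qF_zero _)) (qp _ d10 _ q12) ?_
      rw [bF_cons, bF_zero_left]; decide
    rw [hval e₁ hz₁ q1] at f1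
    rw [hval e₂ hz₂ q2, f1] at f2
    rw [hval _ hz3 q12, f3, f2, bF_add_right] at f4
    linear_combination -f4
  let ℓ : Blk (n + 1) := Fin.cons (f b, ε) wv
  have hℓω : ∀ w, f (ω w) = bF ℓ (ω w) := by
    intro w
    simp only [ω, ℓ, bF_cons]
    by_cases hw : w = 0
    · subst hw
      have e : (Fin.cons (1 + qF τ' (0 : Blk n), 0) (0 : Blk n) : Blk (n + 1)) = a := by
        simp only [a, qF_zero, add_zero]
      rw [e, hfa, qF_zero, bF_comm wv, bF_zero_left]
      simp [bb]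
    · have := hfω w hw
      rw [show f (Fin.cons (1 + qF τ' w, 0) w) = f (ω w) from rfl, this]
      simp [bb]; ring
  have hperp_a : ∀ x, qF τ x = 1 → bF a x = 0 → ∃ w, x = ω w := by
    intro x hx hax
    refine ⟨Fin.tail x, ?_⟩
    rw [← Fin.cons_self_tail x] at hx hax
    simp only [a, bF_cons, bF_zero_left, add_zero] at hax
    rw [qF_cons, hτ, ← hτ'] at hx
    conv_lhs => rw [← Fin.cons_self_tail x]
    simp only [ω]
    congr 1
    have : ∀ (p : F22) (t : ZMod 2), bb (1, 0) p = 0 → qb true p + t = 1 → p = (1 + t, 0) := by decide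
    exact this _ _ hax hx
  -- linear everywhere
  have hlin : ∀ x, qF τ x = 1 → f x = bF ℓ x := by
    let A : Set X := {T | ∃ x, qF τ x = 1 ∧ f x = bF ℓ x ∧ T = pv x}
    let T₀ : Set X := insert (pv a) (insert (pv b) (perp E (pv a)))
    have inA : ∀ s ∈ T₀, s ∈ A := by
      rintro s (rfl | rfl | ⟨hs, -, hcom⟩)
      · refine ⟨a, hqa, ?_, rfl⟩
        have := hℓω 0
        rwa [show ω 0 = a from by simp only [ω, a, qF_zero, add_zero]] at this
      · refine ⟨b, hqb, ?_, rfl⟩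
        simp only [ℓ, b, bF_cons, bF_comm wv, bF_zero_left, add_zero]
        simp [bb]
      · obtain ⟨x, hx, rfl⟩ := pv_surj s hs
        obtain ⟨w, rfl⟩ := hperp_a x hx ((pv_comm _ _ hqa hx).mp hcom)
        exact ⟨_, hx, hℓω w, rfl⟩
    have hall := stable_all hE (S := T₀)
      (by rintro s (rfl | rfl | hs); exacts [pv_mem a hqa, pv_mem b hqb, hs.1])
      (closure_local hE hER (pv_mem a hqa) (pv_mem b hqb) hnc) (A := A)
      (by rintro _ ⟨x, hx, -, rfl⟩; exact pv_mem x hx) ⟨_, inA _ (Set.mem_insert _ _)⟩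
      (by
        intro s hs e he
        obtain ⟨x, hx, fx, rfl⟩ := inA s hs
        obtain ⟨y, hy, fy, rfl⟩ := he
        by_cases k : bF x y = 0
        · rw [((pv_comm x y hx hy).mpr k).eq, mul_assoc, dsq hE.1 (pv_mem x hx), mul_one]
          exact ⟨y, hy, fy, rfl⟩
        · have k' := one_of_ne_zero k
          rw [pv_conj x y hx hy k']
          exact ⟨x + y, qsum x y hx hy k', by rw [hfadd x y hx hy k', fx, fy, bF_add_right], rfl⟩)
    intro x hx
    obtain ⟨y, hy, fy, e⟩ := hall _ (pv_mem x hx)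
    rwa [pv_inj x y hx hy e]
  have hcm : ∀ x, qF τ x = 1 → (pre x ∈ common D d c ↔ bF ℓ x = 0) := fun x hx => by
    rw [← hlin x hx]
    constructor
    · exact fun k => Grp.PolarRec.row_comm k.2.2.2
    · intro k
      refine ⟨(hpre x hx).1, (hpre x hx).1.1, fun e => hdc (e ▸ (hpre x hx).1.2.2), ?_⟩
      by_contra k'
      rw [show f x = Grp.PolarRec.row D c (pre x) from rfl, Grp.PolarRec.row_nc (hpre x hx).1.1 k'] at k
      exact one_ne_zero k
  obtain ⟨⟨x₁, hx₁⟩, hlink⟩ := meets_linked S hd hc hdc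
  by_cases hℓ : ℓ = 0
  · have hlt := mu_lt S g.core.2 hd hc hdc
    have : perp D d ⊆ common D d c := fun u hu => by
      obtain ⟨x, hx, rfl⟩ := hvec u hu
      exact (hcm x hx).mpr (by rw [hℓ, bF_zero_left])
    exact absurd hlt (not_lt.mpr (Set.ncard_le_ncard this (Set.toFinite _)))
  obtain ⟨p, hp, hpℓ⟩ : ∃ p, (qF τ p = 1 ∧ pre p ∈ common D d c) ∧ p ≠ ℓ := by
    obtain ⟨x₂, hx₂, hne, -⟩ := hlink x₁ hx₁
    obtain ⟨v₁, h1, rfl⟩ := hvec x₁ hx₁.1
    obtain ⟨v₂, h2, rfl⟩ := hvec x₂ hx₂.1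
    by_cases k : v₁ = ℓ
    · exact ⟨v₂, ⟨h2, hx₂⟩, fun e => hne (by rw [e, k])⟩
    · exact ⟨v₁, ⟨h1, hx₁⟩, k⟩
  have hℓp : bF ℓ p = 0 := (hcm p hp.1).mp hp.2
  have hbelow := read_below S hd ι' hι hc hdc hp.2 (pv_mem a hqa) (pv_mem b hqb) hnc
  let K : Finset (Blk (n + 1)) := Finset.univ.filter fun y => qF τ y = 1 ∧ bF ℓ y = 0 ∧ bF p y = 0
  let W : Finset (Blk n) := Finset.univ.filter fun w => qF τ' w = 1
  have hK : (K.erase p).card = (common D d c ∩ perp D (pre p)).ncard := by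
    rw [← Set.ncard_coe_finset, ← Set.InjOn.ncard_image (f := pre)
      (fun y hy z hz e => by
        simp only [K, Finset.coe_erase, Finset.coe_filter, Set.mem_diff, Set.mem_setOf_eq] at hy hz
        exact hpre_inj y z hy.1.2.1 hz.1.2.1 e)]
    congr 1
    ext u
    simp only [K, Finset.coe_erase, Finset.coe_filter, Finset.mem_univ, true_and, Set.mem_image,
      Set.mem_diff, Set.mem_setOf_eq, Set.mem_singleton_iff]
    constructor
    · rintro ⟨y, ⟨⟨hy, h1, h2⟩, hyp⟩, rfl⟩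
      exact ⟨(hcm y hy).mpr h1, (hpre y hy).1.1, fun e => hyp (hpre_inj y p hy hp.1 e),
        (hpc p y hp.1 hy).mpr h2⟩
    · rintro ⟨hu, hup⟩
      obtain ⟨y, hy, rfl⟩ := hvec u hu.1
      exact ⟨y, ⟨⟨hy, (hcm y hy).mp hu, (hpc p y hp.1 hy).mp hup.2.2⟩, fun e => hup.2.1 (by rw [e])⟩, rfl⟩
  have hW : W.card = (common E (pv a) (pv b)).ncard := by
    have q0 : ∀ w, qF τ (Fin.cons 0 w : Blk (n + 1)) = qF τ' w := fun w => by
      rw [qF_cons, ← hτ']; simp [qb]
    rw [← Set.ncard_coe_finset, ← Set.InjOn.ncard_image (f := fun w => pv (Fin.cons 0 w))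
      (fun y hy z hz e => by
        simp only [W, Finset.coe_filter, Set.mem_setOf_eq] at hy hz
        exact (Fin.cons_right_injective _) (pv_inj _ _ (by rw [q0, hy.2]) (by rw [q0, hz.2]) e))]
    congr 1
    ext T
    simp only [W, Finset.coe_filter, Finset.mem_univ, true_and, Set.mem_image, Set.mem_setOf_eq]
    have bb0 : bb (1, 0) 0 = 0 ∧ bb (0, 1) 0 = 0 := by decide
    constructor
    · rintro ⟨w, hw, rfl⟩
      have hq : qF τ (Fin.cons 0 w : Blk (n + 1)) = 1 := by rw [q0, hw]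
      refine ⟨⟨pv_mem _ hq, fun e => ?_, (pv_comm _ _ hqa hq).mpr ?_⟩,
        pv_mem _ hq, fun e => ?_, (pv_comm _ _ hqb hq).mpr ?_⟩
      · have := congrFun (pv_inj _ _ hq hqa e) 0; simp [a, Prod.ext_iff] at this
      · simp only [a, bF_cons, bF_zero_left, bb0.1, add_zero]
      · have := congrFun (pv_inj _ _ hq hqb e) 0; simp [b, Prod.ext_iff] at this
      · simp only [b, bF_cons, bF_zero_left, bb0.2, add_zero]
    · rintro ⟨⟨hT, -, h1⟩, -, -, h2⟩
      obtain ⟨x, hx, rfl⟩ := pv_surj T hT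
      rw [pv_comm _ _ hqa hx] at h1
      rw [pv_comm _ _ hqb hx] at h2
      rw [← Fin.cons_self_tail x] at h1 h2 hx ⊢
      simp only [a, b, bF_cons, bF_zero_left, add_zero] at h1 h2
      have : ∀ t : F22, bb (1, 0) t = 0 → bb (0, 1) t = 0 → t = 0 := by decide
      have h0 := this _ h1 h2
      rw [h0] at hx ⊢
      exact ⟨_, by rw [← q0]; exact hx, rfl⟩
  have hpK : p ∈ K := by simp [K, hp.1, hℓp, bF_self]
  have evW : Even W.card := even_ns τ' (by omega)
  have evK : Even K.card := by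
    -- the singular vector of the span of `p` and the linear form
    obtain ⟨z, hz0, hzq, hzl, hzp, hzy⟩ : ∃ z, z ≠ 0 ∧ qF τ z = 0 ∧ bF ℓ z = 0 ∧ bF p z = 0 ∧
        ∀ y, bF ℓ y = 0 → bF p y = 0 → bF y z = 0 := by
      by_cases hq : qF τ ℓ = 0
      · exact ⟨ℓ, hℓ, hq, bF_self _, by rw [bF_comm, hℓp], fun y h1 _ => by rw [bF_comm, h1]⟩
      · refine ⟨ℓ + p, add_ne_zero_of_ne (Ne.symm hpℓ), ?_, ?_, ?_, fun y h1 h2 => ?_⟩
        · rw [qF_add, one_of_ne_zero hq, hp.1, hℓp]; rfl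
        · rw [bF_add_right, bF_self, hℓp, add_zero]
        · rw [bF_add_right, bF_self, bF_comm, hℓp, add_zero]
        · rw [bF_add_right, bF_comm y ℓ, bF_comm y p, h1, h2, add_zero]
    refine even_card_of_invol K (fun y => y + z) (fun y hy => ?_) (fun y _ => ?_) fun y _ e => hz0 ?_
    · simp only [K, Finset.mem_filter, Finset.mem_univ, true_and] at hy ⊢
      obtain ⟨y1, y2, y3⟩ := hy
      refine ⟨?_, ?_, ?_⟩
      · rw [qF_add, y1, hzq, hzy y y2 y3, add_zero, add_zero]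
      · rw [bF_add_right, y2, hzl, add_zero]
      · rw [bF_add_right, y3, hzp, add_zero]
    · rw [add_assoc, char2B, add_zero]
    · simpa using e
  have he : (K.erase p).card + 1 = K.card := Finset.card_erase_add_one hpK
  rw [hK, hbelow, ← hW] at he
  rw [← he] at evK
  exact Nat.not_even_iff_odd.mpr (Even.add_one evW) evK

/-- The same for a named form. -/
theorem orth_absurd_form (g : Good D) (S : Setting D) (hd : d ∈ D) (hn : 3 ≤ n) {ι : Type} [Fintype ι]
    [DecidableEq ι] (Q : QuadraticForm (ZMod 2) (ι → ZMod 2))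
    (hQ : (QuadraticMap.polarBilin Q).Nondegenerate) (h5 : 5 ≤ Fintype.card ι)
    (ι' : PerpQuot D d ≃* ↥(isometryGroup (ZMod 2) ⇑Q)) (hι : ι' '' perpSet D d = OTwo.tset Q)
    (τ : Fin (n + 1) → Bool) (hτ : τ 0 = true) (φ : Blk (n + 1) → ι → ZMod 2)
    (φs : Function.Surjective φ) (φa : ∀ x y, φ (x + y) = φ x + φ y)
    (φq : ∀ x, Q (φ x) = qF τ x) : False := by
  have φB : ∀ x y, QuadraticMap.polar ⇑Q (φ x) (φ y) = bF x y := fun x y => by
    rw [QuadraticMap.polar, ← φa, φq, φq, φq, qF_add]; ring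
  have φi : Function.Injective φ := fun x y e => by
    by_contra k
    obtain ⟨z, hz⟩ := exists_bF_one (add_ne_zero_of_ne k)
    rw [bF_add_left, ← φB, ← φB, e] at hz
    exact zero_ne_one (α := ZMod 2) ((CharTwo.add_self_eq_zero _).symm.trans hz)
  have q1 : ∀ x, qF τ x = 1 → Q (φ x) = 1 := fun x hx => (φq x).trans hx
  refine orth_absurd g S hd hn ι' hι (OTwo.cls Q hQ h5) (OTwo.rowAdd Q hQ) τ hτ
    (fun x => OTwo.pt Q (φ x)) (fun x hx => OTwo.pt_mem Q hQ (q1 x hx)) (fun T hT => ?_)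
    (fun x y hx hy e => φi (OTwo.pt_inj Q hQ (q1 x hx) (q1 y hy) e)) (fun x y hx hy => ?_)
    fun x y hx hy hxy => ?_
  · obtain ⟨v, hv, rfl⟩ := OTwo.exists_pt Q hQ hT
    obtain ⟨x, rfl⟩ := φs v
    exact ⟨x, (φq x).symm.trans hv, rfl⟩
  · rw [OTwo.pt_commute Q hQ (q1 x hx) (q1 y hy), φB]
  · rw [OTwo.pt_conj Q hQ (q1 x hx) (q1 y hy), φB, hxy, one_smul, φa, add_comm]

/-- Two hyperbolic blocks are two anisotropic blocks. -/
def twoH (p q : F22) : F22 × F22 :=
  ((p.1 + p.2 + q.2, p.1 + q.2), (p.2 + q.1 + q.2, p.2 + q.1))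

theorem orth_plus_absurd (g : Good D) (S : Setting D) (hd : d ∈ D) {m : ℕ} (hm : 4 ≤ m)
    (ι' : PerpQuot D d ≃* ↥(isometryGroup (ZMod 2) ⇑(Classical.qfPlus m (ZMod 2))))
    (hι : ι' '' perpSet D d = OTwo.tset (Classical.qfPlus m (ZMod 2))) : False := by
  obtain ⟨k, rfl⟩ : ∃ k, m = k + 2 := ⟨m - 2, by omega⟩
  let τ : Fin (k + 2) → Bool := fun i => decide (i.val < 2)
  let tr : Blk (k + 2) → Blk (k + 2) := fun x =>
    Fin.cons (twoH (x 0) (x 1)).1 (Fin.cons (twoH (x 0) (x 1)).2 fun i => x i.succ.succ)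
  have tinv : ∀ p q : F22, ∃ p' q', twoH p' q' = (p, q) := by decide
  have tadd : ∀ p q p' q' : F22, twoH (p + p') (q + q') = twoH p q + twoH p' q' := by decide
  have tq : ∀ p q : F22, (twoH p q).1.1 * (twoH p q).1.2 + (twoH p q).2.1 * (twoH p q).2.2 =
      qb true p + qb true q := by decide
  refine orth_absurd_form (n := k + 1) g S hd (by omega) (Classical.qfPlus (k + 2) (ZMod 2))
    (OrthTwo.nondeg_plus _) (by simp; omega) ι' hι τ (by simp [τ])
    (fun x => Sum.elim (fun i => (tr x i).1) (fun i => (tr x i).2)) (fun y => ?_) (fun x x' => ?_)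
    fun x => ?_
  · obtain ⟨p, q, e⟩ := tinv (y (.inl 0), y (.inr 0)) (y (.inl 1), y (.inr 1))
    refine ⟨Fin.cons p (Fin.cons q fun i => (y (.inl i.succ.succ), y (.inr i.succ.succ))), ?_⟩
    have e0 : (Fin.cons p (Fin.cons q fun i => (y (.inl i.succ.succ), y (.inr i.succ.succ))) :
        Blk (k + 2)) 1 = q := by
      rw [show (1 : Fin (k + 2)) = Fin.succ 0 from rfl, Fin.cons_succ, Fin.cons_zero]
    funext s
    rcases s with i | i <;> induction i using Fin.cases with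
    | zero => simp [tr, e0, e]
    | succ j => induction j using Fin.cases <;> simp [tr, e0, e]
  · funext s
    rcases s with i | i <;> induction i using Fin.cases with
    | zero => simp [tr, tadd]
    | succ j => induction j using Fin.cases <;> simp [tr, tadd]
  · simp only [Classical.qfPlus_apply, quadFormPlus, Sum.elim_inl, Sum.elim_inr, qF]
    rw [Fin.sum_univ_succ, Fin.sum_univ_succ, Fin.sum_univ_succ, Fin.sum_univ_succ]
    simp only [tr, Fin.cons_zero, Fin.cons_succ, τ, ← add_assoc, tq]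
    simp [qb]

theorem orth_minus_absurd (g : Good D) (S : Setting D) (hd : d ∈ D) {m : ℕ} (hm : 3 ≤ m)
    (ι' : PerpQuot D d ≃* ↥(isometryGroup (ZMod 2) ⇑(Classical.qfMinus m (ZMod 2) 1 1)))
    (hι : ι' '' perpSet D d = OTwo.tset (Classical.qfMinus m (ZMod 2) 1 1)) : False := by
  refine orth_absurd_form (n := m) g S hd hm (Classical.qfMinus m (ZMod 2) 1 1)
    (OrthTwo.nondeg_minus m) (by simp; omega) ι' hι (fun i => decide (i = 0)) (by simp)
    (fun x => Sum.elim (Sum.elim (fun i => (x i.succ).1) (fun i => (x i.succ).2)) ![(x 0).1, (x 0).2])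
    (fun y => ?_) (fun x x' => ?_) fun x => ?_
  · refine ⟨Fin.cons (y (.inr 0), y (.inr 1)) fun i => (y (.inl (.inl i)), y (.inl (.inr i))), ?_⟩
    funext s; rcases s with (i | i) | j
    · simp
    · simp
    · fin_cases j <;> simp
  · funext s; rcases s with (i | i) | j
    · rfl
    · rfl
    · fin_cases j <;> rfl
  · simp only [Classical.qfMinus_apply, quadFormMinus, Sum.elim_inl, Sum.elim_inr, qF,
      Matrix.cons_val_zero, Matrix.cons_val_one, Fin.sum_univ_succ, qb, Fin.succ_ne_zero,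
      decide_true, decide_false, if_true]
    have : ∀ a b : ZMod 2, a ^ 2 + 1 * a * b + 1 * b ^ 2 = a * b + (a + b) := by decide
    rw [this]
    simp
    ring

end Cfsg.Agent.Spor.FischerThm
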