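import Cfsg.Agent.Lib.Spor.FischerThm.ReflSign

/-! A projective reflection group as perpendicular quotient gives the one of the next dimension. -/

set_option autoImplicit false
set_option linter.style.haveILetI false
set_option linter.unusedSectionVars false
set_option maxHeartbeats 400000

namespace Cfsg.Agent.Spor.FischerThm

open Cfsg Cfsg.Agent.Spor.ThreeTrans Cfsg.Agent.Block.FischerTypes
open Cfsg.Agent.Spor.ThreeTrans renaming mul_self → dsq
open Cfsg.Agent.Spor.FischerThm.Q3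
open Cfsg.Agent.Grp.PolarRec (iso_of_equivariant)

variable {n : ℕ} {G : Type*} [Group G] [Finite G] {D : Set G} {d c : G}
  {Q : QuadraticForm (ZMod 3) (V n)} {p : V n → G} {φ₀ : V n}
  (g : Good D) (S : Setting D) (hn : 5 ≤ n) (hd : d ∈ D) (C : Chart D d Q p)
  (hlin : ∀ y ∈ D, ¬ Commute d y → ∃ ψ, Cls D d Q p y ψ)
  (hc : c ∈ D) (hdc : ¬ Commute d c) (hφ₀ : Cls D d Q p c φ₀)
include g S hn hd C hlin hc hdc hφ₀

omit hlin in
theorem self_zero : B Q φ₀ φ₀ = 0 := by rw [B_self, hφ₀.2.2.2.1, mul_zero]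

/-- The points act on the signs by their reflections. -/
theorem sgn_conj_point {y : G} {ψ v : V n} (hv : Q v = 1) (h : Sgn D d Q p c φ₀ y ψ) :
    Sgn D d Q p c φ₀ (p v * y * p v) (ψ - B Q v ψ • v) := by
  have h0 := self_zero g S hn hd C hc hdc hφ₀
  wlog hb : B Q φ₀ v = 0 ∨ B Q φ₀ v = 1 generalizing v with H
  · have hb' : B Q φ₀ (-v) = 1 := by
      rw [B_neg_right]
      rcases (by decide : ∀ t : ZMod 3, t = 0 ∨ t = 1 ∨ t = -1) (B Q φ₀ v) with r | r | r
      · exact absurd (Or.inl r) hb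
      · exact absurd (Or.inr r) hb
      · rw [r]; decide
    have := H (v := -v) (by rw [q_neg, hv]) (Or.inr hb')
    rwa [C.neg v hv, B_neg_left, neg_smul_neg] at this
  obtain ⟨hvD, -, hdv⟩ := C.mem v hv
  have hsq := dsq S.cls.1 hvD
  have hcls : Cls D d Q p (p v * y * p v) (ψ - B Q v ψ • v) := cls_conj_point S C h.1 hv
  rcases hb with hb | hb
  · -- the point fixes `c`
    have hcv : Commute c (p v) := (hφ₀.commute_iff C hv).mpr hb
    have fixc : p v * c * p v = c := by rw [← hcv.eq, mul_assoc, hsq, mul_one]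
    have hBσ : B Q φ₀ (ψ - B Q v ψ • v) = B Q φ₀ ψ := by rw [B_sub_right, B_smul_right, hb]; ring
    have hci : Commute c (p v * y * p v) ↔ Commute c y := by
      rw [Commute.symm_iff, commute_swap hsq, fixc, Commute.symm_iff]
    have back : (ψ - B Q v ψ • v) - B Q v (ψ - B Q v ψ • v) • v = ψ := by
      rw [B_sub_right, B_smul_right, B_self, hv, sub_sub, ← add_smul]
      have : B Q v ψ + (B Q v ψ - B Q v ψ * (2 * 1)) = 0 := by
        generalize B Q v ψ = t; revert t; decide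
      rw [this, zero_smul, sub_zero]
    refine ⟨hcls, fun k => hci.mpr (h.2.1 (hBσ ▸ k)), fun k => fun k' => h.2.2.1 (hBσ ▸ k) (hci.mp k'),
      fun k => ?_, fun k => ?_, fun k k1 k2 => ?_⟩
    · have e : ψ = φ₀ := by
        rw [← back, k, B_comm Q v φ₀, hb, zero_smul, sub_zero]
      rw [h.2.2.2.1 e, fixc]
    · have e : ψ = -φ₀ := by
        rw [← back, k, B_neg_right, B_comm Q v φ₀, hb, neg_zero, zero_smul, sub_zero]
      rw [h.2.2.2.2.1 e, show p v * (d * c * d) * p v = d * (p v * c * p v) * d from by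
        simp only [← mul_assoc]; rw [hdv.symm.eq, mul_assoc _ d (p v), hdv.eq, ← mul_assoc], fixc]
    · rw [hBσ] at k
      have w := cls_conj_point S C (h.2.2.2.2.2 k
        (fun e => k1 (by rw [e, B_comm Q v φ₀, hb, zero_smul, sub_zero]))
        (fun e => k2 (by rw [e, B_neg_right, B_comm Q v φ₀, hb, neg_zero, zero_smul, sub_zero]))) hv
      rw [B_add_right, B_comm Q v φ₀, hb, zero_add, add_sub_assoc] at w
      have ec : p v * (c * y * c) * p v = c * (p v * y * p v) * c := by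
        simp only [← mul_assoc]
        rw [hcv.symm.eq, mul_assoc _ c (p v), hcv.eq, ← mul_assoc]
      exact ec ▸ w
  -- the point is apart from `c`
  have hnc : ¬ Commute c (p v) := apart_point g S hd C hc hdc hφ₀ hv (by rw [hb]; exact one_ne_zero)
  have hvc : p v * c * p v = c * p v * c := (braid S.cls.1 hc hvD hnc).symm
  obtain ⟨w1, -, -⟩ := sgn_line g S hd C hc hdc hφ₀ hv hb
  have hci : ∀ y, Commute c (p v * y * p v) ↔ Commute (c * y * c) (p v) := fun y => by
    rw [Commute.symm_iff, commute_swap hsq, hvc, commute_swap (dsq S.cls.1 hc)]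
  suffices main : ∀ y ψ, Sgn D d Q p c φ₀ y ψ → B Q φ₀ ψ ≠ 1 → ψ ≠ -φ₀ →
      Sgn D d Q p c φ₀ (p v * y * p v) (ψ - B Q v ψ • v) by
    by_cases h1 : B Q φ₀ ψ = 1 ∨ ψ = -φ₀
    · have hz := sgn_conj_d g S hn hd C hlin hc hdc hφ₀ h
      have k := main _ _ hz ?_ ?_
      · have := sgn_conj_d g S hn hd C hlin hc hdc hφ₀ k
        rw [B_neg_right, show -(-ψ - -B Q v ψ • v) = ψ - B Q v ψ • v from by rw [neg_smul]; abel,
          show d * (p v * (d * y * d) * p v) * d = p v * y * p v from by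
            simp only [← mul_assoc]
            rw [hdv.eq, mul_assoc (p v) d d, dsq S.cls.1 hd, mul_one,
              mul_assoc _ (p v) d, hdv.symm.eq, ← mul_assoc, mul_assoc (p v * y) d d, dsq S.cls.1 hd, mul_one]] at this
        exact this
      · rw [B_neg_right]
        rcases h1 with e | e
        · rw [e]; decide
        · rw [e, B_neg_right, h0]; decide
      · intro e
        rw [neg_inj] at e
        rcases h1 with k | k
        · rw [e, h0] at k; exact zero_ne_one k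
        · refine h.1.2.2.1 ?_
          rw [e] at k ⊢
          funext i
          exact (by decide : ∀ t : ZMod 3, t = -t → t = 0) _ (congrFun k i)
    · push Not at h1
      exact main y ψ h h1.1 h1.2
  clear h hcls y ψ
  intro y ψ h h1 h2
  have hcls : Cls D d Q p (p v * y * p v) (ψ - B Q v ψ • v) := cls_conj_point S C h.1 hv
  by_cases e : ψ = φ₀
  · subst e
    rw [h.2.2.2.1 rfl, hvc] at hcls ⊢
    rw [B_comm Q v, hb, one_smul] at hcls ⊢
    have bn : B Q ψ (ψ - v) = -1 := by rw [B_sub_right, h0, hb, zero_sub]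
    refine ⟨hcls, fun k => ?_, fun _ => ?_, fun k => ?_, fun k => ?_, fun k => ?_⟩
    · rw [bn] at k; exact absurd k (by decide)
    · exact fun k => hnc ((hci c).mp (hvc.symm ▸ k) |> fun q => by
        rwa [show c * c * c = c by rw [dsq S.cls.1 hc, one_mul]] at q)
    · have := (ne_of_pm g S hd C hc hdc hφ₀ (ψ := ψ - v) (by rw [bn]; decide)).1
      exact absurd k this
    · have := (ne_of_pm g S hd C hc hdc hφ₀ (ψ := ψ - v) (by rw [bn]; decide)).2
      exact absurd k this
    · rw [bn] at k; exact absurd k (by decide)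
  set β := B Q v ψ with hβ
  have hBσ : B Q φ₀ (ψ - β • v) = B Q φ₀ ψ - β := by rw [B_sub_right, B_smul_right, hb]; ring
  rcases (by decide : ∀ t : ZMod 3, t ≠ 1 → t = 0 ∨ t = -1) _ h1 with r | r
  · -- both sides orthogonal to the vector of `c`
    have hcyc := h.2.2.2.2.2 r e h2
    by_cases hβ0 : β = 0
    · rw [hβ0, zero_smul, sub_zero]
      have hfix : p v * y * p v = y := by
        have := (h.1.commute_iff C hv).mpr (by rw [B_comm, ← hβ, hβ0])
        rw [← this.eq, mul_assoc, hsq, mul_one]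
      rwa [hfix]
    have hiff : Commute c (p v * y * p v) ↔ β = -1 := by
      rw [hci, hcyc.commute_iff C hv, B_add_left, hb, B_comm Q ψ v, ← hβ]
      generalize β = t; revert t; decide
    rw [r, zero_sub] at hBσ
    refine ⟨hcls, fun k => hiff.mpr (neg_eq_iff_eq_neg.mp (hBσ ▸ k)), fun k k' => ?_, fun k => ?_, fun k => ?_,
      fun k => ?_⟩
    · rw [hBσ, hiff.mp k'] at k; exact absurd k (by decide)
    · exact absurd k (ne_of_pm g S hd C hc hdc hφ₀ (by rw [hBσ]; exact neg_ne_zero.mpr hβ0)).1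
    · exact absurd k (ne_of_pm g S hd C hc hdc hφ₀ (by rw [hBσ]; exact neg_ne_zero.mpr hβ0)).2
    · rw [hBσ] at k; exact absurd (neg_eq_zero.mp k) hβ0
  · -- a translate of a point
    set u := φ₀ - ψ with hu'
    have hu : Q u = 1 := by rw [hu', q_sub, hφ₀.2.2.2.1, h.1.2.2.2.1, r]; rfl
    have bu : B Q φ₀ u = 1 := by rw [hu', B_sub_right, h0, r]; decide
    obtain ⟨l1, l2, -⟩ := sgn_line g S hd C hc hdc hφ₀ hu bu
    rw [show φ₀ - u = ψ from by rw [hu']; abel] at l1
    have hy : y = c * p u * c := sgn_unique g S hn hd C hlin hc hdc hφ₀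
      (ψ := ψ) (y := c * p u * c) (y' := y) ⟨l1, fun k => absurd k h1, fun _ => l2, fun k => absurd k e,
        fun k => absurd k h2, fun k => absurd k (by rw [r]; decide)⟩ h
    have hcyc : c * y * c = p u := by
      rw [hy, ← mul_assoc, ← mul_assoc, dsq S.cls.1 hc, one_mul, mul_assoc, dsq S.cls.1 hc, mul_one]
    have buv : β = 1 - B Q u v := by
      rw [hu', B_sub_left, hb, B_comm Q ψ v, ← hβ]; ring
    have hiff : Commute c (p v * y * p v) ↔ B Q u v = 0 ∨ p u = p v := by
      rw [hci, hcyc, C.comm u v hu hv]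
    rw [r] at hBσ
    by_cases euv : p u = p v
    · -- back to `c`
      have : u = v := by
        rcases C.inj u v hu hv euv with k | k
        · exact k
        · rw [k, B_neg_right, hb] at bu; exact absurd bu (by decide)
      have hb2 : β = -1 := by rw [buv, this, B_self, hv]; decide
      have hy' : p v * y * p v = c := by
        rw [hy, this, ← hvc, ← mul_assoc, ← mul_assoc, hsq, one_mul, mul_assoc, hsq, mul_one]
      have hψ' : ψ - β • v = φ₀ := by rw [hb2, ← this, hu', neg_one_smul]; abel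
      rw [hy', hψ']
      exact ⟨hφ₀, fun _ => Commute.refl c, fun k => by rw [h0] at k; exact absurd k (by decide), fun _ => rfl,
        fun k => absurd (by
          funext i
          exact (by decide : ∀ t : ZMod 3, t = -t → t = 0) _ (congrFun k i)) hφ₀.2.2.1,
        fun _ k => absurd rfl k⟩
    rw [or_iff_left euv] at hiff
    rcases (by decide : ∀ t : ZMod 3, t = 0 ∨ t = 1 ∨ t = -1) (B Q u v) with q | q | q
    · have hb1 : B Q φ₀ (ψ - β • v) = 1 := by rw [hBσ, buv, q]; decide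
      refine ⟨hcls, fun _ => hiff.mpr q, fun k => ?_, fun k => ?_, fun k => ?_, fun k => ?_⟩
      · rw [hb1] at k; exact absurd k (by decide)
      · exact absurd k (ne_of_pm g S hd C hc hdc hφ₀ (by rw [hb1]; decide)).1
      · exact absurd k (ne_of_pm g S hd C hc hdc hφ₀ (by rw [hb1]; decide)).2
      · rw [hb1] at k; exact absurd k one_ne_zero
    · have hb1 : B Q φ₀ (ψ - β • v) = -1 := by rw [hBσ, buv, q]; decide
      refine ⟨hcls, fun k => ?_, fun _ k => ?_, fun k => ?_, fun k => ?_, fun k => ?_⟩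
      · rw [hb1] at k; exact absurd k (by decide)
      · rw [hiff, q] at k; exact one_ne_zero k
      · exact absurd k (ne_of_pm g S hd C hc hdc hφ₀ (by rw [hb1]; decide)).1
      · exact absurd k (ne_of_pm g S hd C hc hdc hφ₀ (by rw [hb1]; decide)).2
      · rw [hb1] at k; exact absurd k (by decide)
    · have hb2 : β = -1 := by rw [buv, q]; decide
      rw [hb2, neg_one_smul, sub_neg_eq_add] at hcls hBσ ⊢
      have hb0 : B Q φ₀ (ψ + v) = 0 := by rw [hBσ]; decide
      have huv : ψ + v = φ₀ - u + v := by rw [hu']; abel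
      refine ⟨hcls, fun k => ?_, fun k => ?_, fun k => ?_, fun k => ?_, fun _ _ _ => ?_⟩
      · rw [hb0] at k; exact absurd k zero_ne_one
      · rw [hb0] at k; exact absurd k (by decide)
      · refine absurd ?_ euv
        rw [huv, sub_add_eq_add_sub, sub_eq_iff_eq_add, add_right_inj] at k
        rw [k]
      · have k' : v = u + φ₀ := by
          rw [huv] at k
          funext i
          exact (by decide : ∀ f u v : ZMod 3, f - u + v = -f → v = u + f) _ _ _ (congrFun k i)
        rw [k', B_add_right, B_self, hu, B_comm Q u φ₀, bu] at q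
        exact absurd q (by decide)
      · have hnc' : ¬ Commute (c * p v * c) (p u) := fun k => by
          have := (w1.commute_iff C hu).mp k
          rw [B_sub_left, bu, B_comm, q] at this
          exact absurd this (by decide)
        have key := cls_conj_point S C w1 hu
        rw [braid S.cls.1 (C.mem u hu).1 w1.1 fun k => hnc' k.symm, B_sub_right, B_comm Q u φ₀, bu, q,
          show φ₀ - v - ((1 : ZMod 3) - -1) • u = -(φ₀ + (ψ + v)) from by
            rw [show ((1 : ZMod 3) - -1) = -1 from by decide, neg_one_smul, sub_neg_eq_add, hu']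
            funext i
            simp only [Pi.sub_apply, Pi.add_apply, Pi.neg_apply]
            exact (by decide : ∀ f v s : ZMod 3, f - v + (f - s) = -(f + (s + v))) _ _ _] at key
        have k2 := key.neg
        rw [neg_neg] at k2
        have ec : c * (p v * y * p v) * c = c * p v * c * p u * (c * p v * c) := by rw [hy]; group
        exact ec ▸ k2

omit g S hn hd C hlin hc hdc hφ₀ in
theorem cons_move (a b t : ZMod 3) (x y : V n) :
    (Fin.cons a x : V (n + 1)) - t • (Fin.cons b y : V (n + 1)) = Fin.cons (a - t * b) (x - t • y) := by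
  funext i
  induction i using Fin.cases <;> simp

omit g S hn hd C hlin hc hdc hφ₀ in
theorem cons_neg (a : ZMod 3) (x : V n) : -(Fin.cons a x : V (n + 1)) = Fin.cons (-a) (-x) := by
  funext i
  induction i using Fin.cases <;> simp

/-- The next reflection group. -/
theorem refl_next : ∃ Q' : QuadraticForm (ZMod 3) (V (n + 1)), (QuadraticMap.polarBilin Q').Nondegenerate ∧
    ∃ e : G ≃* RGrp Q' 1, e '' D = rset Q' 1 := by
  classical
  have h0 := self_zero g S hn hd C hc hdc hφ₀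
  obtain ⟨Q', hQ'⟩ : ∃ Q' : QuadraticForm (ZMod 3) (V (n + 1)), ∀ a x, Q' (Fin.cons a x) = a * a + Q x :=
    ⟨(QuadraticMap.sq (R := ZMod 3)).comp (LinearMap.proj 0) + Q.comp (LinearMap.funLeft (ZMod 3) (ZMod 3) Fin.succ),
      fun a x => by
        simp only [_root_.QuadraticMap.add_apply, QuadraticMap.comp_apply, QuadraticMap.sq_apply,
          LinearMap.proj_apply, Fin.cons_zero]
        congr 1⟩
  have hB' : ∀ a b x y, B Q' (Fin.cons a x) (Fin.cons b y) = 2 * (a * b) + B Q x y := fun a b x y => by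
    simp only [B, QuadraticMap.polar]
    rw [show (Fin.cons a x : V (n + 1)) + Fin.cons b y = Fin.cons (a + b) (x + y) from by
      funext i; induction i using Fin.cases <;> simp, hQ', hQ', hQ']
    ring
  have hnd : (QuadraticMap.polarBilin Q').Nondegenerate := by
    have left : ∀ w : V (n + 1), (∀ z, B Q' w z = 0) → w = 0 := fun w hw => by
      rw [← Fin.cons_self_tail w] at hw ⊢
      have a0 : w 0 = 0 := by
        have := hw (Fin.cons 1 0)
        rw [hB', B_zero_right, add_zero, mul_one] at this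
        exact (mul_eq_zero.mp this).resolve_left (by decide)
      have t0 : Fin.tail w = 0 := C.nd.1 _ fun y => by
        have := hw (Fin.cons 0 y)
        rwa [hB', mul_zero, mul_zero, zero_add] at this
      rw [a0, t0]; funext i; induction i using Fin.cases <;> simp
    exact ⟨left, fun w hw => left w fun z => (B_comm Q' w z).trans (hw z)⟩
  refine ⟨Q', hnd, ?_⟩
  obtain ⟨⟨pv, R⟩, hcen⟩ := rmodel_of_refl (c := (1 : ZMod 3)) (by omega : 5 ≤ n + 1) Q' hnd one_ne_zero
  rw [one_smul] at R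
  -- vectors of the members
  let δ : V (n + 1) := Fin.cons 1 0
  have qδ : Q' δ = 1 := by simp only [δ, hQ', QuadraticMap.map_zero]; decide
  let W : G → V (n + 1) → Prop := fun y w => (y = d ∧ w = δ) ∨ (∃ x, Q x = 1 ∧ y = p x ∧ w = Fin.cons 0 x) ∨
    ∃ ψ, Sgn D d Q p c φ₀ y ψ ∧ w = Fin.cons 1 ψ
  have Wq : ∀ y w, W y w → Q' w = 1 := by
    rintro y w (⟨-, rfl⟩ | ⟨x, hx, -, rfl⟩ | ⟨ψ, hψ, rfl⟩)
    · exact qδ
    · rw [hQ', hx]; ring
    · rw [hQ', hψ.1.2.2.2.1]; ring
  have Wtot : ∀ y ∈ D, ∃ w, W y w := by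
    intro y hy
    by_cases e : y = d
    · exact ⟨_, Or.inl ⟨e, rfl⟩⟩
    by_cases k : Commute d y
    · obtain ⟨x, hx, rfl⟩ := C.surj y ⟨hy, e, k⟩
      exact ⟨_, Or.inr (Or.inl ⟨x, hx, rfl, rfl⟩)⟩
    · obtain ⟨ψ, hψ⟩ := sgn_total g S hn hd C hlin hc hdc hφ₀ hy k
      exact ⟨_, Or.inr (Or.inr ⟨ψ, hψ, rfl⟩)⟩
  have Wuniq : ∀ y w w', W y w → W y w' → pv w = pv w' := by
    rintro y w w' (⟨rfl, rfl⟩ | ⟨x, hx, rfl, rfl⟩ | ⟨ψ, hψ, rfl⟩) (⟨e', rfl⟩ | ⟨x', hx', e', rfl⟩ | ⟨ψ', hψ', rfl⟩)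
    · rfl
    · exact absurd e'.symm (C.mem x' hx').2.1
    · exact absurd (Commute.refl _) hψ'.1.2.1
    · exact absurd e' (C.mem x hx).2.1
    · rcases C.inj x x' hx hx' e' with rfl | rfl
      · rfl
      · rw [show (Fin.cons 0 (-x') : V (n + 1)) = -Fin.cons 0 x' from by rw [cons_neg, neg_zero], R.neg]
    · exact absurd (C.mem x hx).2.2 hψ'.1.2.1
    · exact absurd (e' ▸ Commute.refl d) hψ.1.2.1
    · exact absurd (e' ▸ (C.mem x' hx').2.2) hψ.1.2.1
    · rw [sgn_vec g S hn hd C hlin hc hdc hφ₀ hψ hψ']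
  let F : G → RGrp Q' 1 := fun y => if hy : y ∈ D then pv (Wtot y hy).choose else 1
  have Feq : ∀ {y w}, y ∈ D → W y w → F y = pv w := fun {y w} hy hw => by
    simp only [F, dif_pos hy]; exact Wuniq y _ w (Wtot y hy).choose_spec hw
  have hF : ∀ y ∈ D, F y ∈ rset Q' 1 := fun y hy => by
    obtain ⟨w, hw⟩ := Wtot y hy
    rw [Feq hy hw]; exact R.mem w (Wq y w hw)
  have hsurj : ∀ T ∈ rset Q' 1, ∃ y ∈ D, F y = T := by
    intro T hT
    obtain ⟨w, hw, rfl⟩ := R.surj T hT
    rw [← Fin.cons_self_tail w] at hw ⊢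
    rw [hQ'] at hw
    by_cases h0' : w 0 = 0
    · rw [h0', mul_zero, zero_add] at hw
      exact ⟨_, (C.mem _ hw).1, Feq (C.mem _ hw).1 (Or.inr (Or.inl ⟨_, hw, rfl, by rw [h0']⟩))⟩
    have hww := ReflThree.three_cases _ h0'
    rw [hww, add_eq_left] at hw
    have en : pv (Fin.cons 1 (w 0 • Fin.tail w)) = pv (Fin.cons (w 0) (Fin.tail w)) := by
      rcases (by decide : ∀ t : ZMod 3, t ≠ 0 → t = 1 ∨ t = -1) _ h0' with r | r
      · rw [r, one_smul]
      · rw [r, ← R.neg (Fin.cons (-1) (Fin.tail w)), cons_neg, neg_neg, neg_one_smul]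
    rw [← en]
    by_cases ht : w 0 • Fin.tail w = 0
    · rw [ht]; exact ⟨d, hd, Feq hd (Or.inl ⟨rfl, rfl⟩)⟩
    · obtain ⟨y, hy, -⟩ := sgn_exists g S hn hd C hc hdc hφ₀ (ψ := w 0 • Fin.tail w) ht
        (by rw [q_smul, hw, mul_zero])
      exact ⟨y, hy.1.1, Feq hy.1.1 (Or.inr (Or.inr ⟨_, hy, rfl⟩))⟩
  -- the generators
  set S₀ : Set G := insert d (insert c (perp D d))
  have hS₀ : S₀ ⊆ D := by rintro s (rfl | rfl | hs); exacts [hd, hc, hs.1]
  have hgen : Subgroup.closure S₀ = ⊤ := by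
    rw [eq_top_iff, ← S.cls.2.2, Subgroup.closure_le]
    intro y hy
    by_cases e : y = d
    · subst e; exact Subgroup.subset_closure (Set.mem_insert _ _)
    by_cases k : Commute d y
    · exact Subgroup.subset_closure (Set.mem_insert_of_mem _ (Set.mem_insert_of_mem _ ⟨hy, e, k⟩))
    · obtain ⟨ψ, hψ⟩ := sgn_total g S hn hd C hlin hc hdc hφ₀ hy k
      obtain ⟨y', hy', hm⟩ := sgn_exists g S hn hd C hc hdc hφ₀ hψ.1.2.2.1 hψ.1.2.2.2.1
      exact sgn_unique g S hn hd C hlin hc hdc hφ₀ hy' hψ ▸ hm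
  have hcsgn : Sgn D d Q p c φ₀ c φ₀ := ⟨hφ₀, fun _ => Commute.refl c,
    fun k => by rw [h0] at k; exact absurd k (by decide), fun _ => rfl,
    fun k => absurd (by funext i; exact (by decide : ∀ t : ZMod 3, t = -t → t = 0) _ (congrFun k i)) hφ₀.2.2.1,
    fun _ k => absurd rfl k⟩
  have reduce : ∀ {s y : G} {ws w w' : V (n + 1)}, s ∈ D → y ∈ D → W s ws → W y w → W (s * y * s) w' →
      (w' = w - B Q' ws w • ws ∨ w' = -(w - B Q' ws w • ws)) → F (s * y * s) = F s * F y * F s := by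
    intro s y ws w w' hs hy h1 h2 h3 e
    rw [Feq hs h1, Feq hy h2, Feq (conj'_mem S.cls hs hy) h3, R.conj _ _ (Wq _ _ h1) (Wq _ _ h2)]
    rcases e with rfl | rfl
    · rfl
    · exact R.neg _
  have heq : ∀ s ∈ S₀, ∀ y ∈ D, F (s * y * s) = F s * F y * F s := by
    rintro s hs y hy
    have hWs := hs
    rcases hs with rfl | rfl | hs
    · -- the member itself
      have hsW : W s δ := Or.inl ⟨rfl, rfl⟩
      obtain ⟨w, hw⟩ := Wtot y hy
      rcases hw with ⟨rfl, rfl⟩ | ⟨x, hx, rfl, rfl⟩ | ⟨ψ, hψ, rfl⟩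
      · refine reduce hd hd hsW hsW (w' := δ) (by rw [dsq S.cls.1 hd, one_mul]; exact hsW) (Or.inr ?_)
        rw [B_self, qδ, cons_move, cons_neg]
        show (Fin.cons 1 0 : V (n + 1)) = _
        simp; decide
      · refine reduce hd hy hsW (Or.inr (Or.inl ⟨x, hx, rfl, rfl⟩)) (w' := Fin.cons 0 x)
          (Or.inr (Or.inl ⟨x, hx, ?_, rfl⟩)) (Or.inl ?_)
        · rw [(C.mem x hx).2.2.eq, mul_assoc, dsq S.cls.1 hd, mul_one]
        · simp [δ, hB', B_zero_left, cons_move]
      · refine reduce hd hy hsW (Or.inr (Or.inr ⟨ψ, hψ, rfl⟩)) (w' := Fin.cons 1 (-ψ))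
          (Or.inr (Or.inr ⟨-ψ, sgn_conj_d g S hn hd C hlin hc hdc hφ₀ hψ, rfl⟩)) (Or.inr ?_)
        simp only [δ, hB', B_zero_left, cons_move, cons_neg, smul_zero, sub_zero]
        congr 1
    · -- the apart member
      have hsW : W s (Fin.cons 1 φ₀) := Or.inr (Or.inr ⟨φ₀, hcsgn, rfl⟩)
      have hcd : s * d * s = d * s * d := braid S.cls.1 hc hd fun k => hdc k.symm
      obtain ⟨w, hw⟩ := Wtot y hy
      rcases hw with ⟨rfl, rfl⟩ | ⟨x, hx, rfl, rfl⟩ | ⟨ψ, hψ, rfl⟩
      · refine reduce hc hy hsW (Or.inl ⟨rfl, rfl⟩) (w' := Fin.cons 1 (-φ₀))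
          (Or.inr (Or.inr ⟨-φ₀, hcd ▸ sgn_conj_d g S hn hd C hlin hc hdc hφ₀ hcsgn, rfl⟩)) (Or.inr ?_)
        simp only [δ, hB', B_zero_right, cons_move, cons_neg]
        congr 1
        · funext i
          simp only [Pi.neg_apply, Pi.sub_apply, Pi.smul_apply, Pi.zero_apply, smul_eq_mul]
          exact (by decide : ∀ t : ZMod 3, -t = -(0 - (2 * (1 * 1) + 0) * t)) _
      · rcases (by decide : ∀ t : ZMod 3, t = 0 ∨ t = 1 ∨ t = -1) (B Q φ₀ x) with r | r | r
        · refine reduce hc hy hsW (Or.inr (Or.inl ⟨x, hx, rfl, rfl⟩)) (w' := Fin.cons 0 x)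
            (Or.inr (Or.inl ⟨x, hx, ?_, rfl⟩)) (Or.inl ?_)
          · rw [((hφ₀.commute_iff C hx).mpr r).eq, mul_assoc, dsq S.cls.1 hc, mul_one]
          · simp [hB', r, cons_move]
        · obtain ⟨l1, l2, -⟩ := sgn_line g S hd C hc hdc hφ₀ hx r
          have bn : B Q φ₀ (φ₀ - x) = -1 := by rw [B_sub_right, h0, r, zero_sub]
          have hm := ne_of_pm g S hd C hc hdc hφ₀ (ψ := φ₀ - x) (by rw [bn]; decide)
          refine reduce hc hy hsW (Or.inr (Or.inl ⟨x, hx, rfl, rfl⟩)) (w' := Fin.cons 1 (φ₀ - x))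
            (Or.inr (Or.inr ⟨_, ⟨l1, fun k => absurd (bn.symm.trans k) (by decide), fun _ => l2,
              fun k => absurd k hm.1, fun k => absurd k hm.2, fun k => absurd (bn.symm.trans k) (by decide)⟩, rfl⟩))
            (Or.inr ?_)
          rw [hB', r]
          funext i
          induction i using Fin.cases <;> simp
        · obtain ⟨l1, l2, -⟩ := sgn_line g S hd C hc hdc hφ₀ (u := -x) (by rw [q_neg, hx])
            (by rw [B_neg_right, r]; decide)
          rw [C.neg x hx, sub_neg_eq_add] at l1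
          rw [C.neg x hx] at l2
          have bn : B Q φ₀ (φ₀ + x) = -1 := by rw [B_add_right, h0, r, zero_add]
          have hm := ne_of_pm g S hd C hc hdc hφ₀ (ψ := φ₀ + x) (by rw [bn]; decide)
          refine reduce hc hy hsW (Or.inr (Or.inl ⟨x, hx, rfl, rfl⟩)) (w' := Fin.cons 1 (φ₀ + x))
            (Or.inr (Or.inr ⟨_, ⟨l1, fun k => absurd (bn.symm.trans k) (by decide), fun _ => l2,
              fun k => absurd k hm.1, fun k => absurd k hm.2, fun k => absurd (bn.symm.trans k) (by decide)⟩, rfl⟩))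
            (Or.inl ?_)
          rw [hB', r]
          funext i
          induction i using Fin.cases <;> simp [add_comm]
      · rcases (by decide : ∀ t : ZMod 3, t = 0 ∨ t = 1 ∨ t = -1) (B Q φ₀ ψ) with r | r | r
        · by_cases e1 : ψ = φ₀
          · subst e1
            refine reduce hc hy hsW (Or.inr (Or.inr ⟨_, hψ, rfl⟩)) (w' := Fin.cons 1 ψ)
              (Or.inr (Or.inr ⟨ψ, ?_, rfl⟩)) (Or.inr ?_)
            · rw [hψ.2.2.2.1 rfl, dsq S.cls.1 hc, one_mul]; exact hcsgn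
            · simp only [hB', r, cons_move, cons_neg]
              congr 1
              funext i
              simp only [Pi.neg_apply, Pi.sub_apply, Pi.smul_apply, smul_eq_mul]
              exact (by decide : ∀ t : ZMod 3, t = -(t - (2 * (1 * 1) + 0) * t)) _
          by_cases e2 : ψ = -φ₀
          · subst e2
            refine reduce hc hy hsW (Or.inr (Or.inr ⟨_, hψ, rfl⟩)) (w' := δ) (Or.inl ⟨?_, rfl⟩) (Or.inr ?_)
            · rw [hψ.2.2.2.2.1 rfl, ← hcd, ← mul_assoc, ← mul_assoc, dsq S.cls.1 hc, one_mul, mul_assoc,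
                dsq S.cls.1 hc, mul_one]
            · simp only [δ, hB', r, cons_move, cons_neg]
              congr 1
              funext i
              simp only [Pi.neg_apply, Pi.sub_apply, Pi.smul_apply, Pi.zero_apply, smul_eq_mul]
              exact (by decide : ∀ t : ZMod 3, 0 = -(-t - (2 * (1 * 1) + 0) * t)) _
          have hz := hψ.2.2.2.2.2 r e1 e2
          have hne : ∀ χ : V n, χ = φ₀ ∨ χ = -φ₀ → χ ≠ -(φ₀ + ψ) := by
            rintro χ (rfl | rfl) k
            · exact e1 (by funext i; exact (by decide : ∀ a b : ZMod 3, a = -(a + b) → b = a) _ _ (congrFun k i))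
            · exact hψ.1.2.2.1 (by funext i; exact (by decide : ∀ a b : ZMod 3, -a = -(a + b) → b = 0) _ _ (congrFun k i))
          have hb0 : B Q φ₀ (-(φ₀ + ψ)) = 0 := by rw [B_neg_right, B_add_right, h0, r]; ring
          refine reduce hc hy hsW (Or.inr (Or.inr ⟨_, hψ, rfl⟩)) (w' := Fin.cons 1 (-(φ₀ + ψ)))
            (Or.inr (Or.inr ⟨_, ⟨hz.neg, fun k => absurd (hb0.symm.trans k) zero_ne_one,
              fun k => absurd (hb0.symm.trans k) (by decide), fun k => absurd k.symm (hne _ (Or.inl rfl)),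
              fun k => absurd k.symm (hne _ (Or.inr rfl)), fun _ _ _ => ?_⟩, rfl⟩)) (Or.inr ?_)
          · rw [← mul_assoc, ← mul_assoc, dsq S.cls.1 hc, one_mul, mul_assoc, dsq S.cls.1 hc, mul_one,
              show φ₀ + -(φ₀ + ψ) = -ψ from by abel]
            exact hψ.1.neg
          · simp only [hB', r, cons_move, cons_neg]
            congr 1
            funext i
            simp only [Pi.neg_apply, Pi.sub_apply, Pi.add_apply, Pi.smul_apply, smul_eq_mul]
            exact (by decide : ∀ a t : ZMod 3, -(a + t) = -(t - (2 * (1 * 1) + 0) * a)) _ _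
        · refine reduce hc hy hsW (Or.inr (Or.inr ⟨ψ, hψ, rfl⟩)) (w' := Fin.cons 1 ψ)
            (Or.inr (Or.inr ⟨ψ, ?_, rfl⟩)) (Or.inl ?_)
          · rwa [(hψ.2.1 r).eq, mul_assoc, dsq S.cls.1 hc, mul_one]
          · rw [hB', r, show (2 : ZMod 3) * (1 * 1) + 1 = 0 from by decide, zero_smul, sub_zero]
        · have hu : Q (φ₀ - ψ) = 1 := by rw [q_sub, hφ₀.2.2.2.1, hψ.1.2.2.2.1, r]; rfl
          have bu : B Q φ₀ (φ₀ - ψ) = 1 := by rw [B_sub_right, h0, r]; decide
          obtain ⟨l1, l2, -⟩ := sgn_line g S hd C hc hdc hφ₀ hu bu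
          rw [show φ₀ - (φ₀ - ψ) = ψ from by abel] at l1
          obtain ⟨m1, m2⟩ := ne_of_pm g S hd C hc hdc hφ₀ (ψ := ψ) (by rw [r]; decide)
          have hye : y = s * p (φ₀ - ψ) * s := sgn_unique g S hn hd C hlin hc hdc hφ₀ (ψ := ψ)
            ⟨l1, fun k => absurd (r.symm.trans k) (by decide), fun _ => l2, fun k => absurd k m1,
              fun k => absurd k m2, fun k => absurd (r.symm.trans k) (by decide)⟩ hψ
          refine reduce hc hy hsW (Or.inr (Or.inr ⟨ψ, hψ, rfl⟩)) (w' := Fin.cons 0 (φ₀ - ψ))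
            (Or.inr (Or.inl ⟨_, hu, ?_, rfl⟩)) (Or.inr ?_)
          · rw [hye, ← mul_assoc, ← mul_assoc, dsq S.cls.1 hc, one_mul, mul_assoc, dsq S.cls.1 hc, mul_one]
          · rw [hB', r, show (2 : ZMod 3) * (1 * 1) + -1 = 1 from by decide]
            funext i
            induction i using Fin.cases <;> simp
    · -- a point
      obtain ⟨v, hv, rfl⟩ := C.surj s hs
      have hsW : W (p v) (Fin.cons 0 v) := Or.inr (Or.inl ⟨v, hv, rfl, rfl⟩)
      have hBv : ∀ a x, B Q' (Fin.cons 0 v) (Fin.cons a x) = B Q v x := fun a x => by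
        rw [hB', zero_mul, mul_zero, zero_add]
      obtain ⟨w, hw⟩ := Wtot y hy
      rcases hw with ⟨rfl, rfl⟩ | ⟨x, hx, rfl, rfl⟩ | ⟨ψ, hψ, rfl⟩
      · refine reduce hs.1 hy hsW (Or.inl ⟨rfl, rfl⟩) (w' := δ) (Or.inl ⟨?_, rfl⟩) (Or.inl ?_)
        · rw [← (C.mem v hv).2.2.eq, mul_assoc, dsq S.cls.1 hs.1, mul_one]
        · simp only [δ, hBv, B_zero_right, zero_smul, sub_zero]
      · refine reduce hs.1 hy hsW (Or.inr (Or.inl ⟨x, hx, rfl, rfl⟩))
          (w' := Fin.cons 0 (x - B Q v x • v))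
          (Or.inr (Or.inl ⟨_, ?_, C.conj v x hv hx, rfl⟩)) (Or.inl ?_)
        · rw [sub_eq_add_neg, ← neg_smul, q_add_smul, hx, hv, B_comm Q x v]; ring
        · rw [hBv, cons_move, mul_zero, sub_zero]
      · refine reduce hs.1 hy hsW (Or.inr (Or.inr ⟨ψ, hψ, rfl⟩)) (w' := Fin.cons 1 (ψ - B Q v ψ • v))
          (Or.inr (Or.inr ⟨_, sgn_conj_point g S hn hd C hlin hc hdc hφ₀ hv hψ, rfl⟩)) (Or.inl ?_)
        rw [hBv, cons_move, mul_zero, sub_zero]
  obtain ⟨a, b, hne⟩ : ∃ a ∈ rset Q' 1, ∃ b ∈ rset Q' 1, a ≠ b := by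
    obtain ⟨x, hx, -⟩ := ReflThree.exists_norm_perp C.nd (c := 1) one_ne_zero (k := 0) (by omega)
      (fun i => i.elim0) (fun i => i.elim0) fun i => i.elim0
    refine ⟨pv δ, R.mem δ qδ, pv (Fin.cons 0 x), R.mem _ (by rw [hQ', hx]; ring), fun k => ?_⟩
    rcases R.inj δ _ qδ (by rw [hQ', hx]; ring) k with e | e
    · exact one_ne_zero (α := ZMod 3) (by simpa [δ] using congrFun e 0)
    · exact one_ne_zero (α := ZMod 3) (by simpa [δ] using congrFun e 0)
  obtain ⟨τ, hτ⟩ := iso_of_equivariant R.cls hcen ⟨a, b, hne⟩ g.hyp g.cen F hF hsurj hS₀ hgen heq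
  refine ⟨τ, Set.ext fun T => ⟨?_, fun hT => ?_⟩⟩
  · rintro ⟨y, hy, rfl⟩; rw [hτ y hy]; exact hF y hy
  · obtain ⟨y, hy, rfl⟩ := hsurj T hT
    exact ⟨y, hy, hτ y hy⟩

omit g S hn hd C hlin hc hdc hφ₀ in
/-- A projective reflection group as quotient gives the next one. -/
theorem refl_case (g : Good D) (S : Setting D) (hn : 5 ≤ n) {d : G} (hd : d ∈ D)
    {Q₀ : QuadraticForm (ZMod 3) (V n)} (hQ₀ : (QuadraticMap.polarBilin Q₀).Nondegenerate) {c₀ : ZMod 3}
    (hc₀ : c₀ ≠ 0) (τ : PerpQuot D d ≃* RGrp Q₀ c₀) (hτ : τ '' perpSet D d = rset Q₀ c₀) :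
    ∃ Q' : QuadraticForm (ZMod 3) (V (n + 1)), (QuadraticMap.polarBilin Q').Nondegenerate ∧
      ∃ e : G ≃* RGrp Q' 1, e '' D = rset Q' 1 := by
  obtain ⟨⟨pv, R⟩, -⟩ := rmodel_of_refl hn Q₀ hQ₀ hc₀
  have hch : ∀ a ∈ D, ∃ p, Chart D a (c₀ • Q₀) p := fun a ha => chart_of_model S hd R τ hτ ha
  obtain ⟨p, C⟩ := hch d hd
  have hlin : ∀ y ∈ D, ¬ Commute d y → ∃ ψ, Cls D d (c₀ • Q₀) p y ψ := fun y hy hdy => by
    obtain ⟨ψ, a1, a2, a3⟩ := linear S hd hy hdy hn g C hch
    exact ⟨ψ, hy, hdy, a1, a2, a3⟩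
  obtain ⟨c, hc, hdc⟩ := exists_not_commute S.cls (two_of_nc S.hyp) hd
  obtain ⟨φ₀, hφ₀⟩ := hlin c hc hdc
  exact refl_next g S hn hd C hlin hc hdc hφ₀

end Cfsg.Agent.Spor.FischerThm
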