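import Cfsg.Agent.Lib.Spor.FischerThm.SpModel
import Cfsg.Agent.Lib.Spor.FischerThm.Swaps
import Cfsg.Agent.Lib.Block.FischerTypes.Hexad
import Cfsg.Agent.Lib.Classical.BinaryHeart
import Cfsg.Agent.Lib.Classical.SympGen
import Cfsg.Agent.S1615

/-! The symmetric groups among the small models. -/

set_option autoImplicit false
set_option linter.style.haveILetI false
set_option linter.unusedSectionVars false

namespace Cfsg.Agent.Spor.FischerThm

open Cfsg Cfsg.Agent.Spor.ThreeTrans Cfsg.Agent.Block.FischerTypes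
open Cfsg.Agent.Classical

/-- Two classes with a common member coincide. -/
theorem class_eq {X : Type*} [Group X] {A B : Set X} (hA : IsThreeTranspositionClass A)
    (hB : IsThreeTranspositionClass B) {x : X} (ha : x ∈ A) (hb : x ∈ B) : A = B := by
  have key : ∀ {C : Set X}, IsThreeTranspositionClass C → x ∈ C → C = conjugatesOf x := by
    intro C hC hx
    ext y
    refine ⟨fun hy => ?_, fun hy => ?_⟩
    · obtain ⟨r, hr⟩ := transitive hC hx hy
      exact isConj_iff.mpr ⟨r, hr⟩
    · obtain ⟨r, rfl⟩ := isConj_iff.mp hy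
      exact conj_mem hC r hx
  rw [key hA ha, key hB hb]

theorem five_odd : ∀ σ : Equiv.Perm (Fin 5), σ * σ = 1 → Equiv.Perm.sign σ = -1 →
    ∃ x y, x ≠ y ∧ σ = Equiv.swap x y := by decide +kernel

/-- A 3-transposition class of the symmetric group of degree five is the class of transpositions. -/
theorem class_five {E : Set (Equiv.Perm (Fin 5))} (hE : IsThreeTranspositionClass E) :
    E = {σ | σ.IsSwap} := by
  have hne : ∃ σ ∈ E, Equiv.Perm.sign σ = -1 := by
    by_contra hno
    push Not at hno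
    have hle : Subgroup.closure E ≤ Equiv.Perm.sign.ker :=
      (Subgroup.closure_le _).mpr fun σ hσ => by
        rcases Int.units_eq_one_or (Equiv.Perm.sign σ) with k | k
        · exact k
        · exact absurd k (hno σ hσ)
    rw [hE.2.2, top_le_iff] at hle
    have : Equiv.swap (0 : Fin 5) 1 ∈ (Equiv.Perm.sign (α := Fin 5)).ker := hle ▸ Subgroup.mem_top _
    rw [MonoidHom.mem_ker, Equiv.Perm.sign_swap (by decide)] at this
    exact absurd this (by decide)
  obtain ⟨σ, hσ, hs⟩ := hne
  exact class_eq hE (Cfsg.Agent.S0439.result 5 (by norm_num)) hσ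
    (five_odd σ (ThreeTrans.mul_self hE.1 hσ) hs)

/-- The heart of a transposition is a transvection. -/
theorem heart_swap {i j : Fin (2 * (2 + 1))} (hij : i ≠ j) : Heart.hom 2 (Equiv.swap i j) ∈ tvSet 2 := by
  have key : ∀ x : Heart.Vs 2, (Heart.hom 2 (Equiv.swap i j) : Matrix (Fin 2 ⊕ Fin 2) (Fin 2 ⊕ Fin 2) (ZMod 2)).mulVec x =
      (SympTwo.tv (Heart.proj (Heart.pairV i j)) : Matrix (Fin 2 ⊕ Fin 2) (Fin 2 ⊕ Fin 2) (ZMod 2)).mulVec x := by
    intro x
    rw [Heart.hom_apply, SympTwo.tv_mulVec]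
    have e : Heart.permW (Equiv.swap i j) (Heart.lift x) =
        Heart.lift x + Heart.dot (Heart.lift x) (Heart.pairV i j) • Heart.pairV i j := by
      have two : ∀ a b : ZMod 2, a = b + (b + a) ∧ a = a + 0 := by decide
      have hd : Heart.dot (Heart.lift x) (Heart.pairV i j) = Heart.lift x i + Heart.lift x j := by
        simp [Heart.dot, Heart.pairV, Pi.single_apply, mul_add, Finset.sum_add_distrib]
      funext k
      rw [Heart.permW_apply, Equiv.symm_swap, Pi.add_apply, Pi.smul_apply, hd, smul_eq_mul]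
      by_cases ki : k = i
      · subst ki
        rw [Equiv.swap_apply_left]
        simp [Heart.pairV, hij, ← (two _ _).1]
      by_cases kj : k = j
      · subst kj
        rw [Equiv.swap_apply_right, add_comm (Heart.lift x i)]
        simp [Heart.pairV, Ne.symm hij, ← (two _ _).1]
      · rw [Equiv.swap_apply_of_ne_of_ne ki kj]
        simp [Heart.pairV, ki, kj]
    show Heart.proj (Heart.permW (Equiv.swap i j) (Heart.lift x)) = _
    rw [e, map_add, map_smul, Heart.proj_lift]
    congr 2
    obtain ⟨c, hc⟩ := Heart.lift_proj (Heart.pair_even i j)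
    rw [sympForm, Heart.J_form, hc, Heart.dot_comm _ (Heart.pairV i j + _), Heart.dot_add_left,
      Heart.dot_smul_left, Heart.lift_even, mul_zero, add_zero, Heart.dot_comm]
  refine ⟨_, fun h0 => ?_, Subtype.ext (Matrix.ext_iff_mulVec.mpr key)⟩
  obtain ⟨c, hc⟩ := Heart.const_of_proj (Heart.pair_even i j) h0
  obtain ⟨l, hli, hlj⟩ : ∃ l : Fin (2 * (2 + 1)), l ≠ i ∧ l ≠ j := exists_other (by norm_num) i j
  have h1 := congrFun hc i
  have h2 := congrFun hc l
  simp [Heart.pairV, Heart.onesV, hij, hli, hlj] at h1 h2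
  rw [← h2] at h1
  exact one_ne_zero h1

/-- The symplectic group of dimension four over two elements with its transvections is `S₆`. -/
theorem sp_four : ∃ e : Matrix.symplecticGroup (Fin 2) (ZMod 2) ≃* Equiv.Perm (Fin 6),
    e '' tvSet 2 = {σ | σ.IsSwap} := by
  haveI : Fact (Nat.Prime 2) := ⟨Nat.prime_two⟩
  have hinj := Heart.hom_injective (m := 2) le_rfl
  have hcard : Nat.card (Matrix.symplecticGroup (Fin 2) (ZMod 2)) =
      Nat.card (Equiv.Perm (Fin (2 * (2 + 1)))) := by
    rw [natCard_symplecticGroup, Nat.card_zmod,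
      Nat.card_eq_fintype_card (α := Equiv.Perm (Fin (2 * (2 + 1)))), Fintype.card_perm, Fintype.card_fin]
    decide
  let φ := MulEquiv.ofBijective _ (hinj.bijective_of_nat_card_le hcard.le)
  have hE : IsThreeTranspositionClass (tvSet 2) := by
    have := SympTwo.sympClass (m := 2) (by norm_num)
    rwa [show {g : Matrix.symplecticGroup (Fin 2) (ZMod 2) |
      ((g : Matrix (Fin 2 ⊕ Fin 2) (Fin 2 ⊕ Fin 2) (ZMod 2)) - 1).rank = 1} = tvSet 2 from
      Set.ext fun g => SympTwo.rank_one_iff g] at this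
  refine ⟨φ.symm, ?_⟩
  have h01 : (0 : Fin (2 * (2 + 1))) ≠ 1 := by decide
  refine class_eq (Block.FischerTypes.class_image φ.symm hE) (Cfsg.Agent.S0439.result 6 (by norm_num))
    ⟨_, heart_swap h01, ?_⟩ ⟨0, 1, h01, rfl⟩
  exact φ.symm_apply_apply _

end Cfsg.Agent.Spor.FischerThm
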