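import Cfsg.Agent.Lib.Spor.OrthClassTwo
import Cfsg.Agent.Lib.Spor.FischerThm.Ident

/-! The orthogonal transvection classes over the field of two elements as targets. -/

set_option autoImplicit false
set_option linter.style.haveILetI false
set_option linter.unusedSectionVars false

namespace Cfsg.Agent.Spor.FischerThm.OTwo

theorem two2 : (2 : ZMod 2) = 0 := rfl

open Matrix Cfsg Cfsg.Agent.Spor.ThreeTrans Cfsg.Agent.Block.FischerTypes
open Cfsg.Agent.Spor.FischerThm

variable {ι : Type} [Fintype ι] [DecidableEq ι] (Q : QuadraticForm (ZMod 2) (ι → ZMod 2))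

/-- The transvections. -/
def tset : Set ↥(isometryGroup (ZMod 2) ⇑Q) :=
  {g | (((g : GL ι (ZMod 2)) : Matrix ι ι (ZMod 2)) - 1).rank = 1}

/-- The transvection of a nonsingular vector. -/
noncomputable def pt (v : ι → ZMod 2) : ↥(isometryGroup (ZMod 2) ⇑Q) := by
  classical exact if h : Q v ≠ 0 then Classical.OrthAut.refl h else 1

theorem pt_val {v : ι → ZMod 2} (hv : Q v = 1) :
    (((pt Q v : ↥(isometryGroup (ZMod 2) ⇑Q)) : GL ι (ZMod 2)) : Matrix ι ι (ZMod 2)) =
      reflectionMatrix ⇑Q v := by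
  have h : Q v ≠ 0 := by rw [hv]; exact one_ne_zero
  simp only [pt, dif_pos h]
  rfl

variable (hQ : (QuadraticMap.polarBilin Q).Nondegenerate)
include hQ

theorem pt_mem {v : ι → ZMod 2} (hv : Q v = 1) : pt Q v ∈ tset Q :=
  (OrthTwo.rank_one_iff Q hQ _).mpr ⟨v, hv, pt_val Q hv⟩

theorem exists_pt {g : ↥(isometryGroup (ZMod 2) ⇑Q)} (hg : g ∈ tset Q) :
    ∃ v, Q v = 1 ∧ g = pt Q v := by
  obtain ⟨v, hv, e⟩ := (OrthTwo.rank_one_iff Q hQ g).mp hg
  exact ⟨v, hv, Subtype.ext (Units.ext (e.trans (pt_val Q hv).symm))⟩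

theorem pt_inj {u v : ι → ZMod 2} (hu : Q u = 1) (hv : Q v = 1) (e : pt Q u = pt Q v) : u = v :=
  OrthTwo.eq_of_refl_eq Q hQ hu hv (by rw [← pt_val Q hu, e, pt_val Q hv])

theorem pt_sq {u : ι → ZMod 2} (hu : Q u = 1) : pt Q u * pt Q u = 1 :=
  Subtype.ext (Units.ext (by
    simp only [Subgroup.coe_mul, Units.val_mul, OneMemClass.coe_one, Units.val_one, pt_val Q hu]
    exact ReflThree.reflection_sq (by rw [hu]; exact one_ne_zero)))

theorem q_move {u v : ι → ZMod 2} (hu : Q u = 1) (hv : Q v = 1) :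
    Q (v + QuadraticMap.polar ⇑Q u v • u) = 1 := by
  by_cases h : QuadraticMap.polar ⇑Q u v = 0
  · rw [h, zero_smul, add_zero, hv]
  · rw [OrthTwo.eq_one_two _ h, one_smul, QuadraticMap.map_add ⇑Q, hu, hv, QuadraticMap.polar_comm,
      OrthTwo.eq_one_two _ h]
    rfl

theorem pt_conj {u v : ι → ZMod 2} (hu : Q u = 1) (hv : Q v = 1) :
    pt Q u * pt Q v * pt Q u = pt Q (v + QuadraticMap.polar ⇑Q u v • u) := by
  have hi : (pt Q u)⁻¹ = pt Q u := inv_eq_of_mul_eq_one_right (pt_sq Q hQ hu)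
  refine Subtype.ext (Units.ext ?_)
  rw [pt_val Q (q_move Q hQ hu hv)]
  conv_lhs => enter [1, 1, 2]; rw [← hi]
  rw [ReflThree.coe_conj (pt_val Q hv), pt_val Q hu, OrthTwo.refl_two Q hu]

theorem pt_commute {u v : ι → ZMod 2} (hu : Q u = 1) (hv : Q v = 1) :
    Commute (pt Q u) (pt Q v) ↔ QuadraticMap.polar ⇑Q u v = 0 := by
  have e := pt_conj Q hQ hu hv
  constructor
  · intro h
    rw [h.eq, mul_assoc, pt_sq Q hQ hu, mul_one] at e
    have := pt_inj Q hQ hv (q_move Q hQ hu hv) e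
    rw [left_eq_add, smul_eq_zero] at this
    refine this.resolve_right fun h0 => ?_
    rw [h0, QuadraticMap.map_zero] at hu
    exact zero_ne_one hu
  · intro h
    rw [h, zero_smul, add_zero] at e
    calc pt Q u * pt Q v = pt Q u * (pt Q u * pt Q v * pt Q u) := by rw [e]
      _ = _ := by rw [← mul_assoc, ← mul_assoc, pt_sq Q hQ hu, one_mul]

theorem rowAdd : RowAdd (tset Q) := by
  intro a ha b hb hab f hf h1 h2
  obtain ⟨u, hu, rfl⟩ := exists_pt Q hQ ha
  obtain ⟨v, hv, rfl⟩ := exists_pt Q hQ hb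
  obtain ⟨w, hw, rfl⟩ := exists_pt Q hQ hf
  rw [pt_commute Q hQ hu hv] at hab
  rw [pt_commute Q hQ hw hu] at h1
  rw [pt_commute Q hQ hw hv] at h2
  rw [pt_conj Q hQ hu hv, pt_commute Q hQ hw (q_move Q hQ hu hv), OrthTwo.eq_one_two _ hab, one_smul,
    QuadraticMap.polar_add_right, OrthTwo.eq_one_two _ h1, OrthTwo.eq_one_two _ h2]
  rfl

variable (hn : 5 ≤ Fintype.card ι)
include hn

theorem cls : IsThreeTranspositionClass (tset Q) := OrthTwo.orthClass Q hQ hn rfl

theorem exists_ns_perp {x : ι → ZMod 2} (hx : x ≠ 0) :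
    ∃ y, Q y = 1 ∧ QuadraticMap.polar ⇑Q x y = 0 := by
  classical
  by_contra hno
  push Not at hno
  obtain ⟨z, hz⟩ := OrthTwo.exists_polar_one Q hQ hx
  set B := fun a b => QuadraticMap.polar ⇑Q a b
  have iso : ∀ u w, B x u = 0 → B x w = 0 → B u w = 0 := by
    intro u w hu hw
    have q : ∀ s, B x s = 0 → Q s = 0 := fun s hs => by
      by_contra h
      exact hno s (OrthTwo.eq_one_two _ h) hs
    show Q (u + w) - Q u - Q w = 0
    rw [q u hu, q w hw, q (u + w) (by simp [B, QuadraticMap.polar_add_right] at hu hw ⊢; simp [hu, hw])]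
    simp
  have hperp : ∀ u, B x u = 0 → u = B u z • x := by
    intro u hu
    have h0 : u + B u z • x = 0 := hQ.1 _ fun w => by
      show QuadraticMap.polar ⇑Q (u + B u z • x) w = 0
      have h1 : B x (w + B x w • z) = 0 := by
        simp only [B, QuadraticMap.polar_add_right, QuadraticMap.polar_smul_right, smul_eq_mul] at hz ⊢
        rw [hz, mul_one]; exact CharTwo.add_self_eq_zero _
      have h2 := iso u _ hu h1
      simp only [B, QuadraticMap.polar_add_right, QuadraticMap.polar_smul_right, smul_eq_mul] at h2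
      rw [QuadraticMap.polar_add_left, QuadraticMap.polar_smul_left, smul_eq_mul, mul_comm]
      exact h2
    funext i
    have h0' := congrFun h0 i
    simp only [Pi.add_apply, Pi.zero_apply] at h0'
    linear_combination h0' - (B u z • x) i * two2
  have hsub : (Finset.univ : Finset (ι → ZMod 2)) ⊆ {0, x, z, z + x} := by
    intro w _
    have h1 : B x (w + B x w • z) = 0 := by
      simp only [B, QuadraticMap.polar_add_right, QuadraticMap.polar_smul_right, smul_eq_mul] at hz ⊢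
      rw [hz, mul_one]; exact CharTwo.add_self_eq_zero _
    have h2 := hperp _ h1
    have cz : ∀ t : ZMod 2, t = 0 ∨ t = 1 := by decide
    have hw : w = B x w • z + B (w + B x w • z) z • x := by
      rw [← h2]
      funext i
      simp only [Pi.add_apply, Pi.smul_apply, smul_eq_mul]
      linear_combination (-(B x w * z i)) * two2
    rcases cz (B x w) with e | e <;> rcases cz (B (w + B x w • z) z) with e' | e' <;>
      rw [hw, e'] <;> rw [e] <;> simp
  have := (Finset.card_le_card hsub).trans Finset.card_le_four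
  rw [Finset.card_univ, Fintype.card_fun, ZMod.card] at this
  have : 2 ^ 5 ≤ 2 ^ Fintype.card ι := Nat.pow_le_pow_right (by norm_num) hn
  omega

theorem span_ns (x : ι → ZMod 2) :
    ∃ a b, (a = 0 ∨ Q a = 1) ∧ (b = 0 ∨ Q b = 1) ∧ x = a + b := by
  by_cases hx : x = 0
  · exact ⟨0, 0, Or.inl rfl, Or.inl rfl, by simp [hx]⟩
  by_cases hq : Q x = 0
  · obtain ⟨y, hy, hxy⟩ := exists_ns_perp Q hQ hn hx
    refine ⟨x + y, y, Or.inr ?_, Or.inr hy, ?_⟩
    · rw [QuadraticMap.map_add ⇑Q, hq, hy, hxy, zero_add, add_zero]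
    · funext i
      simp only [Pi.add_apply]
      linear_combination (-(y i)) * two2
  · exact ⟨x, 0, Or.inr (OrthTwo.eq_one_two _ hq), Or.inl rfl, by simp⟩

theorem twinFree : TwinFree (tset Q) := by
  rintro a b ⟨ha, hb, hall⟩
  obtain ⟨u, hu, rfl⟩ := exists_pt Q hQ ha
  obtain ⟨v, hv, rfl⟩ := exists_pt Q hQ hb
  have h1 : ∀ w, Q w = 1 → QuadraticMap.polar ⇑Q u w = QuadraticMap.polar ⇑Q v w := by
    intro w hw
    have := hall _ (pt_mem Q hQ hw)
    rw [pt_commute Q hQ hu hw, pt_commute Q hQ hv hw] at this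
    have dec : ∀ s t : ZMod 2, (s = 0 ↔ t = 0) → s = t := by decide
    exact dec _ _ this
  have h2 : u + v = 0 := hQ.1 _ fun x => by
    show QuadraticMap.polar ⇑Q (u + v) x = 0
    obtain ⟨p, q, hp, hq, rfl⟩ := span_ns Q hQ hn x
    have e : ∀ p, p = 0 ∨ Q p = 1 → QuadraticMap.polar ⇑Q u p = QuadraticMap.polar ⇑Q v p := by
      rintro p (rfl | h)
      · simp
      · exact h1 p h
    rw [QuadraticMap.polar_add_left, QuadraticMap.polar_add_right, QuadraticMap.polar_add_right, e p hp,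
      e q hq]
    exact CharTwo.add_self_eq_zero _
  rw [eq_neg_of_add_eq_zero_left h2]
  congr 1
  funext i
  simp [OrthTwo.neg_two]

theorem center_bot : Subgroup.center ↥(isometryGroup (ZMod 2) ⇑Q) = ⊥ := by
  refine eq_bot_iff.mpr fun g hg => Subgroup.mem_bot.mpr ?_
  set M : Matrix ι ι (ZMod 2) := ((g : GL ι (ZMod 2)) : Matrix ι ι (ZMod 2)) with hM
  have hfix : ∀ p, p = 0 ∨ Q p = 1 → M *ᵥ p = p := by
    rintro p (rfl | hp)
    · simp
    · have hgp : Q (M *ᵥ p) = 1 := by rw [hM, Classical.mem_isometryGroup.1 g.2, hp]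
      refine pt_inj Q hQ hgp hp ?_
      have k := Subgroup.mem_center_iff.mp hg (pt Q p)
      have e : g * pt Q p * g⁻¹ = pt Q p := by rw [← k, mul_inv_cancel_right]
      conv_rhs => rw [← e]
      refine Subtype.ext (Units.ext ?_)
      rw [ReflThree.coe_conj (pt_val Q hp), pt_val Q hgp]
  refine Subtype.ext (Units.ext (Matrix.ext_of_mulVec_single fun i => ?_))
  rw [← hM, OneMemClass.coe_one, Units.val_one, Matrix.one_mulVec]
  obtain ⟨a, b, ha, hb, e⟩ := span_ns Q hQ hn (Pi.single i 1)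
  rw [e, Matrix.mulVec_add, hfix a ha, hfix b hb]

end Cfsg.Agent.Spor.FischerThm.OTwo
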