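import Cfsg.Agent.Lib.Spor.FischerThm.Basic

/-! Reading the perpendicular of a member in a model of its quotient, and the sizes that follow. -/

set_option autoImplicit false
set_option linter.style.haveILetI false
set_option linter.unusedSectionVars false

namespace Cfsg.Agent.Spor.FischerThm

open Cfsg Cfsg.Agent.Spor.ThreeTrans Cfsg.Agent.Block.FischerTypes

variable {G : Type*} [Group G] [Finite G] {D : Set G}

/-- In a good class all apart pairs are conjugate. -/
theorem Good.apart_conj (g : Good D) {d c b b' : G} (hd : d ∈ D) (hc : c ∈ D) (hdc : ¬ Commute d c)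
    (hb : b ∈ D) (hb' : b' ∈ D) (hbb : ¬ Commute b b') :
    ∃ k : G, k * d * k⁻¹ = b ∧ k * c * k⁻¹ = b' := by
  obtain ⟨k, rfl⟩ := transitive g.cls hd hb
  obtain ⟨l, hl, e⟩ := transitive_apart g.hyp (x := k * d * k⁻¹) hb
    (a₀ := k * c * k⁻¹) ⟨conj_mem g.cls k hc, fun e => hdc ((commute_conj_iff k c d).mp e).symm⟩
    (b₀ := b') ⟨hb', fun e => hbb e.symm⟩
  refine ⟨l * k, ?_, ?_⟩
  · rw [show l * k * d * (l * k)⁻¹ = l * (k * d * k⁻¹) * l⁻¹ by simp [mul_assoc],
      conj_self_eq (localGroup_commute hl)]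
  · rw [show l * k * c * (l * k)⁻¹ = l * (k * c * k⁻¹) * l⁻¹ by simp [mul_assoc], e]

theorem Good.common_eq (g : Good D) {d c b b' : G} (hd : d ∈ D) (hc : c ∈ D) (hdc : ¬ Commute d c)
    (hb : b ∈ D) (hb' : b' ∈ D) (hbb : ¬ Commute b b') :
    (common D b b').ncard = (common D d c).ncard := by
  obtain ⟨k, rfl, rfl⟩ := g.apart_conj hd hc hdc hb hb' hbb
  show (perp D _ ∩ perp D _).ncard = _
  rw [perp_conj g.cls, perp_conj g.cls, ← Set.image_inter (fun u v e => by simpa using e),
    Set.ncard_image_of_injective _ fun u v e => by simpa using e]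

/-- A reading of the perpendicular in a model. -/
structure Read (D : Set G) {X : Type*} [Group X] (E : Set X) (d : G) (ψ : G → X) : Prop where
  mem : ∀ u ∈ perp D d, ψ u ∈ E
  surj : ∀ y ∈ E, ∃ u ∈ perp D d, ψ u = y
  inj : ∀ u ∈ perp D d, ∀ v ∈ perp D d, ψ u = ψ v → u = v
  comm : ∀ u ∈ perp D d, ∀ v ∈ perp D d, Commute (ψ u) (ψ v) ↔ Commute u v
  conj : ∀ u ∈ perp D d, ∀ v ∈ perp D d, u * v * u ∈ perp D d ∧ ψ (u * v * u) = ψ u * ψ v * ψ u

variable {X : Type*} [Group X] {E : Set X}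

theorem exists_read (S : Setting D) {d : G} (hd : d ∈ D) (τ : PerpQuot D d ≃* X)
    (hτ : τ '' perpSet D d = E) : ∃ ψ : G → X, Read D E d ψ := by
  classical
  let ψ : G → X := fun u => if hu : u ∈ perp D d then τ (pr D d u hu) else 1
  have hψ : ∀ u (hu : u ∈ perp D d), ψ u = τ (pr D d u hu) := fun u hu => dif_pos hu
  refine ⟨ψ, fun u hu => ?_, fun y hy => ?_, fun u hu v hv k => ?_, fun u hu v hv => ?_,
    fun u hu v hv => ?_⟩
  · rw [hψ u hu, ← hτ]; exact ⟨_, pr_mem hu, rfl⟩
  · rw [← hτ] at hy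
    obtain ⟨q, hq, rfl⟩ := hy
    obtain ⟨u, hu, rfl⟩ := exists_of_mem hq
    exact ⟨u, hu, hψ u hu⟩
  · rw [hψ u hu, hψ v hv] at k
    exact pr_injective S.cls S.tf hd hu hv (τ.injective k)
  · rw [hψ u hu, hψ v hv]
    exact ⟨fun k => commute_of_pr S.cls S.tf hd hu hv (by simpa using k.map τ.symm),
      fun k => (commute_pr hu hv k).map τ⟩
  · have hw : u * v * u ∈ perp D d := by
      have := perp_conj' S.cls hu.2.2.symm hv
      rwa [inv_eq S.cls.1 hu.1] at this
    refine ⟨hw, ?_⟩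
    rw [hψ _ hw, hψ u hu, hψ v hv, ← map_mul, ← map_mul]
    rfl

/-- An isomorphism carries common perpendiculars. -/
theorem common_image {Y : Type*} [Group Y] (τ : X ≃* Y) (E : Set X) (a b : X) :
    (common (τ '' E) (τ a) (τ b)).ncard = (common E a b).ncard := by
  show (perp _ _ ∩ perp _ _).ncard = _
  rw [← image_common, Set.ncard_image_of_injective _ τ.injective]

variable (S : Setting D) {d : G} (hd : d ∈ D) (τ : PerpQuot D d ≃* X) (hτ : τ '' perpSet D d = E)
include S hd hτ

theorem read_perp_card : (perp D d).ncard = E.ncard := by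
  rw [perp_card S hd, ← hτ, Set.ncard_image_of_injective _ τ.injective]

theorem read_lam {e : G} (he : e ∈ perp D d) :
    (common D d e).ncard = (perp E (τ (pr D d e he))).ncard := by
  rw [← hτ, perp_image, Set.ncard_image_of_injective _ τ.injective]
  exact pr_card S hd Set.inter_subset_left (fun q hq => hq.1) fun u hu =>
    (pr_perp_iff S hd he hu).trans ⟨fun k => ⟨hu, k⟩, fun k => k.2⟩

/-- Below a common neighbour the apart pair sees the common perpendicular of a pair of the model. -/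
theorem read_below {c x : G} (hc : c ∈ D) (hdc : ¬ Commute d c) (hx : x ∈ common D d c) {a b : X}
    (ha : a ∈ E) (hb : b ∈ E) (hab : ¬ Commute a b) :
    (common D d c ∩ perp D x).ncard = (common E a b).ncard := by
  obtain ⟨σ, hσ⟩ := quot_iso S hx.1.1 hd
  rw [common_below S hd hc hx, ← common_image σ, hσ]
  set p := σ (pr D x d (perp_symm' S hd hx.1))
  set q := σ (pr D x c (perp_symm' S hc hx.2))
  have hp : p ∈ perpSet D d := hσ ▸ ⟨_, pr_mem _, rfl⟩
  have hq : q ∈ perpSet D d := hσ ▸ ⟨_, pr_mem _, rfl⟩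
  have hpq : ¬ Commute p q := fun k => hdc
    (commute_of_pr S.cls S.tf hx.1.1 (perp_symm' S hd hx.1) (perp_symm' S hc hx.2)
      (by simpa [p, q] using k.map σ.symm))
  rw [← hτ] at ha hb
  obtain ⟨a', ha', rfl⟩ := ha
  obtain ⟨b', hb', rfl⟩ := hb
  rw [← hτ, common_image τ, (good_quot S hd).common_eq hp hq hpq ha' hb'
    fun k => hab (k.map τ)]

end Cfsg.Agent.Spor.FischerThm
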