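import Cfsg.Agent.Lib.Spor.FischerThm.Ident
import Cfsg.Agent.Lib.Spor.FischerThm.Model

/-! A missed line spreads to everything when two lines through a point have a common perpendicular line. -/

set_option autoImplicit false
set_option linter.style.haveILetI false
set_option linter.unusedSectionVars false

namespace Cfsg.Agent.Spor.FischerThm

open Cfsg Cfsg.Agent.Spor.ThreeTrans Cfsg.Agent.Block.FischerTypes

variable {G : Type*} [Group G] [Finite G] {D : Set G}

/-- Two lines through a point have a common perpendicular line. -/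
def Linked (E : Set G) : Prop :=
  ∀ a ∈ E, ∀ b ∈ E, ∀ b' ∈ E, ¬ Commute a b → ¬ Commute a b' → ∃ p ∈ E, ∃ q ∈ E, ¬ Commute p q ∧
    Commute p a ∧ Commute p b ∧ Commute p b' ∧ Commute q a ∧ Commute q b ∧ Commute q b'

/-- One standard pair suffices. -/
theorem linked_of_std (g : Good D) {a b : G} (ha : a ∈ D) (hb : b ∈ D) (hab : ¬ Commute a b)
    (h : ∀ b' ∈ D, ¬ Commute a b' → ∃ p ∈ D, ∃ q ∈ D, ¬ Commute p q ∧
      Commute p a ∧ Commute p b ∧ Commute p b' ∧ Commute q a ∧ Commute q b ∧ Commute q b') :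
    Linked D := by
  intro x hx y hy y' hy' hxy hxy'
  obtain ⟨k, rfl, rfl⟩ := g.apart_conj ha hb hab hx hy hxy
  have e : k * (k⁻¹ * y' * k) * k⁻¹ = y' := by group
  obtain ⟨p, hp, q, hq, hpq, h1, h2, h3, h4, h5, h6⟩ := h (k⁻¹ * y' * k)
    (by simpa using conj_mem g.cls k⁻¹ hy') (fun c => hxy' (e ▸ (commute_conj_iff k _ _).mpr c))
  refine ⟨k * p * k⁻¹, conj_mem g.cls k hp, k * q * k⁻¹, conj_mem g.cls k hq,
    fun c => hpq ((commute_conj_iff k p q).mp c), ?_, ?_, ?_, ?_, ?_, ?_⟩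
  all_goals first
    | exact (commute_conj_iff k _ _).mpr h1
    | exact (commute_conj_iff k _ _).mpr h2
    | exact e ▸ (commute_conj_iff k _ _).mpr h3
    | exact (commute_conj_iff k _ _).mpr h4
    | exact (commute_conj_iff k _ _).mpr h5
    | exact e ▸ (commute_conj_iff k _ _).mpr h6

theorem rowAdd_image {Y : Type*} [Group Y] (τ : G ≃* Y) (h : RowAdd D) : RowAdd (τ '' D) := by
  rintro _ ⟨a, ha, rfl⟩ _ ⟨b, hb, rfl⟩ hab _ ⟨f, hf, rfl⟩ h1 h2
  have := h a ha b hb (fun k => hab (k.map τ)) f hf (fun k => h1 (k.map τ)) (fun k => h2 (k.map τ))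
  rw [← map_mul, ← map_mul]
  exact this.map τ

/-- Linked lines give additive rows. -/
theorem rowAdd_of_linked (S : Setting D) {d : G} (hd : d ∈ D) (hE : RowAdd (perpSet D d))
    (hL : Linked (perpSet D d)) : RowAdd D := by
  have h := S.cls
  refine rowAdd_of_meets S hd hE fun c hc hdc a ha b hb hab => ?_
  -- a missed line
  let Miss : G → G → Prop := fun a b => a ∈ perp D d ∧ b ∈ perp D d ∧ ¬ Commute a b ∧
    ¬ Commute c a ∧ ¬ Commute c b ∧ ¬ Commute c (a * b * a)
  have hw : ∀ {u v}, u ∈ perp D d → v ∈ perp D d → u * v * u ∈ perp D d := fun {u v} hu hv => by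
    have := perp_conj' h hu.2.2.symm hv
    rwa [inv_eq h.1 hu.1] at this
  have spread : ∀ {u v x}, Miss u v → x ∈ perp D d → Commute x u → Commute x v →
      ¬ Commute c x := by
    intro u v x ⟨hu, hv, huv, hcu, hcv, hcw⟩ hx hxu hxv hcx
    have hxw : Commute x (u * v * u) := (hxu.mul_right hxv).mul_right hxu
    have hu' : u ∈ perp D x := ⟨hu.1, fun e => huv (e ▸ hxv), hxu⟩
    have hv' : v ∈ perp D x := ⟨hv.1, fun e => huv (e ▸ hxu).symm, hxv⟩
    have hc' : c ∈ perp D x := ⟨hc, fun e => hdc (e ▸ hx.2.2), hcx.symm⟩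
    have hw' : u * v * u ∈ perp D x := by
      have := perp_conj' h hu'.2.2.symm hv'
      rwa [inv_eq h.1 hu.1] at this
    obtain ⟨σ, hσ⟩ := quot_iso S hd hx.1
    have hEx : RowAdd (perpSet D x) := hσ ▸ rowAdd_image σ hE
    have k := hEx _ (pr_mem hu') _ (pr_mem hv')
      (fun e => huv (commute_of_pr h S.tf hx.1 hu' hv' e)) _ (pr_mem hc')
      (fun e => hcu (commute_of_pr h S.tf hx.1 hc' hu' e))
      (fun e => hcv (commute_of_pr h S.tf hx.1 hc' hv' e))
    exact hcw (commute_of_pr h S.tf hx.1 hc' hw' k)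
  by_contra hno
  push Not at hno
  let M : Set (PerpQuot D d) := {q | ∃ (u : G) (hu : u ∈ perp D d), q = pr D d u hu ∧ ∃ v, Miss u v}
  have grow : ∀ {u v y}, Miss u v → y ∈ perp D d → ¬ Commute u y → Miss u y := by
    intro u v y hm hy huy
    obtain ⟨hu, hv, huv, -, -, -⟩ := id hm
    have cp : ∀ {s t} (hs : s ∈ perp D d) (ht : t ∈ perp D d),
        Commute (pr D d s hs) (pr D d t ht) → Commute s t := fun hs ht k =>
      commute_of_pr h S.tf hd hs ht k
    obtain ⟨P, hP, Q, hQ, hPQ, p1, p2, p3, q1, q2, q3⟩ := hL _ (pr_mem hu) _ (pr_mem hv) _ (pr_mem hy)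
      (fun k => huv (cp hu hv k)) (fun k => huy (cp hu hy k))
    obtain ⟨p, hp, rfl⟩ := exists_of_mem hP
    obtain ⟨q, hq, rfl⟩ := exists_of_mem hQ
    have hnc : ¬ Commute p q := fun k => hPQ (commute_pr hp hq k)
    have mp := spread hm hp (cp hp hu p1) (cp hp hv p2)
    have mq := spread hm hq (cp hq hu q1) (cp hq hv q2)
    have mw := spread hm (hw hp hq) (((cp hp hu p1).mul_left (cp hq hu q1)).mul_left (cp hp hu p1))
      (((cp hp hv p2).mul_left (cp hq hv q2)).mul_left (cp hp hv p2))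
    have m2 : Miss p q := ⟨hp, hq, hnc, mp, mq, mw⟩
    exact ⟨hu, hy, huy, spread m2 hu (cp hp hu p1).symm (cp hq hu q1).symm,
      spread m2 hy (cp hp hy p3).symm (cp hq hy q3).symm,
      spread m2 (hw hu hy)
        (((cp hp hu p1).symm.mul_left (cp hp hy p3).symm).mul_left (cp hp hu p1).symm)
        (((cp hq hu q1).symm.mul_left (cp hq hy q3).symm).mul_left (cp hq hu q1).symm)⟩
  have mswap : ∀ {u v}, Miss u v → Miss v u := fun {u v} ⟨hu, hv, huv, a1, a2, a3⟩ =>
    ⟨hv, hu, fun k => huv k.symm, a2, a1, by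
      rwa [braid h.1 hv.1 hu.1 fun k => huv k.symm]⟩
  have hall := noncomm_closed_eq (S.qcls hd) (M := M) (fun q ⟨u, hu, e, _⟩ => e ▸ pr_mem hu)
    ⟨_, a, ha, rfl, b, ha, hb, hab, hno.1, hno.2.1, hno.2.2⟩
    (fun q ⟨u, hu, e, v, hm⟩ r hr hqr => by
      obtain ⟨y, hy, rfl⟩ := exists_of_mem hr
      exact ⟨y, hy, rfl, u, mswap (grow hm hy fun k => hqr (e ▸ commute_pr hu hy k))⟩)
  obtain ⟨x, hxd, hxc⟩ := (meets_linked S hd hc hdc).1
  obtain ⟨u, hu, e, v, hm⟩ := hall _ (pr_mem hxd)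
  obtain rfl := pr_injective h S.tf hd hxd hu e
  exact hm.2.2.2.1 hxc.2.2

end Cfsg.Agent.Spor.FischerThm
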