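import Cfsg.Agent.Lib.Spor.FischerThm.SpModel
import Cfsg.Agent.Lib.Spor.FischerThm.Plane
import Cfsg.Agent.Lib.Spor.FischerThm.OrthTarget

/-! A symplectic perpendicular quotient gives an orthogonal group. -/

set_option autoImplicit false
set_option linter.style.haveILetI false
set_option linter.unusedSectionVars false

namespace Cfsg.Agent.Spor.FischerThm

open Cfsg Cfsg.Agent.Spor.ThreeTrans Cfsg.Agent.Block.FischerTypes

variable {m : ℕ}

theorem two_blocks : ∀ p q : F22, ∃ s t u v : F22,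
    bb p s + bb q t = 0 ∧ bb p u + bb q v = 0 ∧ bb s u + bb t v = 1 := by decide +kernel

theorem char2B (x : Blk m) : x + x = 0 := funext fun _ => Prod.ext (CharTwo.add_self_eq_zero _)
  (CharTwo.add_self_eq_zero _)

theorem add_ne_zero_of_ne {x y : Blk m} (h : x ≠ y) : x + y ≠ 0 := fun e => h (by
  have := congrArg (· + y) e
  simpa [add_assoc, char2B] using this)

variable {G : Type*} [Group G] [Finite G] {D : Set G} {d : G}

theorem sp_case (g : Good D) (S : Setting D) (hd : d ∈ D) (hm : 3 ≤ m)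
    (τ : PerpQuot D d ≃* Matrix.symplecticGroup (Fin m) (ZMod 2))
    (hτ : τ '' perpSet D d = tvSet m) :
    (∃ e : G ≃* ↥(isometryGroup (ZMod 2) ⇑(Classical.qfPlus (m + 1) (ZMod 2))),
        e '' D = OTwo.tset (Classical.qfPlus (m + 1) (ZMod 2))) ∨
      ∃ e : G ≃* ↥(isometryGroup (ZMod 2) ⇑(Classical.qfMinus m (ZMod 2) 1 1)),
        e '' D = OTwo.tset (Classical.qfMinus m (ZMod 2) 1 1) := by
  classical
  have h := S.cls
  obtain ⟨ψ, R⟩ := exists_read S hd τ hτ
  let i0 : Fin m := ⟨0, by omega⟩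
  let i1 : Fin m := ⟨1, by omega⟩
  let i2 : Fin m := ⟨2, by omega⟩
  have h01 : i1 ≠ i0 := by simp [i0, i1]
  have h02 : i2 ≠ i0 := by simp [i0, i2]
  have h12 : i2 ≠ i1 := by simp [i1, i2]
  let a₀ : Blk m := Pi.single i0 (1, 0)
  let b₀ : Blk m := Pi.single i0 (0, 1)
  have ha₀ : a₀ ≠ 0 := fun e => by simpa [a₀] using congrFun e i0
  have hb₀ : b₀ ≠ 0 := fun e => by simpa [b₀] using congrFun e i0
  have hab₀ : bF a₀ b₀ = 1 := by simp only [b₀]; rw [bF_single]; simp [a₀, bb]
  have hnc₀ : ¬ Commute (tb a₀) (tb b₀) := by rw [tb_commute ha₀ hb₀, hab₀]; exact one_ne_zero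
  -- additive rows
  have hE : RowAdd (perpSet D d) := by
    have := rowAdd_image τ.symm (rowAdd_tvSet (m := m))
    rwa [← hτ, Set.image_image, show (fun x => τ.symm (τ x)) = id from funext fun x => τ.symm_apply_apply x,
      Set.image_id] at this
  have hE' : tvSet m = τ '' perpSet D d := hτ.symm
  have hR : RowAdd D := by
    refine rowAdd_of_linked S hd hE ?_
    have mk : ∀ {y}, y ∈ tvSet m → τ.symm y ∈ perpSet D d := fun {y} hy => by
      rw [hE'] at hy
      obtain ⟨q, hq, rfl⟩ := hy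
      rwa [τ.symm_apply_apply]
    have cm : ∀ y y', Commute (τ.symm y) (τ.symm y') ↔ Commute y y' := fun y y' =>
      ⟨fun k => by simpa using k.map τ, fun k => k.map τ.symm⟩
    refine linked_of_std (good_quot S hd) (mk (tb_mem ha₀)) (mk (tb_mem hb₀))
      (fun k => hnc₀ ((cm _ _).mp k)) fun B' hB' hB'nc => ?_
    obtain ⟨x, hx, ex⟩ := exists_tb (hτ ▸ ⟨B', hB', rfl⟩ : τ B' ∈ tvSet m)
    have eB : B' = τ.symm (tb x) := by rw [← ex, τ.symm_apply_apply]
    obtain ⟨s, t, u, v, e1, e2, e3⟩ := two_blocks (x i1) (x i2)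
    let P : Blk m := Pi.single i1 s + Pi.single i2 t
    let Q : Blk m := Pi.single i1 u + Pi.single i2 v
    have hPQ : bF P Q = 1 := by
      simp only [Q, bF_add_right, bF_single]
      simp [P, h12, h12.symm, e3]
    have hPne : P ≠ 0 := fun e => by rw [e, bF_zero_left] at hPQ; exact zero_ne_one hPQ
    have hQne : Q ≠ 0 := fun e => by rw [e, bF_comm, bF_zero_left] at hPQ; exact zero_ne_one hPQ
    have ha0 : ∀ i, i ≠ i0 → a₀ i = 0 ∧ b₀ i = 0 := fun i hi => by simp [a₀, b₀, hi]
    have k : ∀ (s t : F22) (z : Blk m), z i1 = 0 → z i2 = 0 →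
        bF z (Pi.single i1 s + Pi.single i2 t) = 0 := fun s t z z1 z2 => by
      rw [bF_add_right, bF_single, bF_single, z1, z2]; simp [bb]
    refine ⟨_, mk (tb_mem hPne), _, mk (tb_mem hQne), fun kk => ?_, ?_, ?_, ?_, ?_, ?_, ?_⟩
    · rw [cm, tb_commute hPne hQne, hPQ] at kk; exact one_ne_zero kk
    · rw [cm, tb_commute hPne ha₀, bF_comm]; exact k s t _ (ha0 _ h01).1 (ha0 _ h02).1
    · rw [cm, tb_commute hPne hb₀, bF_comm]; exact k s t _ (ha0 _ h01).2 (ha0 _ h02).2
    · rw [eB, cm, tb_commute hPne hx, bF_comm, bF_add_right, bF_single, bF_single]; exact e1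
    · rw [cm, tb_commute hQne ha₀, bF_comm]; exact k u v _ (ha0 _ h01).1 (ha0 _ h02).1
    · rw [cm, tb_commute hQne hb₀, bF_comm]; exact k u v _ (ha0 _ h01).2 (ha0 _ h02).2
    · rw [eB, cm, tb_commute hQne hx, bF_comm, bF_add_right, bF_single, bF_single]; exact e2
  -- vectors of the members
  obtain ⟨c, hc, hdc'⟩ := exists_not_commute h (two_of_nc S.hyp) hd
  have hdc : ¬ Commute d c := hdc'
  let pre : Blk m → G := fun x => if hx : x ≠ 0 then (R.surj (tb x) (tb_mem hx)).choose else 1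
  have hpre : ∀ x, x ≠ 0 → pre x ∈ perp D d ∧ ψ (pre x) = tb x := fun x hx => by
    simp only [pre, dif_pos hx]; exact (R.surj (tb x) (tb_mem hx)).choose_spec
  have hvec : ∀ u ∈ perp D d, ∃ x, x ≠ 0 ∧ u = pre x := fun u hu => by
    obtain ⟨x, hx, e⟩ := exists_tb (R.mem u hu)
    exact ⟨x, hx, R.inj u hu _ (hpre x hx).1 (e.trans (hpre x hx).2.symm)⟩
  have hpc : ∀ x y, x ≠ 0 → y ≠ 0 → (Commute (pre x) (pre y) ↔ bF x y = 0) := fun x y hx hy => by
    rw [← R.comm _ (hpre x hx).1 _ (hpre y hy).1, (hpre x hx).2, (hpre y hy).2, tb_commute hx hy]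
  let f : Blk m → ZMod 2 := fun x => Grp.PolarRec.row D c (pre x)
  have hfadd : ∀ x y, bF x y = 1 → f (x + y) = f x + f y := by
    intro x y hxy
    have hx : x ≠ 0 := fun e => by rw [e, bF_zero_left] at hxy; exact zero_ne_one hxy
    have hy : y ≠ 0 := fun e => by rw [e, bF_comm, bF_zero_left] at hxy; exact zero_ne_one hxy
    have hne : x + y ≠ 0 := add_ne_zero_of_ne fun e => by rw [e, bF_self] at hxy; exact zero_ne_one hxy
    have hnc : ¬ Commute (pre x) (pre y) := by rw [hpc x y hx hy, hxy]; exact one_ne_zero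
    obtain ⟨hw, ew⟩ := R.conj _ (hpre x hx).1 _ (hpre y hy).1
    rw [(hpre x hx).2, (hpre y hy).2, tb_conj hxy] at ew
    have e : pre x * pre y * pre x = pre (x + y) :=
      R.inj _ hw _ (hpre _ hne).1 (ew.trans (hpre _ hne).2.symm)
    show Grp.PolarRec.row D c _ = Grp.PolarRec.row D c _ + Grp.PolarRec.row D c _
    rw [← e, row_symm hc hw.1, row_symm hc (hpre x hx).1.1, row_symm hc (hpre y hy).1.1]
    exact row_add h hR (hpre x hx).1.1 (hpre y hy).1.1 hnc hc
  obtain ⟨w, ε, hf⟩ := additive_classify (fun _ => false) f hfadd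
  have hfc : ∀ x, x ≠ 0 → (Commute c (pre x) ↔ f x = 0) := fun x hx => by
    refine ⟨fun k => Grp.PolarRec.row_comm k, fun k => ?_⟩
    by_contra k'
    rw [show f x = Grp.PolarRec.row D c (pre x) from rfl, Grp.PolarRec.row_nc (hpre x hx).1.1 k'] at k
    exact one_ne_zero k
  have hpre_inj : ∀ x y, x ≠ 0 → y ≠ 0 → pre x = pre y → x = y := fun x y hx hy e =>
    tb_inj hx (by rw [← (hpre x hx).2, e, (hpre y hy).2])
  have hcm : ∀ x, x ≠ 0 → (pre x ∈ common D d c ↔ f x = 0) := fun x hx => by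
    rw [← hfc x hx]
    exact ⟨fun k => k.2.2.2,
      fun k => ⟨(hpre x hx).1, (hpre x hx).1.1, fun e => hdc (e ▸ (hpre x hx).1.2.2), k⟩⟩
  -- a linear function is impossible
  rcases (show ∀ t : ZMod 2, t = 0 ∨ t = 1 by decide) ε with rfl | rfl
  · exfalso
    obtain ⟨⟨x₁, hx₁⟩, hlink⟩ := meets_linked S hd hc hdc
    obtain ⟨x, hx, hxw⟩ : ∃ x, (x ≠ 0 ∧ pre x ∈ common D d c) ∧ x ≠ w := by
      obtain ⟨x₂, hx₂, hne, -⟩ := hlink x₁ hx₁
      obtain ⟨v₁, h1, rfl⟩ := hvec x₁ hx₁.1
      obtain ⟨v₂, h2, rfl⟩ := hvec x₂ hx₂.1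
      by_cases k : v₁ = w
      · exact ⟨v₂, ⟨h2, hx₂⟩, fun e => hne (by rw [e, k])⟩
      · exact ⟨v₁, ⟨h1, hx₁⟩, k⟩
    have hbelow := read_below S hd τ hτ hc hdc hx.2 (tb_mem ha₀) (tb_mem hb₀) hnc₀
    let L : Finset (Blk m) := Finset.univ.filter fun y => y ≠ 0 ∧ y ≠ x ∧ bF w y = 0 ∧ bF x y = 0
    let K : Finset (Blk m) := Finset.univ.filter fun y => bF a₀ y = 0 ∧ bF b₀ y = 0
    have hL : (L.card : ℕ) = (common D d c ∩ perp D (pre x)).ncard := by
      rw [← Set.ncard_coe_finset, ← Set.InjOn.ncard_image (f := pre)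
        (fun p hp q hq e => by
          simp only [L, Finset.coe_filter, Set.mem_setOf_eq] at hp hq
          exact hpre_inj p q hp.2.1 hq.2.1 e)]
      congr 1
      ext u
      simp only [L, Finset.coe_filter, Finset.mem_univ, true_and, Set.mem_image, Set.mem_setOf_eq]
      constructor
      · rintro ⟨y, ⟨hy, hyx, h1, h2⟩, rfl⟩
        refine ⟨(hcm y hy).mpr ?_, (hpre y hy).1.1, fun e => hyx (hpre_inj y x hy hx.1 e), ?_⟩
        · rw [hf y hy, h1, zero_mul, add_zero]
        · exact (hpc x y hx.1 hy).mpr h2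
      · rintro ⟨hu, hux⟩
        obtain ⟨y, hy, rfl⟩ := hvec u hu.1
        have := (hcm y hy).mp hu
        rw [hf y hy, zero_mul, add_zero] at this
        exact ⟨y, ⟨hy, fun e => hux.2.1 (by rw [e]), this, (hpc x y hx.1 hy).mp hux.2.2⟩, rfl⟩
    have hK : (K.erase 0).card = (common (tvSet m) (tb a₀) (tb b₀)).ncard := by
      rw [← Set.ncard_coe_finset, ← Set.InjOn.ncard_image (f := tb)
        (fun p hp q _ e => tb_inj (Finset.mem_erase.mp hp).1 e)]
      congr 1
      ext T
      simp only [K, Finset.coe_erase, Finset.coe_filter, Finset.mem_univ, true_and, Set.mem_image,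
        Set.mem_diff, Set.mem_setOf_eq, Set.mem_singleton_iff]
      constructor
      · rintro ⟨y, ⟨⟨h1, h2⟩, hy⟩, rfl⟩
        refine ⟨⟨tb_mem hy, fun e => ?_, (tb_commute ha₀ hy).mpr h1⟩, tb_mem hy, fun e => ?_, (tb_commute hb₀ hy).mpr h2⟩
        · rw [tb_inj hy e, bF_comm, hab₀] at h2; exact one_ne_zero h2
        · rw [tb_inj hy e, hab₀] at h1; exact one_ne_zero h1
      · rintro ⟨⟨hT, -, h1⟩, -, -, h2⟩
        obtain ⟨y, hy, rfl⟩ := exists_tb hT
        exact ⟨y, ⟨⟨(tb_commute ha₀ hy).mp h1, (tb_commute hb₀ hy).mp h2⟩, hy⟩, rfl⟩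
    have hx0 : bF w x = 0 := by
      have := (hcm x hx.1).mp hx.2
      rwa [hf x hx.1, zero_mul, add_zero] at this
    have evL : Even L.card := by
      refine even_card_of_invol L (fun y => y + x) (fun y hy => ?_) (fun y _ => ?_) fun y _ e => hx.1 ?_
      · simp only [L, Finset.mem_filter, Finset.mem_univ, true_and] at hy ⊢
        obtain ⟨y0, yx, y1, y2⟩ := hy
        refine ⟨add_ne_zero_of_ne yx, fun e => y0 ?_, ?_, ?_⟩
        · simpa using e
        · rw [bF_add_right, y1, hx0, add_zero]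
        · rw [bF_add_right, y2, bF_self, add_zero]
      · rw [add_assoc, char2B, add_zero]
      · simpa using e
    have evK : Even K.card := by
      let u₁ : Blk m := Pi.single i1 (1, 0)
      refine even_card_of_invol K (fun y => y + u₁) (fun y hy => ?_) (fun y _ => ?_) fun y _ e => ?_
      · simp only [K, Finset.mem_filter, Finset.mem_univ, true_and] at hy ⊢
        simp only [u₁, bF_add_right, bF_single, hy.1, hy.2]
        simp [a₀, b₀, h01, bb]
      · rw [add_assoc, char2B, add_zero]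
      · have : u₁ = 0 := by simpa using e
        simpa [u₁] using congrFun this i1
    have h0K : (0 : Blk m) ∈ K :=
      Finset.mem_filter.mpr ⟨Finset.mem_univ _, by simp [bF, bb], by simp [bF, bb]⟩
    have he : L.card + 1 = K.card := by rw [hL, hbelow, ← hK, Finset.card_erase_add_one h0K]
    rw [← he] at evK
    exact Nat.not_even_iff_odd.mpr (Even.add_one evL) evK
  -- the quadratic function
  have hfq : ∀ x, x ≠ 0 → (Commute c (pre x) ↔ qF (fun _ => false) x + bF w x = 1) := fun x hx => by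
    rw [hfc x hx, hf x hx, one_mul]
    have : ∀ a b : ZMod 2, a + (1 + b) = 0 ↔ b + a = 1 := by decide
    exact this _ _
  have main : ∀ {ι : Type} [Fintype ι] [DecidableEq ι] (Q : QuadraticForm (ZMod 2) (ι → ZMod 2)),
      (QuadraticMap.polarBilin Q).Nondegenerate → 5 ≤ Fintype.card ι → ∀ (emb : F22 → Blk m → ι → ZMod 2),
      (∀ y, ∃ p x, emb p x = y) →
      (∀ p p' x x', emb (p + p') (x + x') = emb p x + emb p' x') →
      (∀ p x, Q (emb p x) = qb (decide (qF (fun _ => false) w = 0)) p + qF (fun _ => false) x) →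
      ∃ e : G ≃* ↥(isometryGroup (ZMod 2) ⇑Q), e '' D = OTwo.tset Q := by
    intro ι _ _ Q hQ hn emb hsur hadd hq
    set t := decide (qF (fun _ => false) w = 0) with ht
    have hB : ∀ p p' x x', QuadraticMap.polar ⇑Q (emb p x) (emb p' x') = bb p p' + bF x x' := by
      intro p p' x x'
      rw [QuadraticMap.polar, ← hadd, hq, hq, hq, qF_add]
      have : ∀ t : Bool, ∀ p p' : F22, qb t (p + p') = qb t p + qb t p' + bb p p' := by decide
      rw [this]
      ring
    let d2 : F22 := if t then (1, 0) else (1, 1)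
    let c2 : F22 := if t then (0, 1) else (1, 0)
    have hd2 : qb t d2 = 1 ∧ bb d2 c2 = 1 ∧ d2 ≠ 0 := by
      simp only [d2, c2]; cases t <;> decide
    have hc2 : qb t c2 + qF (fun _ => false) w = 1 := by
      by_cases k : qF (fun _ => false) w = 0
      · simp only [c2, ht, k, decide_true]; decide
      · simp only [c2, ht, k, decide_false, one_of_ne_zero k]; decide
    have qd' : Q (emb d2 0) = 1 := by rw [hq, hd2.1, qF_zero, add_zero]
    have qc' : Q (emb c2 w) = 1 := by rw [hq, hc2]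
    let dd : Blk m → F22 := fun x => if qF (fun _ => false) x = 0 then d2 else 0
    have hdd : ∀ x, qb t (dd x) + qF (fun _ => false) x = 1 := fun x => by
      by_cases k : qF (fun _ => false) x = 0
      · simp only [dd, k, if_pos, hd2.1, add_zero]
      · simp only [dd, if_neg k, one_of_ne_zero k]; simp [qb]
    have hbd : ∀ x, bb d2 (dd x) = 0 ∧ ∀ y, bb (dd x) (dd y) = 0 := fun x => by
      have : ∀ p : F22, bb p p = 0 ∧ bb p 0 = 0 ∧ bb 0 p = 0 := by decide
      refine ⟨?_, fun y => ?_⟩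
      · simp only [dd]; split_ifs <;> simp [this]
      · simp only [dd]; split_ifs <;> simp [this]
    let vec : G → Blk m := fun u => if hu : u ∈ perp D d then (hvec u hu).choose else 0
    have hvec' : ∀ u (hu : u ∈ perp D d), vec u ≠ 0 ∧ u = pre (vec u) := fun u hu => by
      simp only [vec, dif_pos hu]; exact (hvec u hu).choose_spec
    let σ : G → ↥(isometryGroup (ZMod 2) ⇑Q) := fun u => OTwo.pt Q (emb (dd (vec u)) (vec u))
    have qσ : ∀ x, Q (emb (dd x) x) = 1 := fun x => by rw [hq, hdd]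
    refine ident g hR (OTwo.cls Q hQ hn) (OTwo.center_bot Q hQ hn) (OTwo.rowAdd Q hQ) (OTwo.twinFree Q hQ hn)
      hd hc hdc (d' := OTwo.pt Q (emb d2 0)) (c' := OTwo.pt Q (emb c2 w)) (OTwo.pt_mem Q hQ qd')
      (OTwo.pt_mem Q hQ qc') ?_ σ ?_ ?_ ?_ ?_
    · rw [OTwo.pt_commute Q hQ qd' qc', hB, hd2.2.1, bF_zero_left]; decide
    · intro u hu
      refine ⟨OTwo.pt_mem Q hQ (qσ _), fun e => ?_, ?_⟩
      · have e' := OTwo.pt_inj Q hQ (qσ _) qd' e
        obtain ⟨y, hy⟩ := exists_bF_one (hvec' u hu).1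
        have := congrArg (fun z => QuadraticMap.polar ⇑Q z (emb 0 y)) e'
        simp only [hB, bF_zero_left, hy] at this
        have e0 : ∀ p : F22, bb p 0 = 0 := by decide
        simp [e0] at this
      · rw [OTwo.pt_commute Q hQ qd' (qσ _), hB, (hbd _).1, bF_zero_left, add_zero]
    · rintro T ⟨hT, hne, hcomT⟩
      obtain ⟨z, hz, rfl⟩ := OTwo.exists_pt Q hQ hT
      obtain ⟨p, x, rfl⟩ := hsur z
      rw [OTwo.pt_commute Q hQ qd' hz, hB, bF_zero_left, add_zero] at hcomT
      have hp : p = 0 ∨ p = d2 := by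
        have : ∀ (d p : F22), d ≠ 0 → bb d p = 0 → p = 0 ∨ p = d := by decide
        exact this d2 p hd2.2.2 hcomT
      rw [hq] at hz
      have hx : x ≠ 0 := by
        rintro rfl
        rcases hp with rfl | rfl
        · rw [qF_zero, show qb t (0 : F22) = 0 from by simp [qb], add_zero] at hz
          exact zero_ne_one hz
        · exact hne rfl
      have hpd : p = dd x := by
        rcases hp with rfl | rfl
        · rw [show qb t (0 : F22) = 0 from by simp [qb], zero_add] at hz
          simp [dd, hz]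
        · rw [hd2.1, add_eq_left] at hz
          simp [dd, hz]
      refine ⟨pre x, (hpre x hx).1, ?_⟩
      obtain ⟨h1, h2⟩ := hvec' _ (hpre x hx).1
      rw [show σ (pre x) = OTwo.pt Q (emb (dd (vec (pre x))) (vec (pre x))) from rfl,
        ← hpre_inj x _ hx h1 h2, hpd]
    · intro u hu v hv
      conv_rhs => rw [(hvec' u hu).2, (hvec' v hv).2]
      rw [hpc _ _ (hvec' u hu).1 (hvec' v hv).1, OTwo.pt_commute Q hQ (qσ _) (qσ _), hB,
        (hbd _).2, zero_add]
    · intro u hu
      obtain ⟨h1, h2⟩ := hvec' u hu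
      conv_rhs => rw [h2]
      rw [hfq _ h1, OTwo.pt_commute Q hQ qc' (qσ _), hB]
      have : ∀ c d : F22, bb d c = 1 → bb c d = 1 ∧ bb c 0 = 0 := by decide
      obtain ⟨k1, k2⟩ := this c2 d2 hd2.2.1
      by_cases k : qF (fun _ => false) (vec u) = 0
      · simp only [dd, k, if_pos, k1, zero_add]
        have : ∀ b : ZMod 2, 1 + b = 0 ↔ b = 1 := by decide
        exact this _
      · simp only [dd, if_neg k, k2, one_of_ne_zero k, zero_add]
        have : ∀ b : ZMod 2, b = 0 ↔ 1 + b = 1 := by decide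
        exact this _
  by_cases hw : qF (fun _ => false) w = 0
  · right
    refine main (Classical.qfMinus m (ZMod 2) 1 1) (OrthTwo.nondeg_minus m) (by simp; omega)
      (fun p x => Sum.elim (Sum.elim (fun i => (x i).1) (fun i => (x i).2)) ![p.1, p.2]) (fun y => ?_) ?_ ?_
    · refine ⟨(y (.inr 0), y (.inr 1)), fun i => (y (.inl (.inl i)), y (.inl (.inr i))), ?_⟩
      funext s; rcases s with (i | i) | j
      · rfl
      · rfl
      · fin_cases j <;> rfl
    · intro p p' x x'
      funext s; rcases s with (i | i) | j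
      · rfl
      · rfl
      · fin_cases j <;> rfl
    · intro p x
      simp only [Classical.qfMinus_apply, quadFormMinus, Sum.elim_inl, Sum.elim_inr, qb, hw, decide_true,
        if_true, qF_false, Matrix.cons_val_zero, Matrix.cons_val_one]
      have : ∀ a b : ZMod 2, a ^ 2 + 1 * a * b + 1 * b ^ 2 = a * b + (a + b) := by decide
      rw [this]
      ring
  · left
    refine main (Classical.qfPlus (m + 1) (ZMod 2)) (OrthTwo.nondeg_plus _) (by simp; omega)
      (fun p x => Sum.elim (Fin.cons p.1 fun i => (x i).1) (Fin.cons p.2 fun i => (x i).2)) (fun y => ?_) ?_ ?_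
    · refine ⟨(y (.inl 0), y (.inr 0)), fun i => (y (.inl i.succ), y (.inr i.succ)), ?_⟩
      funext s; rcases s with i | i <;> induction i using Fin.cases <;> simp
    · intro p p' x x'
      funext s; rcases s with i | i <;> induction i using Fin.cases <;> simp
    · intro p x
      simp only [Classical.qfPlus_apply, quadFormPlus, Sum.elim_inl, Sum.elim_inr, Fin.sum_univ_succ,
        Fin.cons_zero, Fin.cons_succ, qb, hw, decide_false]
      simp [qF_false]

end Cfsg.Agent.Spor.FischerThm
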