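import Cfsg.Agent.Lib.Block.FischerTypes.U6Code.Code
import Mathlib.FieldTheory.Finite.GaloisField

/-! No set of points of projective three-space over four elements meets every line through one of its
points exactly twice. -/

set_option autoImplicit false

namespace Cfsg.Agent.Spor.FischerThm

open Cfsg.Agent.Block.FischerTypes Cfsg.Agent.Spor.USixTwo

/-- The third number is on the line of the first two, away from both. -/
def capTri (p q c : ℕ) : Bool :=
  !([0, 1, 2, 3].any fun a => Nat.beq q (U6Code.smul a p)) &&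
    [1, 2, 3].any fun a => [1, 2, 3].any fun b => Nat.beq c (U6Code.smul a p ^^^ U6Code.smul b q)

/-- Every choice of second points on the lines dies. -/
def capSearch : List ℕ → List ℕ → Bool
  | [], _ => false
  | d :: ds, L => [0, 1, 2, 3].all fun s =>
      (L.any fun p => L.any fun q => capTri p q (d ^^^ U6Code.smul s 1)) ||
        capSearch ds ((d ^^^ U6Code.smul s 1) :: L)

/-- The first five points. -/
def capBase : List ℕ := [1, 2, 4, 8, 7]

/-- The lines to fill. -/
def capDirs : List ℕ := [258, 262, 10, 514, 522, 12, 516, 524]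

theorem cap_chk : capSearch capDirs capBase = true := by decide +kernel

theorem capDirs_ok : (capDirs.all fun d =>
    !([0, 1, 2, 3].any fun a => Nat.beq d (U6Code.smul a 1)) &&
      Nat.blt (U6Code.lo d ||| U6Code.hi d) 16 && Nat.blt d 4096) = true := by decide +kernel

/-- The contradiction. -/
theorem cap_absurd {F : Type} [Field F] [Fintype F] (h4 : Fintype.card F = 4) (P : (Fin 4 → F) → Prop)
    (hne : ∀ v, P v → v ≠ 0) (hsc : ∀ (a : F) v, a ≠ 0 → P v → P (a • v))
    (hex : P (Pi.single 0 1))
    (hline : ∀ v, P v → ∀ u : Fin 4 → F, (∀ a : F, u ≠ a • v) → ∃! t : F, P (u + t • v)) : False := by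
  classical
  have hcol : ∀ (p q : Fin 4 → F) (a b : F), P p → P q → (∀ t : F, q ≠ t • p) → a ≠ 0 → b ≠ 0 →
      ¬ P (a • p + b • q) := by
    intro p q a b hp hq hind ha hb k
    have k' := hsc b⁻¹ _ (inv_ne_zero hb) k
    rw [smul_add, smul_smul, smul_smul, inv_mul_cancel₀ hb, one_smul, add_comm] at k'
    have := (hline p hp q hind).unique k' (show P (q + (0 : F) • p) by rw [zero_smul, add_zero]; exact hq)
    exact (mul_ne_zero (inv_ne_zero hb) ha) this
  let e : Fin 4 → Fin 4 → F := fun i => Pi.single i 1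
  have he : ∀ i j (a : F), i ≠ j → e j ≠ a • e i := fun i j a hij k => by
    have := congrFun k j
    simp [e, Pi.single_eq_of_ne (Ne.symm hij)] at this
  obtain ⟨α, hα, -⟩ := hline _ hex (e 1) fun a => he 0 1 a (by decide)
  obtain ⟨β, hβ, -⟩ := hline _ hex (e 2) fun a => he 0 2 a (by decide)
  obtain ⟨δ, hδ, -⟩ := hline _ hex (e 3) fun a => he 0 3 a (by decide)
  obtain ⟨γ, hγ, -⟩ := hline _ hex ((e 1 + α • e 0) + (e 2 + β • e 0)) fun a k => by
    have := congrFun k 1
    simp [e] at this
  have hγ0 : γ ≠ 0 := by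
    rintro rfl
    rw [zero_smul, add_zero] at hγ
    refine hcol (e 1 + α • e 0) (e 2 + β • e 0) 1 1 hα hβ (fun t k => ?_) one_ne_zero one_ne_zero ?_
    · have := congrFun k 2
      simp [e] at this
    · rwa [one_smul, one_smul]
  let L : (Fin 4 → F) → Fin 4 → F := fun x =>
    (x 0 * γ) • e 0 + x 1 • (e 1 + α • e 0) + x 2 • (e 2 + β • e 0) + x 3 • (e 3 + δ • e 0)
  have Ladd : ∀ x y, L (x + y) = L x + L y := fun x y => by
    simp only [L, Pi.add_apply, add_mul, add_smul]; abel
  have Lsmul : ∀ (a : F) x, L (a • x) = a • L x := fun a x => by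
    simp only [L, Pi.smul_apply, smul_eq_mul, smul_add, smul_smul, mul_assoc]
  have Linj : ∀ x, L x = 0 → x = 0 := fun x k => by
    have k1 := congrFun k 1
    have k2 := congrFun k 2
    have k3 := congrFun k 3
    have k0 := congrFun k 0
    simp [L, e] at k1 k2 k3
    simp [L, e, k1, k2, k3, hγ0] at k0
    funext i
    fin_cases i <;> assumption
  let φ : F ≃+* K4 := FiniteField.ringEquivOfCardEq (by rw [h4]; rfl)
  let cv : ℕ → Fin 4 → F := fun c i => φ.symm (U6Code.vec c (Fin.castLE (by norm_num) i))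
  have cxor : ∀ c d, cv (c ^^^ d) = cv c + cv d := fun c d => funext fun i => by simp [cv, U6Code.vec_xor]
  have csmul : ∀ s c, s < 4 → cv (U6Code.smul s c) = φ.symm (K4.of s) • cv c := fun s c hs =>
    funext fun i => by simp [cv, U6Code.vec_smul hs]
  let Q : ℕ → Prop := fun c => c < 4096 ∧ (U6Code.lo c ||| U6Code.hi c) < 16 ∧ P (L (cv c))
  have sup : ∀ c, (U6Code.lo c ||| U6Code.hi c) < 16 → ∀ i : Fin 6, 4 ≤ i.val → U6Code.vec c i = 0 := by
    intro c h i hi
    have hb := Nat.testBit_lt_two_pow (lt_of_lt_of_le h (Nat.pow_le_pow_right (n := 2) (by norm_num) hi))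
    rw [Nat.testBit_or, U6Code.testBit_lo _ i.2, U6Code.testBit_hi _ i.2, Bool.or_eq_false_iff] at hb
    show U6Code.ofBits _ _ = 0
    rw [hb.1, hb.2, U6Code.ofBits_zero]
  have tri : ∀ p q c, Q p → Q q → capTri p q c = true → ¬ P (L (cv c)) := by
    intro p q c hp hq h k
    simp only [capTri, Bool.and_eq_true, Bool.not_eq_true', List.any_eq_false, List.any_eq_true] at h
    obtain ⟨h1, a, ha, b, hb, e'⟩ := h
    have ha' : 1 ≤ a ∧ a < 4 := by simp only [List.mem_cons, List.not_mem_nil, or_false] at ha; omega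
    have hb' : 1 ≤ b ∧ b < 4 := by simp only [List.mem_cons, List.not_mem_nil, or_false] at hb; omega
    have nz : ∀ s, 1 ≤ s → s < 4 → φ.symm (K4.of s) ≠ 0 := fun s s1 s4 k =>
      U6Code.of_ne_zero s1 s4 (by rw [← φ.apply_symm_apply (K4.of s), k, map_zero])
    rw [Nat.eq_of_beq_eq_true e', cxor, csmul a p ha'.2, csmul b q hb'.2, Ladd, Lsmul, Lsmul] at k
    refine hcol _ _ _ _ hp.2.2 hq.2.2 (fun t kt => ?_) (nz a ha'.1 ha'.2) (nz b hb'.1 hb'.2) k
    obtain ⟨s, hs, hst⟩ := K4.exists_of (φ t)
    have ee : cv q = t • cv p := by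
      have : L (cv q + (-t) • cv p) = 0 := by rw [Ladd, Lsmul, kt, neg_smul, add_neg_cancel]
      have := Linj _ this
      rwa [neg_smul, ← sub_eq_add_neg, sub_eq_zero] at this
    have e2 : q = U6Code.smul s p := U6Code.eq_of_vec hq.1 (U6Code.smul_lt s p) (by
      rw [U6Code.vec_smul hs, hst]
      funext i
      by_cases hi : i.val < 4
      · have h' := congrArg φ (congrFun ee ⟨i.val, hi⟩)
        simpa [cv] using h'
      · simp [sup q hq.2.1 i (not_lt.mp hi), sup p hp.2.1 i (not_lt.mp hi)])
    have hmem : s ∈ [0, 1, 2, 3] := by simp only [List.mem_cons, List.not_mem_nil, or_false]; omega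
    exact h1 s hmem (e2 ▸ Nat.beq_refl _)
  have lg : ∀ c : ℕ, c < 64 → U6Code.vec c = fun i : Fin 6 => U6Code.ofBits (c.testBit i) false := by
    intro c hc
    funext i
    show U6Code.ofBits _ _ = _
    rw [U6Code.testBit_small hc]
  have o1 : φ.symm (U6Code.ofBits true false) = 1 := by
    rw [show U6Code.ofBits true false = 1 by decide +kernel, map_one]
  have o0 : φ.symm (U6Code.ofBits false false) = 0 := by rw [U6Code.ofBits_zero, map_zero]
  have hQbase : ∀ p ∈ capBase, Q p := by
    intro p hp
    simp only [capBase, List.mem_cons, List.not_mem_nil, or_false] at hp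
    have hv : ∀ c < 64, cv c = fun i : Fin 4 => φ.symm (U6Code.ofBits (c.testBit i) false) := fun c hc =>
      funext fun i => by simp [cv, lg c hc]
    have b1 : cv 1 = Pi.single 0 1 := by
      rw [hv 1 (by norm_num)]; funext i; fin_cases i <;> simp [o1, o0, Nat.testBit, Pi.single_apply]
    have b2 : cv 2 = Pi.single 1 1 := by
      rw [hv 2 (by norm_num)]; funext i; fin_cases i <;> simp [o1, o0, Nat.testBit, Pi.single_apply]
    have b4 : cv 4 = Pi.single 2 1 := by
      rw [hv 4 (by norm_num)]; funext i; fin_cases i <;> simp [o1, o0, Nat.testBit, Pi.single_apply]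
    have b8 : cv 8 = Pi.single 3 1 := by
      rw [hv 8 (by norm_num)]; funext i; fin_cases i <;> simp [o1, o0, Nat.testBit, Pi.single_apply]
    have l1 : L (Pi.single 0 1) = γ • e 0 := by simp [L]
    rcases hp with rfl | rfl | rfl | rfl | rfl
    · exact ⟨by norm_num, by decide +kernel, by rw [b1, l1]; exact hsc γ _ hγ0 hex⟩
    · exact ⟨by norm_num, by decide +kernel, by rw [b2]; simpa [L] using hα⟩
    · exact ⟨by norm_num, by decide +kernel, by rw [b4]; simpa [L] using hβ⟩
    · exact ⟨by norm_num, by decide +kernel, by rw [b8]; simpa [L] using hδ⟩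
    · refine ⟨by norm_num, by decide +kernel, ?_⟩
      rw [show (7 : ℕ) = 1 ^^^ (2 ^^^ 4) by rfl, cxor, cxor, b1, b2, b4, Ladd, Ladd, l1, add_comm]
      simpa [L] using hγ
  have go : ∀ ds L', (∀ d ∈ ds, d ∈ capDirs) → (∀ p ∈ L', Q p) → capSearch ds L' = true → False := by
    intro ds
    induction ds with
    | nil => intro L' _ _ h; simp [capSearch] at h
    | cons d ds ih =>
      intro L' hd hL' h
      simp only [capSearch, List.all_eq_true, Bool.or_eq_true, List.any_eq_true] at h
      have hok := List.all_eq_true.1 capDirs_ok d (hd d (List.mem_cons_self))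
      simp only [Bool.and_eq_true, Bool.not_eq_true', List.any_eq_false, Nat.blt, Nat.ble_eq,
        Nat.succ_le_iff] at hok
      obtain ⟨⟨h1, h2⟩, h3⟩ := hok
      have q1 := (hQbase 1 (by simp [capBase])).2.2
      obtain ⟨t, ht, -⟩ := hline _ q1 (L (cv d)) fun a k => by
        obtain ⟨s, hs, hst⟩ := K4.exists_of (φ a)
        have ee : cv d = a • cv 1 := by
          have : L (cv d + (-a) • cv 1) = 0 := by rw [Ladd, Lsmul, k, neg_smul, add_neg_cancel]
          have := Linj _ this
          rwa [neg_smul, ← sub_eq_add_neg, sub_eq_zero] at this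
        have e2 : d = U6Code.smul s 1 := U6Code.eq_of_vec h3 (U6Code.smul_lt s 1) (by
          rw [U6Code.vec_smul hs, hst]
          funext i
          by_cases hi : i.val < 4
          · simpa [cv] using congrArg φ (congrFun ee ⟨i.val, hi⟩)
          · simp [sup d h2 i (not_lt.mp hi), sup 1 (by decide +kernel) i (not_lt.mp hi)])
        exact h1 s (by simp only [List.mem_cons, List.not_mem_nil, or_false]; omega) (e2 ▸ Nat.beq_refl _)
      obtain ⟨s, hs, hst⟩ := K4.exists_of (φ t)
      have hval : L (cv (d ^^^ U6Code.smul s 1)) = L (cv d) + t • L (cv 1) := by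
        rw [cxor, csmul s 1 hs, hst, φ.symm_apply_apply, Ladd, Lsmul]
      rw [← hval] at ht
      have hnew : Q (d ^^^ U6Code.smul s 1) := by
        refine ⟨Nat.xor_lt_two_pow (n := 12) h3 (U6Code.smul_lt s 1), ?_, ht⟩
        refine Nat.lt_pow_two_of_testBit (n := 4) _ fun i hi => ?_
        rcases Nat.lt_or_ge i 6 with h6 | h6
        · have z : U6Code.vec (d ^^^ U6Code.smul s 1) ⟨i, h6⟩ = 0 := by
            rw [U6Code.vec_xor, U6Code.vec_smul hs, Pi.add_apply, Pi.smul_apply, sup d h2 ⟨i, h6⟩ hi,
              sup 1 (by decide +kernel) ⟨i, h6⟩ hi, smul_zero, add_zero]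
          obtain ⟨z1, z2⟩ := U6Code.ofBits_ne_zero _ _ z
          rw [Nat.testBit_or, U6Code.testBit_lo _ h6, U6Code.testBit_hi _ h6, z1, z2]; rfl
        · exact Nat.testBit_lt_two_pow (lt_of_lt_of_le
            (Nat.or_lt_two_pow (n := 6) (U6Code.lo_lt _) (U6Code.hi_lt _)) (Nat.pow_le_pow_right (by norm_num) h6))
      rcases h s (by simp only [List.mem_cons, List.not_mem_nil, or_false]; omega) with
        ⟨p, hp, q, hq, k⟩ | k
      · exact tri p q _ (hL' p hp) (hL' q hq) k ht
      · refine ih _ (fun x hx => hd x (List.mem_cons_of_mem _ hx)) ?_ k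
        intro x hx
        rcases List.mem_cons.mp hx with rfl | hx
        exacts [hnew, hL' x hx]
  exact go capDirs capBase (fun d hd => hd) hQbase cap_chk

end Cfsg.Agent.Spor.FischerThm
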