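import Cfsg.Agent.Lib.Spor.FischerThm.Srg
import Cfsg.Agent.Lib.Spor.FischerThm.CapFour
import Cfsg.Agent.Lib.Block.FischerTypes.M22Group
import Cfsg.Agent.Lib.Block.FischerTypes.U6Count

/-! The unitary class of degree seven or more is not the class below a member. -/

set_option autoImplicit false
set_option linter.style.haveILetI false
set_option linter.unusedSectionVars false

namespace Cfsg.Agent.Spor.FischerThm

open Cfsg Cfsg.Agent.Spor.ThreeTrans Cfsg.Agent.Block.FischerTypes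
open Cfsg.Agent.Classical Cfsg.Agent.Classical.PSUAut Cfsg.Agent.Spor.UnitTwo

variable {G : Type*} [Group G] [Finite G] {D : Set G} (S : Setting D)
  {F : Type} [Field F] [Fintype F] (h4 : Fintype.card F = 4) {n : ℕ}

local notation "hF" => card_sq h4

/-- The member `w` is on the line of `p` and `u` below `a`. -/
def OnLine (D : Set G) (a p u w : G) : Prop :=
  w ∈ perp D a ∧ w ∈ perp D p ∧ ∀ z ∈ perp D a, z ∈ perp D p → (Commute z u ↔ Commute z w)

omit S in
theorem onLine_symm {a p u w : G} (h : OnLine D a p u w) : OnLine D p a u w :=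
  ⟨h.2.1, h.1, fun z h1 h2 => h.2.2 z h2 h1⟩

include S h4

/-- Lines in the vectors. -/
theorem onLine_iff (hn : 1 ≤ n) {a : G} (ha : a ∈ D) (τ : PerpQuot D a ≃* PSU n F 2)
    (hτ : τ '' perpSet D a = U6.roots h4 n) {p u : G} (hp : p ∈ perp D a) (hu : u ∈ perp D a)
    (hup : u ∈ perp D p) {P C : Fin n → F} (hPP : hermForm n F 2 P P = 0) (hP0 : P ≠ 0)
    (hCC : hermForm n F 2 C C = 0) (hC0 : C ≠ 0)
    (eP : τ (pr D a p hp) = U6.root h4 hPP) (eC : τ (pr D a u hu) = U6.root h4 hCC) :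
    ∃ horth : ∀ α : F, hermForm n F 2 (C + α • P) (C + α • P) = 0, (∀ α : F, C + α • P ≠ 0) ∧
      (∀ α β : F, U6.root h4 (horth α) = U6.root h4 (horth β) → α = β) ∧
      ∀ w (hw : w ∈ perp D a), OnLine D a p u w ↔ ∃ α, τ (pr D a w hw) = U6.root h4 (horth α) := by
  classical
  have cm : ∀ {x y : G} (hx : x ∈ perp D a) (hy : y ∈ perp D a),
      Commute (τ (pr D a x hx)) (τ (pr D a y hy)) ↔ Commute x y := fun hx hy =>
    ⟨fun k => commute_of_pr S.cls S.tf ha hx hy (by simpa using k.map τ.symm),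
      fun k => (commute_pr hx hy k).map τ⟩
  have inj : ∀ {x y : G} (hx : x ∈ perp D a) (hy : y ∈ perp D a),
      τ (pr D a x hx) = τ (pr D a y hy) → x = y := fun hx hy k =>
    pr_injective S.cls S.tf ha hx hy (τ.injective k)
  have mem : ∀ {x : G} (hx : x ∈ perp D a), τ (pr D a x hx) ∈ U6.roots h4 n := fun hx =>
    hτ ▸ ⟨_, pr_mem hx, rfl⟩
  have lift : ∀ r ∈ U6.roots h4 n, ∃ (z : G) (hz : z ∈ perp D a), τ (pr D a z hz) = r := fun r hr => by
    rw [← hτ] at hr
    obtain ⟨q, hq, rfl⟩ := hr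
    obtain ⟨z, hz, rfl⟩ := exists_of_mem hq
    exact ⟨z, hz, rfl⟩
  have pe : ∀ {x : G} (hx : x ∈ perp D a),
      τ (pr D a x hx) ∈ perp (U6.roots h4 n) (τ (pr D a p hp)) ↔ x ∈ perp D p := fun hx =>
    ⟨fun k => ⟨hx.1, fun e => k.2.1 (by subst e; rfl), (cm hp hx).mp k.2.2⟩,
      fun k => ⟨mem hx, fun e => k.2.1 (inj hx hp e), (cm hp hx).mpr k.2.2⟩⟩
  have hPC : hermForm n F 2 P C = 0 :=
    (U6.root_commute h4 hn hPP hCC hP0 hC0).mp (eP ▸ eC ▸ (cm hp hu).mpr hup.2.2)
  have hCP := h_comm_zero hF hPC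
  have horth : ∀ α : F, hermForm n F 2 (C + α • P) (C + α • P) = 0 := fun α => by
    rw [h_add_left, h_add_right hF, h_add_right hF, h_smul_left, h_smul_left, h_smul_right hF,
      h_smul_right hF, hCC, hCP, hPC, hPP]
    ring
  have ind : ∀ b : F, C ≠ b • P := fun b k => hup.2.1 (inj hu hp (by
    rw [eP, eC, U6.root_congr h4 hCC (k ▸ hCC) k]
    exact U6.root_smul h4 hPP (fun h0 => hC0 (by rw [k, h0, zero_smul])) _))
  have hne0 : ∀ α : F, C + α • P ≠ 0 := fun α k => ind (-α) (by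
    rw [neg_smul]; exact eq_neg_of_add_eq_zero_left k)
  have hinj : ∀ α β : F, U6.root h4 (horth α) = U6.root h4 (horth β) → α = β := by
    intro α β k
    obtain ⟨b, -, hb⟩ := U6.root_eq h4 hn (horth α) (horth β) (hne0 α) k
    by_cases h1 : b = 1
    · rw [h1, one_smul] at hb
      exact smul_left_injective F hP0 (add_left_cancel hb)
    · have e : (1 - b) • C = (b * β - α) • P := by
        rw [sub_smul, sub_smul, one_smul, ← smul_smul]
        rw [smul_add] at hb
        linear_combination (norm := module) hb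
      refine absurd ?_ (ind ((1 - b)⁻¹ * (b * β - α)))
      rw [← smul_smul, ← e, smul_smul, inv_mul_cancel₀ (sub_ne_zero.mpr (Ne.symm h1)), one_smul]
  refine ⟨horth, hne0, hinj, fun w hw => ?_⟩
  obtain ⟨l, -, hlen, hl, -, -⟩ := U6.line h4 hn (mem hp) ((pe hu).mpr hup)
  have hin : ∀ α, U6.root h4 (horth α) ∈ l := fun α => by
    refine (hl _).mpr ⟨?_, ?_⟩
    · rw [eP, U6.perp_iff h4 hn hPP (horth α) hP0 (hne0 α)]
      refine ⟨by rw [h_add_left, h_smul_left, hCP, hPP, mul_zero, add_zero], fun b k => ind (b - α) ?_⟩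
      rw [sub_smul, ← k, add_sub_cancel_right]
    · rintro X ⟨⟨Y, hY0, hYY, rfl⟩, -, hXc⟩
      rw [eP] at hXc
      have hYP := h_comm_zero hF ((U6.root_commute h4 hn hPP hYY hP0 hY0).mp hXc)
      rw [eC, U6.root_commute h4 hn hYY hCC hY0 hC0, U6.root_commute h4 hn hYY (horth α) hY0 (hne0 α),
        h_add_right hF, h_smul_right hF, hYP, mul_zero, add_zero]
  have hset : Finset.univ.image (fun α => U6.root h4 (horth α)) = l.toFinset := by
    refine Finset.eq_of_subset_of_card_le (fun r hr => ?_) ?_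
    · obtain ⟨α, -, rfl⟩ := Finset.mem_image.mp hr
      exact List.mem_toFinset.mpr (hin α)
    · rw [Finset.card_image_of_injective _ fun α β k => hinj α β k, Finset.card_univ, h4]
      exact (List.toFinset_card_le l).trans hlen.le
  rw [show (∃ α, τ (pr D a w hw) = U6.root h4 (horth α)) ↔ τ (pr D a w hw) ∈ l by
    rw [← List.mem_toFinset, ← hset, Finset.mem_image]; simp [eq_comm], hl]
  constructor
  · rintro ⟨-, hwp, hall⟩
    refine ⟨(pe hw).mpr hwp, fun X hX => ?_⟩
    obtain ⟨z, hz, rfl⟩ := lift X hX.1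
    rw [cm hz hu, cm hz hw]
    exact hall z hz ((pe hz).mp hX)
  · rintro ⟨h1, h2⟩
    refine ⟨hw, (pe hw).mp h1, fun z hz hzp => ?_⟩
    rw [← cm hz hu, ← cm hz hw]
    exact h2 _ ((pe hz).mpr hzp)

variable (hM : ∀ a ∈ D, ∃ τ : PerpQuot D a ≃* PSU n F 2, τ '' perpSet D a = U6.roots h4 n)
include hM

/-- Each line through a common perpendicular carries one more. -/
theorem line_unique (hn : 1 ≤ n) {d c x u : G} (hd : d ∈ D) (hc : c ∈ D) (hdc : ¬ Commute d c)
    (hx : x ∈ common D d c) (hu : u ∈ perp D d) (hux : u ∈ perp D x) :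
    ∃! w, OnLine D d x u w ∧ w ∈ common D d c := by
  have hd' := perp_symm' S hd hx.1
  have hc' := perp_symm' S hc hx.2
  obtain ⟨τ, hτ⟩ := hM x hx.1.1
  have get : ∀ {z} (hz : z ∈ perp D x), ∃ v, v ≠ 0 ∧ ∃ hv : hermForm n F 2 v v = 0,
      τ (pr D x z hz) = U6.root h4 hv := fun hz => by
    obtain ⟨v, hv0, hv, e⟩ : τ (pr D x _ hz) ∈ U6.roots h4 n := hτ ▸ ⟨_, pr_mem hz, rfl⟩
    exact ⟨v, hv0, hv, e.symm⟩
  obtain ⟨P, hP0, hPP, eP⟩ := get hd'
  obtain ⟨C, hC0, hCC, eC⟩ := get hux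
  obtain ⟨R, hR0, hRR, eR⟩ := get hc'
  obtain ⟨horth, hne0, hinj, hline⟩ := onLine_iff S h4 hn hx.1.1 τ hτ hd' hux hu hPP hP0 hCC hC0 eP eC
  have hPR : hermForm n F 2 P R ≠ 0 := fun k => hdc (commute_of_pr S.cls S.tf hx.1.1 hd' hc' (by
    have := ((U6.root_commute h4 hn hPP hRR hP0 hR0).mpr k).map τ.symm
    rwa [← eP, ← eR, MulEquiv.symm_apply_apply, MulEquiv.symm_apply_apply] at this))
  have crit : ∀ α w (hw : w ∈ perp D x), τ (pr D x w hw) = U6.root h4 (horth α) →
      (Commute w c ↔ α = -(hermForm n F 2 C R) / hermForm n F 2 P R) := fun α w hw e => by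
    have k1 : Commute w c ↔ hermForm n F 2 (C + α • P) R = 0 := by
      rw [← U6.root_commute h4 hn (horth α) hRR (hne0 α) hR0, ← e, ← eR]
      exact ⟨fun k => (commute_pr hw hc' k).map τ,
        fun k => commute_of_pr S.cls S.tf hx.1.1 hw hc' (by simpa using k.map τ.symm)⟩
    rw [k1, h_add_left, h_smul_left, eq_div_iff hPR]
    exact ⟨fun k => by linear_combination k, fun k => by linear_combination k⟩
  obtain ⟨α, hα⟩ : ∃ α, α = -(hermForm n F 2 C R) / hermForm n F 2 P R := ⟨_, rfl⟩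
  obtain ⟨q, hq, eq⟩ : U6.root h4 (horth α) ∈ τ '' perpSet D x := hτ ▸ ⟨_, hne0 α, _, rfl⟩
  obtain ⟨w, hw, rfl⟩ := exists_of_mem hq
  have hl := (hline w hw).mpr ⟨α, eq⟩
  have hwc : Commute w c := (crit α w hw eq).mpr hα
  refine ⟨w, ⟨onLine_symm hl, hl.2.1, hl.2.1.1,
    fun e => hdc (e ▸ hl.2.1.2.2), hwc.symm⟩, ?_⟩
  rintro w' ⟨hl', hw'⟩
  obtain ⟨β, eβ⟩ := (hline w' hl'.2.1).mp (onLine_symm hl')
  have hβ := (crit β w' hl'.2.1 eβ).mp hw'.2.2.2.symm
  have hβα : β = α := hβ.trans hα.symm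
  subst hβα
  exact pr_injective S.cls S.tf hx.1.1 hl'.2.1 hw (τ.injective (eβ.trans eq.symm))

/-- Degree eight or more does not occur. -/
theorem unit_big_absurd (hn : 8 ≤ n) {d : G} (hd : d ∈ D) : False := by
  classical
  have hn1 : 1 ≤ n := by omega
  obtain ⟨c, hc, hdc⟩ := exists_not_commute S.cls (two_of_nc S.hyp) hd
  obtain ⟨⟨x, hx⟩, -⟩ := meets_linked S hd hc hdc
  obtain ⟨τ, hτ⟩ := hM d hd
  let e : (Fin 4 → F) → Fin n → F := fun v j => if h : j.val < 8 then v ⟨j.val / 2, by omega⟩ else 0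
  have eadd : ∀ u v, e (u + v) = e u + e v := fun u v => funext fun j => by
    by_cases h : j.val < 8 <;> simp [e, h]
  have esmul : ∀ (a : F) v, e (a • v) = a • e v := fun a v => funext fun j => by
    by_cases h : j.val < 8 <;> simp [e, h]
  have einj : Function.Injective e := fun u v k => funext fun i => by
    have := congrFun k ⟨2 * i.val, by omega⟩
    simpa [e, show 2 * i.val < 8 by omega] using this
  have ezero : e 0 = 0 := funext fun j => by simp [e]
  have eh : ∀ u v, hermForm n F 2 (e u) (e v) = 0 := fun u v => by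
    refine Finset.sum_involution (fun j _ => if h : j.val < 8 then
      (⟨if j.val % 2 = 0 then j.val + 1 else j.val - 1, by split_ifs <;> omega⟩ : Fin n) else j)
      (fun j _ => ?_) (fun j _ hj => ?_) (fun j _ => Finset.mem_univ _) (fun j _ => ?_)
    · by_cases h : j.val < 8
      · have h' : (if j.val % 2 = 0 then j.val + 1 else j.val - 1) < 8 := by split_ifs <;> omega
        simp only [e, dif_pos h, dif_pos h']
        rw [show (⟨(if j.val % 2 = 0 then j.val + 1 else j.val - 1) / 2, by omega⟩ : Fin 4) =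
          ⟨j.val / 2, by omega⟩ from Fin.ext (by simp only; split_ifs <;> omega)]
        exact add_self h4 _
      · simp [e, h]
    · by_cases h : j.val < 8
      · simp only [dif_pos h, ne_eq, Fin.ext_iff]
        split_ifs <;> omega
      · exact absurd (by simp [e, h]) hj
    · by_cases h : j.val < 8
      · have h' : (if j.val % 2 = 0 then j.val + 1 else j.val - 1) < 8 := by split_ifs <;> omega
        simp only [dif_pos h, dif_pos h']
        ext
        simp only
        split_ifs <;> omega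
      · simp [h]
  have ee0 : e (Pi.single 0 1) ≠ 0 := fun k => by
    have : (Pi.single 0 1 : Fin 4 → F) = 0 := einj (k.trans ezero.symm)
    simpa using congrFun this 0
  -- move a common perpendicular into the subspace
  have hcl := U6.roots_class' h4 (n := n) (by omega)
  obtain ⟨g, hg⟩ := transitive hcl (show τ (pr D d x hx.1) ∈ U6.roots h4 n from hτ ▸ ⟨_, pr_mem hx.1, rfl⟩)
    ⟨_, ee0, eh _ _, rfl⟩
  obtain ⟨k, hk⟩ := QuotientGroup.mk_surjective (τ.symm g)
  have hkd : Commute (k : G) d := commute_all (fun w hw => hw.2.2.symm) k.2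
  have hx' : (k : G) * x * (k : G)⁻¹ ∈ perp D d := perp_conj' S.cls hkd hx.1
  have ex' : τ (pr D d _ hx') = U6.root h4 (eh (Pi.single 0 1) (Pi.single 0 1)) := by
    rw [show pr D d _ hx' = QuotientGroup.mk k * pr D d x hx.1 * (QuotientGroup.mk k)⁻¹ from
      congrArg QuotientGroup.mk (Subtype.ext rfl), hk, map_mul, map_mul, map_inv, τ.apply_symm_apply, hg]
  obtain ⟨c', hc', hdc', hxS⟩ : ∃ c' ∈ D, ¬ Commute d c' ∧ (k : G) * x * (k : G)⁻¹ ∈ common D d c' := by
    refine ⟨k * c * (k : G)⁻¹, conj_mem S.cls _ hc, fun kk => hdc ?_, hx', (conj_mem_perp S.cls _ c).mpr hx.2⟩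
    exact (commute_conj_iff (k : G) d c).mp (by rwa [conj_self_eq hkd])
  let P : (Fin 4 → F) → Prop := fun v =>
    v ≠ 0 ∧ ∃ z, ∃ hz : z ∈ common D d c', τ (pr D d z hz.1) = U6.root h4 (eh v v)
  refine cap_absurd h4 P (fun v hv => hv.1) ?_ ?_ ?_
  · rintro a v ha ⟨hv0, z, hz, ez⟩
    refine ⟨smul_ne_zero ha hv0, z, hz, ez.trans ?_⟩
    rw [U6.root_congr h4 (eh (a • v) (a • v)) (by rw [← esmul]; exact eh _ _) (esmul a v)]
    exact (U6.root_smul h4 (eh v v) ha _).symm
  · exact ⟨fun k => by simpa using congrFun k 0, _, hxS, ex'⟩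
  rintro v ⟨hv0, z, hz, ez⟩ u huv
  have ev0 : e v ≠ 0 := fun k => hv0 (einj (k.trans ezero.symm))
  have eu0 : e u ≠ 0 := fun k => huv 0 (by rw [zero_smul]; exact einj (k.trans ezero.symm))
  obtain ⟨q, hq, eq⟩ : U6.root h4 (eh u u) ∈ τ '' perpSet D d := hτ ▸ ⟨_, eu0, _, rfl⟩
  obtain ⟨U, hU, rfl⟩ := exists_of_mem hq
  have hUz : U ∈ perp D z := by
    refine ⟨hU.1, fun k => ?_, commute_of_pr S.cls S.tf hd hz.1 hU ?_⟩
    · subst k
      obtain ⟨a, -, ha⟩ := U6.root_eq h4 hn1 (eh u u) (eh v v) eu0 (eq.symm.trans ez)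
      exact huv a (einj (ha.trans (esmul a v).symm))
    · have := ((U6.root_commute h4 hn1 (eh v v) (eh u u) ev0 eu0).mpr (eh v u)).map τ.symm
      rwa [← ez, ← eq, MulEquiv.symm_apply_apply, MulEquiv.symm_apply_apply] at this
  obtain ⟨horth, hne0, hinj, hline⟩ :=
    onLine_iff S h4 hn1 hd τ hτ hz.1 hU hUz (eh v v) ev0 (eh u u) eu0 ez eq
  have hroot : ∀ t : F, U6.root h4 (eh (u + t • v) (u + t • v)) = U6.root h4 (horth t) := fun t =>
    U6.root_congr h4 _ _ (by rw [eadd, esmul])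
  obtain ⟨w, ⟨hwl, hwS⟩, huniq⟩ := line_unique S h4 hM hn1 hd hc' hdc' hz hU hUz
  obtain ⟨t, et⟩ := (hline w hwS.1).mp hwl
  refine ⟨t, ⟨fun k => hne0 t (by rw [← esmul, ← eadd, k, ezero]), w, hwS, et.trans (hroot t).symm⟩, ?_⟩
  rintro s ⟨-, w', hw', ew'⟩
  have hl' : OnLine D d z U w' := (hline w' hw'.1).mpr ⟨s, ew'.trans (hroot s)⟩
  have hww := huniq w' ⟨hl', hw'⟩
  subst hww
  exact hinj s t ((hroot s).symm.trans (ew'.symm.trans et))

/-- Degree seven does not occur. -/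
theorem unit_seven_absurd (hn : n = 7) (hG : pCore 3 G = ⊥) {d : G} (hd : d ∈ D) : False := by
  classical
  subst hn
  obtain ⟨c, hc, hdc⟩ := exists_not_commute S.cls (two_of_nc S.hyp) hd
  obtain ⟨e, he⟩ := S.perp_ne d hd
  obtain ⟨τ, hτ⟩ := hM d hd
  have hcount : Nat.card {v : Fin 5 → F // hermForm 5 F 2 v v = 0} = 496 ∧
      Nat.card {v : Fin 7 → F // hermForm 7 F 2 v v = 0} = 8128 := by
    obtain ⟨-, a4, a6⟩ := U6.iso_count h4
    have s := U6.iso_step h4
    have e1 : (1 : F) + 1 = 0 := add_self h4 1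
    have := s 4 0
    have := s 4 1
    have := s 5 0
    have := s 5 1
    have := s 6 0
    simp only [zero_add, Nat.reduceAdd, e1] at *
    omega
  have hk : (perp D d).ncard = 2709 := by
    rw [perp_card S hd, ← Set.ncard_image_of_injective _ τ.injective, hτ]
    have h := U6.roots_count h4 (n := 7) (by norm_num) (fun _ => True) (fun _ => True) fun _ _ _ => Iff.rfl
    have e' : Nat.card {v : Fin 7 → F // v ≠ 0 ∧ hermForm 7 F 2 v v = 0 ∧ True} = 8127 :=
      (Nat.card_congr (Equiv.subtypeEquivRight fun v => by simp)).trans (U6.iso_ne h4 hcount.2)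
    rw [e', Set.sep_true] at h
    omega
  have hlam : (common D d e).ncard = 660 := by
    rw [pr_card S hd (P := common D d e) Set.inter_subset_left (Q := perp (perpSet D d) (pr D d e he))
      (fun q hq => hq.1) fun u hu => (pr_perp_iff S hd he hu).trans ⟨fun k => ⟨hu, k⟩, fun k => k.2⟩,
      ← Set.ncard_image_of_injective _ τ.injective]
    have e2 : τ '' perp (perpSet D d) (pr D d e he) = perp (U6.roots h4 7) (τ (pr D d e he)) := by
      ext r
      constructor
      · rintro ⟨q, hq, rfl⟩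
        exact ⟨hτ ▸ ⟨q, hq.1, rfl⟩, fun k => hq.2.1 (τ.injective k), hq.2.2.map τ⟩
      · intro hr
        obtain ⟨q, hq, rfl⟩ : r ∈ τ '' perpSet D d := hτ ▸ hr.1
        exact ⟨q, ⟨hq, fun k => hr.2.1 (by rw [k]), by simpa using hr.2.2.map τ.symm⟩, rfl⟩
    rw [e2]
    have : (perp (U6.roots h4 7) (τ (pr D d e he))).ncard * 3 = 4 * 495 :=
      U6.perp_card_step h4 (m := 5) (k := 495) (by norm_num) hcount.1 (hτ ▸ ⟨_, pr_mem he, rfl⟩)
    omega
  obtain ⟨h1, h2, h3⟩ := srg_ok S hG hd hc hdc he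
  rw [hk, hlam] at h3
  rw [hk] at h2
  have chk : ((List.range 2709).all fun m => Nat.beq m 0 || !srgOK 2709 660 m) = true := by decide +kernel
  simp only [List.all_eq_true, List.mem_range, Bool.or_eq_true, Bool.not_eq_true'] at chk
  rcases chk _ h2 with k | k
  · have := Nat.eq_of_beq_eq_true k
    omega
  · rw [h3] at k; exact absurd k (by simp)

end Cfsg.Agent.Spor.FischerThm
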