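import Cfsg.Agent.Lib.Spor.FischerThm.UnitModel

/-! The points of the five-dimensional unitary space, and checks on traces through an edge. -/

set_option autoImplicit false
set_option maxRecDepth 100000

namespace Cfsg.Agent.Spor.FischerThm

open Cfsg.Agent.Block.FischerTypes

/-- The points. -/
def fivePts : List ℕ := [3, 5, 6, 9, 10, 12, 15, 17, 18, 20, 23, 24, 27, 29, 30, 129, 131, 141, 143, 149, 151, 153, 155, 257, 258, 261, 262, 267, 271, 275, 279, 281, 282, 285, 286, 393, 395, 397, 399, 401, 403, 405, 407, 513, 514, 516, 519, 521, 522, 524, 527, 531, 533, 534, 539, 541, 542, 645, 647, 653, 655, 657, 659, 665, 667, 771, 775, 779, 783, 785, 786, 789, 790, 793, 794, 797, 798, 897, 899, 901, 903, 905, 907, 909, 911, 1025, 1026, 1028, 1031, 1032, 1035, 1037, 1038, 1041, 1042, 1044, 1047, 1048, 1051, 1053, 1054, 1157, 1159, 1161, 1163, 1173, 1175, 1177, 1179, 1283, 1287, 1289, 1290, 1293, 1294, 1299, 1303, 1305, 1306, 1309, 1310, 1409, 1411, 1413, 1415, 1425, 1427, 1429, 1431, 1539, 1541, 1542, 1547, 1549, 1550, 1555, 1557, 1558, 1563, 1565, 1566, 1665, 1667,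 1673, 1675, 1681, 1683, 1689, 1691, 1793, 1794, 1797, 1798, 1801, 1802, 1805, 1806, 1809, 1810, 1813, 1814, 1817, 1818, 1821, 1822]

/-- The neighbours of a point. -/
def nb5 (p : ℕ) : List ℕ := fivePts.filter fun c => U6Code.adj p c && !(Nat.beq p c)

/-- One closing step under the transvections. -/
def step5 (L : List ℕ) : List ℕ := (L.flatMap fun p => L.map (U6Code.refl p)).eraseDups

/-- The set generated by three points. -/
def gen5 (y a b : ℕ) : List ℕ := step5 (step5 [y, a, b])

/-- The candidate traces at `x` through `y`, from two lines at `x`. -/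
def traces5 (x y u v : ℕ) : List (List ℕ) :=
  ((nb5 x).filter (U6Code.adj u)).flatMap fun a => ((nb5 x).filter (U6Code.adj v)).map (gen5 y a)

/-- The action of a word of transvections. -/
def act5 (w : List ℕ) (c : ℕ) : ℕ := w.foldl (fun c p => U6Code.refl p c) c

/-- The word keeps the set. -/
def keeps5 (w A : List ℕ) : Bool := A.all fun c => A.contains (act5 w c)

/-- Words fixing the edge. -/
def fiveWords : List (List ℕ) :=
  [[1026, 129, 17], [1054, 899, 29], [1793, 785, 141], [1026, 129, 17, 15], [1038, 141, 17], [1810, 143, 29],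
    [1805, 785, 129], [1038, 141, 17, 15]]

theorem fivePts_all : ((List.range 4096).all fun c => !ptN 5 c || fivePts.contains c) = true := by decide +kernel

theorem fivePts_ok : (fivePts.all fun c => ptN 5 c) = true := by decide +kernel

theorem five_base : ptN 5 3 = true ∧ ptN 5 12 = true ∧ ptN 5 5 = true ∧ U6Code.adj 3 12 = true ∧
    U6Code.adj 12 3 = true ∧ U6Code.adj 3 5 = false ∧ ptN 5 20 = true ∧ ptN 5 267 = true ∧
    ptN 5 17 = true ∧ ptN 5 129 = true ∧ U6Code.adj 3 20 = true ∧ U6Code.adj 3 267 = true ∧
    U6Code.adj 12 17 = true ∧ U6Code.adj 12 129 = true := by decide +kernel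

/-- The common neighbours of an edge commute. -/
theorem diamond_chk : ((nb5 3).all fun a => (nb5 3).all fun b =>
    !(U6Code.adj 12 a) || !(U6Code.adj 12 b) || U6Code.adj a b) = true := by decide +kernel

/-- Each line at a point carries a neighbour of every apart point. -/
theorem meet_chk : (fivePts.all fun b => U6Code.adj 3 b ||
    (nb5 3).any fun w => U6Code.adj b w && U6Code.adj 12 w) = true := by decide +kernel

/-- A trace is shared by two apart points. -/
theorem trace_chk : (fivePts.all fun b => U6Code.adj 3 b || Nat.beq b 5 || Nat.beq b (U6Code.refl 3 5) ||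
    (nb5 3).any fun w => U6Code.adj 5 w && !(U6Code.adj b w)) = true := by decide +kernel

/-- A closed trace is generated by three points. -/
theorem gen_chk_x : ((traces5 3 12 20 267).all fun A => (nb5 3).all fun t =>
    A.contains t || A.any fun s => !(Nat.beq s t) && U6Code.adj t s) = true := by decide +kernel

theorem gen_chk_y : ((traces5 12 3 17 129).all fun A => (nb5 12).all fun t =>
    A.contains t || A.any fun s => !(Nat.beq s t) && U6Code.adj t s) = true := by decide +kernel

theorem word_fix : (fiveWords.all fun w => w.all (ptN 5) && Nat.beq (act5 w 3) 3 && Nat.beq (act5 w 12) 12) = true := by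
  decide +kernel

/-- No two candidate traces have one stabiliser. -/
theorem flip_chk : ((traces5 3 12 20 267).all fun A => (traces5 12 3 17 129).all fun B =>
    fiveWords.any fun w => xor (keeps5 w A) (keeps5 w B)) = true := by decide +kernel

end Cfsg.Agent.Spor.FischerThm
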