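import Cfsg.Agent.Lib.Spor.FischerThm.PairNum
import Cfsg.Agent.Lib.Spor.FischerThm.UnitFiveData

/-! No class has the unitary class of degree five below its members. -/

set_option autoImplicit false
set_option linter.style.haveILetI false
set_option linter.unusedSectionVars false

namespace Cfsg.Agent.Spor.FischerThm

open Cfsg Cfsg.Agent.Spor.ThreeTrans Cfsg.Agent.Block.FischerTypes
open Cfsg.Agent.Spor.ThreeTrans renaming mul_self → dsq

theorem fivePts_mem {c : ℕ} (hc : ptN 5 c = true) : c ∈ fivePts := by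
  have h := fivePts_all
  simp only [List.all_eq_true, List.mem_range, Bool.or_eq_true, Bool.not_eq_true', List.contains_iff_mem] at h
  rcases h c (U6Code.lt_of_isPt (ptN_iff.mp hc).1) with k | k
  · rw [hc] at k; exact absurd k (by simp)
  · exact k

theorem fivePts_pt {c : ℕ} (hc : c ∈ fivePts) : ptN 5 c = true := List.all_eq_true.1 fivePts_ok c hc

theorem nb5_iff {p c : ℕ} : c ∈ nb5 p ↔ ptN 5 c = true ∧ U6Code.adj p c = true ∧ p ≠ c := by
  simp only [nb5, List.mem_filter, Bool.and_eq_true, Bool.not_eq_true']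
  exact ⟨fun ⟨h, a, b⟩ => ⟨fivePts_pt h, a, Nat.ne_of_beq_eq_false b⟩,
    fun ⟨h, a, b⟩ => ⟨fivePts_mem h, a, by rw [← Bool.not_eq_true]; exact fun k => b (Nat.eq_of_beq_eq_true k)⟩⟩

variable {G : Type*} [Group G] [Finite G] {D : Set G} (S : Setting D)
  (hN : ∀ a ∈ D, Nonempty (PNum D a 5))
include S hN

/-- Two apart members have no commuting pair of common perpendiculars below a third. -/
theorem five_diamond {d c x u v : G} (hdc : ¬ Commute d c) (hx : x ∈ D) (hd : d ∈ perp D x) (hc : c ∈ perp D x)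
    (hu : u ∈ common D d c) (hux : u ∈ perp D x) (hv : v ∈ common D d c) (hvx : v ∈ perp D x)
    (huv : Commute u v) : u = v := by
  by_contra hne
  obtain ⟨M₀⟩ := hN x hx
  obtain ⟨k1, k2, -, k3, -⟩ := five_base
  obtain ⟨M, e1, e2⟩ := based_pair S hx M₀ k1 k2 k3 (by norm_num) hux hvx (Ne.symm hne) huv
  obtain ⟨a, ha, rfl⟩ := M.surj d hd
  obtain ⟨b, hb, rfl⟩ := M.surj c hc
  subst e1 e2
  have n3 : ∀ {s}, ptN 5 s = true → M.pt 3 ∈ perp D (M.pt s) → s ∈ nb5 3 := fun {s} hs k =>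
    nb5_iff.mpr ⟨hs, (M.comm 3 s k1 hs).mp k.2.2.symm, fun e => k.2.1 (by rw [e])⟩
  have h := diamond_chk
  simp only [List.all_eq_true, Bool.or_eq_true, Bool.not_eq_true'] at h
  rcases h a (n3 ha hu.1) b (n3 hb hu.2) with (k | k) | k
  · rw [(M.comm 12 a k2 ha).mp hv.1.2.2.symm] at k; exact absurd k (by simp)
  · rw [(M.comm 12 b k2 hb).mp hv.2.2.2.symm] at k; exact absurd k (by simp)
  · exact hdc ((M.comm a b ha hb).mpr k)

/-- Every line below a third carries a common perpendicular. -/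
theorem five_meet {d c x u : G} (hdc : ¬ Commute d c) (hx : x ∈ D) (hd : d ∈ perp D x) (hc : c ∈ perp D x)
    (hu : u ∈ perp D x) (hud : u ∈ perp D d) :
    ∃ w ∈ common D d c, w ∈ perp D x ∧ Commute w u := by
  obtain ⟨M₀⟩ := hN x hx
  obtain ⟨k1, k2, -, k3, -⟩ := five_base
  obtain ⟨M, e1, e2⟩ := based_pair S hx M₀ k1 k2 k3 (by norm_num) hd hu hud.2.1 hud.2.2
  obtain ⟨b, hb, rfl⟩ := M.surj c hc
  subst e1 e2
  have hb3 : U6Code.adj 3 b ≠ true := fun k => hdc ((M.comm 3 b k1 hb).mpr k)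
  have h := meet_chk
  simp only [List.all_eq_true, Bool.or_eq_true, List.any_eq_true, Bool.and_eq_true] at h
  rcases h b (fivePts_mem hb) with k | ⟨w, hw, w1, w2⟩
  · exact absurd k hb3
  obtain ⟨hw5, w3, w4⟩ := nb5_iff.mp hw
  have hm := M.mem w hw5
  refine ⟨M.pt w, ⟨⟨hm.1, fun e => w4 (M.inj w 3 hw5 k1 e).symm, (M.comm 3 w k1 hw5).mpr w3⟩,
    hm.1, fun e => hb3 (by rw [← M.inj w b hw5 hb e]; exact w3), (M.comm b w hb hw5).mpr w1⟩, hm,
    ((M.comm 12 w k2 hw5).mpr w2).symm⟩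

/-- A trace belongs to one pair only. -/
theorem five_unique {d c c' x : G} (hdc : ¬ Commute d c) (hd : d ∈ D) (hx : x ∈ common D d c)
    (hc : c ∈ D) (hc' : c' ∈ D) (hdc' : ¬ Commute d c') (hxc : x ∈ perp D c')
    (hT : ∀ w ∈ common D d c, w ∈ perp D x → Commute w c') : common D d c' = common D d c := by
  have hd' := perp_symm' S hd hx.1
  obtain ⟨M₀⟩ := hN x hx.1.1
  obtain ⟨k1, -, k2, -, -, k3, -⟩ := five_base
  obtain ⟨M, e1, e2⟩ := based_apart S hx.1.1 M₀ k1 k2 k3 hd' (perp_symm' S hc hx.2) hdc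
  obtain ⟨b, hb, rfl⟩ := M.surj c' (perp_symm' S hc' hxc)
  subst e1 e2
  have h := trace_chk
  simp only [List.all_eq_true, Bool.or_eq_true, List.any_eq_true, Bool.and_eq_true, Bool.not_eq_true'] at h
  rcases h b (fivePts_mem hb) with ((k | k) | k) | ⟨w, hw, w1, w2⟩
  · exact absurd ((M.comm 3 b k1 hb).mpr k) hdc'
  · rw [Nat.eq_of_beq_eq_true k]
  · rw [Nat.eq_of_beq_eq_true k, ← (M.conj 3 5 k1 k2).2]
    ext u
    refine and_congr_right fun hu => ?_
    conv_rhs => rw [← conj_mem_perp S.cls (M.pt 3), inv_eq S.cls.1 hd'.1]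
    have e : M.pt 3 * u * M.pt 3 = u := by
      rw [hu.2.2.eq, mul_assoc, dsq S.cls.1 hd'.1, mul_one]
    rw [e]
  · obtain ⟨hw5, w3, w4⟩ := nb5_iff.mp hw
    have hm := M.mem w hw5
    have hwS : M.pt w ∈ common D (M.pt 3) (M.pt 5) :=
      ⟨⟨hm.1, fun e => w4 (M.inj w 3 hw5 k1 e).symm, (M.comm 3 w k1 hw5).mpr w3⟩,
        hm.1, fun e => by
          have := M.inj w 5 hw5 k2 e
          rw [this, k3] at w3; exact Bool.false_ne_true w3, (M.comm 5 w k2 hw5).mpr w1⟩
    have := (M.comm b w hb hw5).mp (hT _ hwS hm).symm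
    rw [w2] at this
    exact absurd this Bool.false_ne_true

/-- An element keeping one trace keeps the other. -/
theorem five_transfer {d c x y g : G} (hd : d ∈ D) (hc : c ∈ D) (hdc : ¬ Commute d c) (hgd : Commute g d)
    (hgx : Commute g x) (hgy : Commute g y) (hx : x ∈ common D d c)
    (hT : ∀ z ∈ common D d c, z ∈ perp D x → g * z * g⁻¹ ∈ common D d c) :
    ∀ z ∈ common D d c, z ∈ perp D y → g * z * g⁻¹ ∈ common D d c ∧ g * z * g⁻¹ ∈ perp D y := by
  classical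
  have h := S.cls
  have mv : ∀ z ∈ common D d c, g * z * g⁻¹ ∈ common D d (g * c * g⁻¹) := fun z hz =>
    ⟨perp_conj' h hgd hz.1, (conj_mem_perp h g c).mpr hz.2⟩
  set T : Set G := common D d c ∩ perp D x
  have himg : (fun z => g * z * g⁻¹) '' T = T := by
    refine Set.eq_of_subset_of_ncard_le ?_ ?_ (Set.toFinite _)
    · rintro _ ⟨z, hz, rfl⟩
      exact ⟨hT z hz.1 hz.2, perp_conj' h hgx hz.2⟩
    · rw [Set.ncard_image_of_injective _ fun u v e => by simpa using e]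
  have hdc' : ¬ Commute d (g * c * g⁻¹) := fun k => hdc (by
    rw [← conj_self_eq hgd, commute_conj_iff] at k; exact k)
  have hxc : x ∈ perp D (g * c * g⁻¹) := by
    have := (conj_mem_perp h g c).mpr hx.2
    rwa [conj_self_eq hgx] at this
  have key := five_unique S hN hdc hd hx hc (conj_mem h g hc) hdc' hxc fun w hw hwx => by
    obtain ⟨t, ht, rfl⟩ : w ∈ (fun z => g * z * g⁻¹) '' T := himg.symm ▸ ⟨hw, hwx⟩
    exact (commute_conj_iff g t c).mpr ht.1.2.2.2.symm
  exact fun z hz hzy => ⟨key ▸ mv z hz, perp_conj' h hgy hzy⟩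

/-- The trace at a point is one of the candidates. -/
theorem five_trace {d c : G} (hd : d ∈ D) (hc : c ∈ D) (hdc : ¬ Commute d c) (M : PNum D d 5) {p q u v : ℕ}
    (hp : ptN 5 p = true) (hq : ptN 5 q = true) (hu : u ∈ nb5 p) (hv : v ∈ nb5 p) (hpq : q ∈ nb5 p)
    (hchk : ((traces5 p q u v).all fun A => (nb5 p).all fun t =>
      A.contains t || A.any fun s => !(Nat.beq s t) && U6Code.adj t s) = true)
    (hx : M.pt p ∈ common D d c) (hy : M.pt q ∈ common D d c) :
    ∃ A ∈ traces5 p q u v, ∀ t, ptN 5 t = true →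
      (t ∈ A ↔ M.pt t ∈ common D d c ∧ M.pt t ∈ perp D (M.pt p)) := by
  have toPerp : ∀ t, t ∈ nb5 p → ptN 5 t = true ∧ M.pt t ∈ perp D (M.pt p) := fun t ht => by
    obtain ⟨h5, ha, hne⟩ := nb5_iff.mp ht
    exact ⟨h5, (M.mem t h5).1, fun e => hne (M.inj t p h5 hp e).symm, (M.comm p t hp h5).mpr ha⟩
  have ofPerp : ∀ t, ptN 5 t = true → M.pt t ∈ perp D (M.pt p) → t ∈ nb5 p := fun t ht k =>
    nb5_iff.mpr ⟨ht, (M.comm p t hp ht).mp k.2.2, fun e => k.2.1 (by rw [e])⟩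
  let In : ℕ → Prop := fun t => ptN 5 t = true ∧ M.pt t ∈ common D d c ∧ M.pt t ∈ perp D (M.pt p)
  have hcl : ∀ s t, In s → In t → In (U6Code.refl s t) := fun s t hs ht => by
    obtain ⟨h1, h2⟩ := M.conj s t hs.1 ht.1
    refine ⟨h1, h2 ▸ common_conj_closed S hs.2.1 ht.2.1, h2 ▸ ?_⟩
    have := perp_conj' S.cls hs.2.2.2.2.symm ht.2.2
    rwa [inv_eq S.cls.1 hs.2.1.1.1] at this
  have hstep : ∀ L : List ℕ, (∀ t ∈ L, In t) → ∀ t ∈ step5 L, In t := fun L hL t ht => by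
    simp only [step5, List.mem_eraseDups, List.mem_flatMap, List.mem_map] at ht
    obtain ⟨s, hs, r, hr, rfl⟩ := ht
    exact hcl s r (hL s hs) (hL r hr)
  have pick : ∀ r ∈ nb5 p, ∃ a ∈ (nb5 p).filter (U6Code.adj r), In a := fun r hr => by
    obtain ⟨hr5, hrp⟩ := toPerp r hr
    obtain ⟨w, hw, hwx, hwr⟩ := five_meet S hN hdc hx.1.1 (perp_symm' S hd hx.1) (perp_symm' S hc hx.2)
      hrp (M.mem r hr5)
    obtain ⟨a, ha, rfl⟩ := M.surj w hw.1
    exact ⟨a, List.mem_filter.mpr ⟨ofPerp a ha hwx, (M.comm r a hr5 ha).mp hwr.symm⟩, ha, hw, hwx⟩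
  obtain ⟨a, ha, hIa⟩ := pick u hu
  obtain ⟨b, hb, hIb⟩ := pick v hv
  have hmem : gen5 q a b ∈ traces5 p q u v := by
    simp only [traces5, List.mem_flatMap, List.mem_map]
    exact ⟨a, ha, b, hb, rfl⟩
  have hin : ∀ t ∈ gen5 q a b, In t := hstep _ (hstep _ fun t ht => by
    simp only [List.mem_cons, List.not_mem_nil, or_false] at ht
    rcases ht with rfl | rfl | rfl
    exacts [⟨hq, hy, (toPerp _ hpq).2⟩, hIa, hIb])
  refine ⟨_, hmem, fun t ht => ⟨fun k => (hin t k).2, fun k => ?_⟩⟩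
  simp only [List.all_eq_true, Bool.or_eq_true, List.contains_iff_mem, List.any_eq_true, Bool.and_eq_true,
    Bool.not_eq_true'] at hchk
  rcases hchk _ hmem t (ofPerp t ht k.2) with e | ⟨s, hs, hst, hadj⟩
  · exact e
  obtain ⟨hs5, hsS, hsx⟩ := hin s hs
  have := five_diamond S hN hdc hx.1.1 (perp_symm' S hd hx.1) (perp_symm' S hc hx.2) k.1 k.2 hsS hsx
    ((M.comm t s ht hs5).mpr hadj)
  exact absurd (M.inj t s ht hs5 this).symm (Nat.ne_of_beq_eq_false hst)

theorem step_pt {d : G} (M : PNum D d 5) {L : List ℕ} (hL : ∀ t ∈ L, ptN 5 t = true) :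
    ∀ t ∈ step5 L, ptN 5 t = true := fun t ht => by
  simp only [step5, List.mem_eraseDups, List.mem_flatMap, List.mem_map] at ht
  obtain ⟨s, hs, r, hr, rfl⟩ := ht
  exact (M.conj s r (hL s hs) (hL r hr)).1

/-- A word of transvections acts on the numbering. -/
theorem five_word {d : G} (hd : d ∈ D) (M : PNum D d 5) : ∀ w : List ℕ, w.all (ptN 5) = true →
    ∃ g, Commute g d ∧ ∀ c, ptN 5 c = true → ptN 5 (act5 w c) = true ∧ g * M.pt c * g⁻¹ = M.pt (act5 w c) := by
  intro w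
  induction w with
  | nil => exact fun _ => ⟨1, Commute.one_left d, fun c hc => ⟨hc, by simp [act5]⟩⟩
  | cons p w ih =>
    intro h
    simp only [List.all_cons, Bool.and_eq_true] at h
    obtain ⟨g, hg, hact⟩ := ih h.2
    have hp := M.mem p h.1
    refine ⟨g * M.pt p, hg.mul_left hp.2.2.symm, fun c hc => ?_⟩
    obtain ⟨h1, h2⟩ := M.conj p c h.1 hc
    obtain ⟨h3, h4⟩ := hact _ h1
    refine ⟨h3, Eq.trans ?_ h4⟩
    rw [← h2, mul_inv_rev, inv_eq S.cls.1 hp.1]
    simp [mul_assoc]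

/-- Degree five does not occur. -/
theorem unit_five_absurd {d : G} (hd : d ∈ D) : False := by
  obtain ⟨c, hc, hdc⟩ := exists_not_commute S.cls (two_of_nc S.hyp) hd
  obtain ⟨⟨x, hx⟩, hl⟩ := meets_linked S hd hc hdc
  obtain ⟨y, hy, hyx, hxy⟩ := hl x hx
  obtain ⟨M₀⟩ := hN d hd
  obtain ⟨k3, k12, -, a1, a2, -, k20, k267, k17, k129, a20, a267, a17, a129⟩ := five_base
  obtain ⟨M, e1, e2⟩ := based_pair S hd M₀ k3 k12 a1 (by norm_num) hx.1 hy.1 hyx hxy
  subst e1 e2
  obtain ⟨A, hA, hA'⟩ := five_trace S hN hd hc hdc M k3 k12 (u := 20) (v := 267)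
    (nb5_iff.mpr ⟨k20, a20, by norm_num⟩) (nb5_iff.mpr ⟨k267, a267, by norm_num⟩)
    (nb5_iff.mpr ⟨k12, a1, by norm_num⟩) gen_chk_x hx hy
  obtain ⟨B, hB, hB'⟩ := five_trace S hN hd hc hdc M k12 k3 (u := 17) (v := 129)
    (nb5_iff.mpr ⟨k17, a17, by norm_num⟩) (nb5_iff.mpr ⟨k129, a129, by norm_num⟩)
    (nb5_iff.mpr ⟨k3, a2, by norm_num⟩) gen_chk_y hy hx
  have hflip := flip_chk
  simp only [List.all_eq_true, List.any_eq_true] at hflip
  obtain ⟨w, hw, hne⟩ := hflip A hA B hB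
  have hfix := List.all_eq_true.1 word_fix w hw
  simp only [Bool.and_eq_true] at hfix
  obtain ⟨g, hgd, hact⟩ := five_word S hN hd M w hfix.1.1
  have fixes : ∀ p, ptN 5 p = true → Nat.beq (act5 w p) p = true → Commute g (M.pt p) := fun p hp e => by
    have := (hact p hp).2
    rw [Nat.eq_of_beq_eq_true e] at this
    exact mul_inv_eq_iff_eq_mul.mp this
  have gx := fixes 3 k3 hfix.1.2
  have gy := fixes 12 k12 hfix.2
  have lt' : ∀ {L : List ℕ} {p : ℕ}, (∀ t, ptN 5 t = true →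
      (t ∈ L ↔ M.pt t ∈ common D d c ∧ M.pt t ∈ perp D (M.pt p))) → (∀ t ∈ L, ptN 5 t = true) →
      keeps5 w L = true → ∀ z ∈ common D d c, z ∈ perp D (M.pt p) → g * z * g⁻¹ ∈ common D d c := by
    intro L p hL _ hk z hz hzp
    obtain ⟨t, ht, rfl⟩ := M.surj z hz.1
    simp only [keeps5, List.all_eq_true, List.contains_iff_mem] at hk
    have := hk t ((hL t ht).mpr ⟨hz, hzp⟩)
    rw [(hact t ht).2]
    exact ((hL _ (hact t ht).1).mp this).1
  have back : ∀ {L : List ℕ} {p : ℕ}, (∀ t, ptN 5 t = true →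
      (t ∈ L ↔ M.pt t ∈ common D d c ∧ M.pt t ∈ perp D (M.pt p))) → (∀ t ∈ L, ptN 5 t = true) →
      (∀ z ∈ common D d c, z ∈ perp D (M.pt p) →
        g * z * g⁻¹ ∈ common D d c ∧ g * z * g⁻¹ ∈ perp D (M.pt p)) → keeps5 w L = true := by
    intro L p hL h5 hk
    simp only [keeps5, List.all_eq_true, List.contains_iff_mem]
    intro t ht
    obtain ⟨q1, q2⟩ := (hL t (h5 t ht)).mp ht
    obtain ⟨r1, r2⟩ := hk _ q1 q2
    rw [(hact t (h5 t ht)).2] at r1 r2
    exact (hL _ (hact t (h5 t ht)).1).mpr ⟨r1, r2⟩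
  have pA : ∀ t ∈ A, ptN 5 t = true := fun t ht => by
    simp only [traces5, List.mem_flatMap, List.mem_map] at hA
    obtain ⟨a, ha, b, hb, rfl⟩ := hA
    exact step_pt S hN M (step_pt S hN M (by
      simp only [List.mem_cons, List.not_mem_nil, or_false]
      rintro t (rfl | rfl | rfl)
      exacts [k12, (nb5_iff.mp (List.mem_filter.mp ha).1).1, (nb5_iff.mp (List.mem_filter.mp hb).1).1])) t ht
  have pB : ∀ t ∈ B, ptN 5 t = true := fun t ht => by
    simp only [traces5, List.mem_flatMap, List.mem_map] at hB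
    obtain ⟨a, ha, b, hb, rfl⟩ := hB
    exact step_pt S hN M (step_pt S hN M (by
      simp only [List.mem_cons, List.not_mem_nil, or_false]
      rintro t (rfl | rfl | rfl)
      exacts [k3, (nb5_iff.mp (List.mem_filter.mp ha).1).1, (nb5_iff.mp (List.mem_filter.mp hb).1).1])) t ht
  cases kA : keeps5 w A with
  | true =>
    have := back hB' pB (five_transfer S hN hd hc hdc hgd gx gy hx (lt' hA' pA kA))
    rw [kA, this] at hne; exact absurd hne (by decide)
  | false =>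
    cases kB : keeps5 w B with
    | true =>
      have := back hA' pA (five_transfer S hN hd hc hdc hgd gy gx hy (lt' hB' pB kB))
      rw [kA] at this; exact Bool.false_ne_true this
    | false => rw [kA, kB] at hne; exact absurd hne (by decide)

end Cfsg.Agent.Spor.FischerThm
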