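import Cfsg.Agent.Lib.Spor.FischerThm.UnitFour
import Cfsg.Agent.Lib.Spor.FischerThm.UnitFive
import Cfsg.Agent.Lib.Spor.FischerThm.UnitBig
import Cfsg.Agent.Lib.Spor.FischerThm.ReflCase
import Cfsg.Agent.Lib.Block.FischerTypes.M23Setting
import Cfsg.Agent.Lib.Block.FischerTypes.M22Recog.Type

/-! A unitary group below a member. -/

set_option autoImplicit false
set_option linter.style.haveILetI false
set_option linter.unusedSectionVars false

namespace Cfsg.Agent.Spor.FischerThm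

open Cfsg Cfsg.Agent.Spor.ThreeTrans Cfsg.Agent.Block.FischerTypes
open Cfsg.Agent.Spor.ThreeTrans renaming mul_self → dsq

variable {G : Type*} [Group G] [Finite G] {D : Set G}

/-- The degree six models make type M(22). -/
theorem m22_of_models (g : Good D) (S : Setting D) {d : G} (hd : d ∈ D) (hmod : ∀ a ∈ D, HasModel D a) :
    IsOfTypeM22 G D := by
  classical
  have h := S.cls
  have C := M22.ctx_of_parts S g.cen hmod ⟨d, hd, S.perp_ne d hd⟩
  obtain ⟨c, hc, hdc⟩ := exists_not_commute h (two_of_nc S.hyp) hd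
  obtain ⟨⟨m, hm, hmp, hme⟩, m', hm', hmp', hme'⟩ :=
    five_six S g.cen C.hex hmod hd hc hdc (C.meets d hd c hc hdc)
  obtain ⟨F, iF, iT, h4, ⟨e⟩⟩ := hmod d hd
  have hperf : Group.IsPerfect ↥(PerpGroup D d) := by
    rw [Group.isPerfect_def]
    let f := QuotientGroup.mk' (commutator ↥(PerpGroup D d))
    obtain ⟨u₀, hu₀⟩ := S.perp_ne d hd
    have hconst : ∀ x (hx : x ∈ perp D d), f ⟨x, Subgroup.subset_closure hx⟩ =
        f ⟨u₀, Subgroup.subset_closure hu₀⟩ := fun x hx => by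
      obtain ⟨k, hk, e'⟩ := transitive_perp S.hyp hd hu₀ hx
      have e'' : (⟨x, Subgroup.subset_closure hx⟩ : ↥(PerpGroup D d)) =
          ⟨k, hk⟩ * ⟨u₀, Subgroup.subset_closure hu₀⟩ * ⟨k, hk⟩⁻¹ := Subtype.ext e'.symm
      refine (QuotientGroup.eq_iff_div_mem).mpr ?_
      rw [e'', div_eq_mul_inv]
      exact Subgroup.commutator_mem_commutator (Subgroup.mem_top _) (Subgroup.mem_top _)
    have lift : ∀ l : List G, (∀ x ∈ l, x ∈ perp D d) → ∀ hp : l.prod ∈ PerpGroup D d,
        f ⟨l.prod, hp⟩ = f ⟨u₀, Subgroup.subset_closure hu₀⟩ ^ l.length := by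
      intro l
      induction l with
      | nil =>
        exact fun _ hp => by
          rw [show (⟨_, hp⟩ : ↥(PerpGroup D d)) = 1 from Subtype.ext rfl, map_one, List.length_nil, pow_zero]
      | cons x l ih =>
        intro hl hp
        have hx := hl x List.mem_cons_self
        have hl' := fun y hy => hl y (List.mem_cons_of_mem _ hy)
        rw [show (⟨_, hp⟩ : ↥(PerpGroup D d)) = ⟨x, Subgroup.subset_closure hx⟩ *
          ⟨l.prod, list_prod_mem fun y hy => Subgroup.subset_closure (hl' y hy)⟩ from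
            Subtype.ext List.prod_cons, map_mul, ih hl' _, hconst x hx, List.length_cons, pow_succ']
    have e1 := lift m hmp (hme ▸ C.self d hd)
    have e2 := lift m' hmp' (hme' ▸ C.self d hd)
    rw [hm] at e1
    rw [hm'] at e2
    have hs : f ⟨u₀, Subgroup.subset_closure hu₀⟩ = 1 := by
      rw [show (⟨m.prod, hme ▸ C.self d hd⟩ : ↥(PerpGroup D d)) = ⟨m'.prod, hme' ▸ C.self d hd⟩ from
        Subtype.ext (hme.trans hme'.symm), e2, pow_succ, mul_eq_left] at e1
      exact e1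
    rw [eq_top_iff, ← Subgroup.closure_closure_coe_preimage (k := perp D d), Subgroup.closure_le]
    intro x hx
    exact (QuotientGroup.eq_one_iff _).mp ((hconst _ hx).trans hs)
  have key : ∀ L : Subgroup G, L = PerpGroup D d → IsQuasisimple ↥L ∧
      (Subgroup.zpowers d).subgroupOf L = Subgroup.center ↥L ∧ Nonempty (↥L ⧸ Subgroup.center ↥L ≃* PSU 6 F 2) := by
    rintro _ rfl
    haveI := (psu_six h4).1
    exact ⟨⟨hperf, (MulEquiv.isSimpleGroup_congr e).mpr inferInstance⟩, (C.centre d hd).symm, ⟨e⟩⟩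
  obtain ⟨hq, hz, ⟨e'⟩⟩ := key _ (M22.centralizer_eq C hd)
  haveI : ((Subgroup.zpowers d).subgroupOf (M22Recog.CC d)).Normal := by rw [hz]; infer_instance
  obtain ⟨u, hu⟩ := S.perp_ne d hd
  obtain ⟨k, hk⟩ := transitive h hd hu.1
  obtain ⟨K, H⟩ := M22Recog.exists_hyp d (h.1.1 d hd) hq F h4
    ((QuotientGroup.quotientMulEquivOfEq hz).trans e')
    ⟨k, Subgroup.mem_centralizer_singleton_iff.mpr (by rw [hk]; exact hu.2.2.symm.eq), by rw [hk]; exact hu.2.1⟩
  have eD : D = conjugatesOf d := Set.ext fun x => ⟨fun hx => by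
      obtain ⟨r, hr⟩ := transitive h hd hx
      exact isConj_iff.mpr ⟨r, hr⟩, fun hx => by
      obtain ⟨r, rfl⟩ := isConj_iff.mp hx
      exact conj_mem h r hd⟩
  rw [eD]
  exact (M22Recog.type22 H).2

/-- A unitary group below a member gives the reflection group of dimension six or type M(22). -/
theorem unit_case (g : Good D) (S : Setting D) {d : G} (hd : d ∈ D) {F : Type} [Field F] [Fintype F]
    (h4 : Fintype.card F = 4) {n : ℕ} (hn : 4 ≤ n) (τ : PerpQuot D d ≃* PSU n F 2)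
    (hτ : τ '' perpSet D d = U6.roots h4 n) :
    (∃ Q : QuadraticForm (ZMod 3) (Q3.V 6), (QuadraticMap.polarBilin Q).Nondegenerate ∧
      ∃ e : G ≃* RGrp Q 1, e '' D = rset Q 1) ∨ IsOfTypeM22 G D := by
  have hM : ∀ a ∈ D, ∃ τ : PerpQuot D a ≃* PSU n F 2, τ '' perpSet D a = U6.roots h4 n := fun a ha => by
    obtain ⟨σ, hσ⟩ := quot_iso S ha hd
    exact ⟨σ.trans τ, by rw [MulEquiv.coe_trans, Set.image_comp, hσ, hτ]⟩
  rcases (show n = 4 ∨ n = 5 ∨ n = 6 ∨ n = 7 ∨ 8 ≤ n by omega) with rfl | rfl | rfl | rfl | h8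
  · obtain ⟨N⟩ := exists_num h4 (by norm_num) (by norm_num) τ hτ
    obtain ⟨Q, hQ, e, he⟩ := unit_four (good_quot S hd) N
    exact Or.inl (refl_case g S le_rfl hd hQ one_ne_zero e he)
  · refine (unit_five_absurd S (fun a ha => ?_) hd).elim
    obtain ⟨σ, hσ⟩ := hM a ha
    obtain ⟨N⟩ := exists_num h4 (by norm_num) (by norm_num) σ hσ
    exact exists_pnum S ha N
  · exact Or.inr (m22_of_models g S hd fun a ha => by
      obtain ⟨σ, -⟩ := hM a ha
      exact ⟨F, inferInstance, inferInstance, h4, ⟨σ⟩⟩)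
  · exact (unit_seven_absurd S h4 hM rfl g.core.2 hd).elim
  · exact (unit_big_absurd S h4 hM h8 hd).elim

end Cfsg.Agent.Spor.FischerThm
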