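import Cfsg.Agent.Lib.Spor.FischerThm.SymCase
import Cfsg.Agent.Lib.Spor.FischerThm.SpCase
import Cfsg.Agent.Lib.Spor.FischerThm.OrthCase
import Cfsg.Agent.Lib.Spor.FischerThm.ReflCase
import Cfsg.Agent.Lib.Spor.FischerThm.ReflFive
import Cfsg.Agent.Lib.Spor.FischerThm.UnitCase
import Cfsg.Agent.Lib.Spor.FischerThm.MCaseTwentyTwo
import Cfsg.Agent.Lib.Spor.FischerThm.MCaseTwentyThree
import Cfsg.Agent.Lib.Spor.FischerThm.SmallModels

/-! Fischer's induction. -/

set_option autoImplicit false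
set_option linter.style.haveILetI false
set_option linter.unusedSectionVars false

namespace Cfsg.Agent.Spor.FischerThm

open Cfsg Cfsg.Agent.Spor.ThreeTrans Cfsg.Agent.Block.FischerTypes
open scoped commutatorElement

universe u

/-- The conclusions with central local cores. -/
inductive Top (G : Type u) [Group G] (D : Set G) : Prop
  | sym (n : ℕ) (hn : 7 ≤ n) (e : G ≃* Equiv.Perm (Fin n)) (he : e '' D = {σ | σ.IsSwap})
  | oplus (m : ℕ) (hm : 4 ≤ m) (e : G ≃* ↥(isometryGroup (ZMod 2) ⇑(Classical.qfPlus m (ZMod 2))))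
      (he : e '' D = OTwo.tset (Classical.qfPlus m (ZMod 2)))
  | ominus (m : ℕ) (hm : 3 ≤ m) (e : G ≃* ↥(isometryGroup (ZMod 2) ⇑(Classical.qfMinus m (ZMod 2) 1 1)))
      (he : e '' D = OTwo.tset (Classical.qfMinus m (ZMod 2) 1 1))
  | refl (n : ℕ) (hn : 5 ≤ n) (Q : QuadraticForm (ZMod 3) (Q3.V n))
      (hQ : (QuadraticMap.polarBilin Q).Nondegenerate) (c : ZMod 3) (hc : c ≠ 0) (e : G ≃* RGrp Q c)
      (he : e '' D = rset Q c)
  | m22 (h : IsOfTypeM22 G D)
  | m23 (h : IsOfTypeM23 G D)
  | m24 (h : IsOfTypeM24 G D)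

/-- All conclusions of width at least two. -/
inductive Kind (G : Type u) [Group G] (D : Set G) : Prop
  | top (h : Top G D)
  | small (n : ℕ) (hn : 5 ≤ n) (e : G ≃* Equiv.Perm (Fin n)) (he : e '' D = {σ | σ.IsSwap})
  | sp (m : ℕ) (hm : 3 ≤ m) (e : G ≃* Matrix.symplecticGroup (Fin m) (ZMod 2)) (he : e '' D = tvSet m)
  | psu (F : Type) (iF : Field F) (iT : Fintype F) (h4 : Fintype.card F = 4) (n : ℕ) (hn : 4 ≤ n)
      (e : G ≃* PSU n F 2) (he : e '' D = U6.roots h4 n)

theorem Top.of_refl {G : Type u} [Group G] {D : Set G} {n : ℕ} (hn : 5 ≤ n)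
    (h : ∃ Q : QuadraticForm (ZMod 3) (Q3.V n), (QuadraticMap.polarBilin Q).Nondegenerate ∧
      ∃ e : G ≃* RGrp Q 1, e '' D = rset Q 1) : Top G D := by
  obtain ⟨Q, hQ, e, he⟩ := h
  exact .refl n hn Q hQ 1 one_ne_zero e he

variable {G : Type u} [Group G] [Finite G] {D : Set G}

theorem sym_step (g : Good D) (S : Setting D) {d : G} (hd : d ∈ D) {k : ℕ} (hk : 5 ≤ k)
    (τ : PerpQuot D d ≃* Equiv.Perm (Fin k)) (hτ : τ '' perpSet D d = {σ | σ.IsSwap}) : Top G D := by
  obtain ⟨ψ, R⟩ := exists_read S hd τ hτ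
  obtain ⟨c, hc, hdc⟩ := exists_not_commute S.cls (two_of_nc S.hyp) hd
  have hR := rowAdd_sym S R g.core.2 hd τ hτ hk
  rcases sRel_shape S R g.core.2 hd hc hdc τ hτ hk with ⟨w, hw⟩ | ⟨h6, A, hA, hw⟩
  · obtain ⟨e, he⟩ := sym_ident g S R hR hk hd hc hdc hw
    exact .sym (k + 2) (by omega) e he
  · exact Top.of_refl le_rfl (six_ident g S R hR h6 hd hc hdc hA hw)

/-- The kind below a member determines the group. -/
theorem step (g : Good D) (S : Setting D) {d : G} (hd : d ∈ D)
    (K : Kind (PerpQuot D d) (perpSet D d)) : Top G D := by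
  cases K with
  | small n hn e he => exact sym_step g S hd hn e he
  | sp m hm e he =>
    rcases sp_case g S hd hm e he with ⟨τ, hτ⟩ | ⟨τ, hτ⟩
    · exact .oplus (m + 1) (by omega) τ hτ
    · exact .ominus m hm τ hτ
  | psu F iF iT h4 n hn e he =>
    rcases unit_case g S hd h4 hn e he with h | h
    · exact Top.of_refl (by norm_num) h
    · exact .m22 h
  | top h =>
    cases h with
    | sym n hn e he => exact sym_step g S hd (by omega) e he
    | oplus m hm e he => exact (orth_plus_absurd g S hd hm e he).elim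
    | ominus m hm e he => exact (orth_minus_absurd g S hd hm e he).elim
    | refl n hn Q hQ c hc e he =>
      exact Top.of_refl (by omega) (refl_case g S hn hd hQ hc e he)
    | m22 h => exact .m23 (m22_case g S hd h)
    | m23 h => exact .m24 (m23_case g S hd h)
    | m24 h => exact (m24_absurd g S hd h).elim

/-- No solvable normal subgroup. -/
theorem Good.no_solvable (g : Good D) (N : Subgroup G) (hN : N.Normal) (hs : Group.IsSolvable ↥N) :
    N = ⊥ := by
  have h1 : N ⊓ commutator G = ⊥ := g.hyp.solv _ inferInstance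
    (Group.isSolvable_of_isSolvable_injective (f := Subgroup.inclusion inf_le_left)
      (Subgroup.inclusion_injective _)) inf_le_right
  rw [eq_bot_iff, ← g.cen]
  intro n hn
  refine Subgroup.mem_center_iff.mpr fun x => ?_
  have h2 : ⁅x, n⁆ ∈ N ⊓ commutator G := Subgroup.mem_inf.mpr
    ⟨show x * n * x⁻¹ * n⁻¹ ∈ N from mul_mem (hN.conj_mem n hn x) (inv_mem hn),
      Subgroup.commutator_mem_commutator (Subgroup.mem_top x) (Subgroup.mem_top n)⟩
  rw [h1] at h2
  exact commutatorElement_eq_one_iff_mul_comm.mp h2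

/-- A noncentral core below a member gives a symplectic, unitary or the smallest symmetric group. -/
theorem core_kind (g : Good D) {d : G} (hd : d ∈ D)
    (hc : ¬ (pCore 2 ↥(PerpGroup D d) ≤ Subgroup.center ↥(PerpGroup D d) ∧
      pCore 3 ↥(PerpGroup D d) ≤ Subgroup.center ↥(PerpGroup D d))) : Kind G D := by
  by_cases h2 : pCore 2 ↥(PerpGroup D d) ≤ Subgroup.center ↥(PerpGroup D d)
  · have h3 := fun k => hc ⟨h2, k⟩
    obtain ⟨e⟩ := Cfsg.Agent.S1615.result g.no_solvable g.hyp.perf g.cls d hd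
      fun k => h3 (Grp.PolarRec.pCore_three_le_oddCore.trans k)
    exact .small 5 le_rfl e (class_five (Block.FischerTypes.class_image e g.cls))
  · rcases Grp.PolarRec.models (Grp.PolarRec.ctx_of_core g.hyp hd h2) g.cen with
      ⟨m, τ, hm, hτ⟩ | ⟨F, iF, iT, h4, n, τ, hn, hτ⟩
    · by_cases h : m = 2
      · subst h
        obtain ⟨e, he⟩ := sp_four
        exact .small 6 (by norm_num) (τ.trans e)
          (by rw [MulEquiv.coe_trans, Set.image_comp, hτ]; exact he)
      · exact .sp m (by omega) τ hτ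
    · exact .psu F iF iT h4 n hn τ hτ

theorem classify_aux (N : ℕ) : ∀ (G : Type u) [Group G] [Finite G] (D : Set G), Nat.card G < N →
    Good D → Kind G D := by
  induction N with
  | zero => intro G _ _ D h; exact absurd h (Nat.not_lt_zero _)
  | succ N ih =>
    intro G _ _ D hlt g
    obtain ⟨d, hd, -⟩ := g.pair
    by_cases hc : pCore 2 ↥(PerpGroup D d) ≤ Subgroup.center ↥(PerpGroup D d) ∧
        pCore 3 ↥(PerpGroup D d) ≤ Subgroup.center ↥(PerpGroup D d)
    · have S := g.setting hd hc.1 hc.2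
      exact .top (step g S hd (ih _ _ (lt_of_lt_of_le (quot_card_lt S hd) (Nat.lt_succ_iff.mp hlt))
        (good_quot S hd)))
    · exact core_kind g hd hc

/-- Width two or more. -/
theorem classify (g : Good D) : Kind G D := classify_aux _ G D (Nat.lt_succ_self _) g

/-- Central cores below a member exclude the symplectic, unitary and small symmetric groups. -/
theorem classify_top (g : Good D) {d : G} (hd : d ∈ D)
    (h2 : pCore 2 ↥(PerpGroup D d) ≤ Subgroup.center ↥(PerpGroup D d))
    (h3 : pCore 3 ↥(PerpGroup D d) ≤ Subgroup.center ↥(PerpGroup D d)) : Top G D :=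
  have S := g.setting hd h2 h3
  step g S hd (classify (good_quot S hd))

end Cfsg.Agent.Spor.FischerThm
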