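import Mathlib

/-! Hyperbolic blocks over the field of two elements, and functions additive along apart pairs. -/

set_option autoImplicit false

namespace Cfsg.Agent.Spor.FischerThm

theorem two_zero : (2 : ZMod 2) = 0 := rfl

/-- One block. -/
abbrev F22 : Type := ZMod 2 × ZMod 2

/-- A sum of blocks. -/
abbrev Blk (n : ℕ) : Type := Fin n → F22

/-- The alternating form of one block. -/
def bb (p q : F22) : ZMod 2 := p.1 * q.2 + p.2 * q.1

/-- The alternating form. -/
def bF {n : ℕ} (x y : Blk n) : ZMod 2 := ∑ i, bb (x i) (y i)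

/-- The quadratic form of one block, hyperbolic or anisotropic. -/
def qb (t : Bool) (p : F22) : ZMod 2 := p.1 * p.2 + (if t then p.1 + p.2 else 0)

/-- The quadratic form with prescribed block types. -/
def qF {n : ℕ} (τ : Fin n → Bool) (x : Blk n) : ZMod 2 := ∑ i, qb (τ i) (x i)

variable {n : ℕ}

theorem bF_add_left (x y z : Blk n) : bF (x + y) z = bF x z + bF y z := by
  simp only [bF, ← Finset.sum_add_distrib, Pi.add_apply, bb, Prod.fst_add, Prod.snd_add]
  exact Finset.sum_congr rfl fun i _ => by ring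

theorem bF_comm (x y : Blk n) : bF x y = bF y x := by
  simp only [bF, bb]
  exact Finset.sum_congr rfl fun i _ => by ring

theorem bF_add_right (x y z : Blk n) : bF x (y + z) = bF x y + bF x z := by
  rw [bF_comm, bF_add_left, bF_comm y, bF_comm z]

theorem bF_self (x : Blk n) : bF x x = 0 := by
  simp only [bF, bb]
  refine Finset.sum_eq_zero fun i _ => ?_
  have : ∀ p q : ZMod 2, p * q + q * p = 0 := by decide
  exact this _ _

theorem qF_add (τ : Fin n → Bool) (x y : Blk n) : qF τ (x + y) = qF τ x + qF τ y + bF x y := by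
  simp only [qF, bF, ← Finset.sum_add_distrib, Pi.add_apply, qb, bb, Prod.fst_add, Prod.snd_add]
  refine Finset.sum_congr rfl fun i _ => ?_
  cases τ i <;> simp <;> ring

theorem qF_zero (τ : Fin n → Bool) : qF τ (0 : Blk n) = 0 := by
  simp [qF, qb]

theorem bF_single (x : Blk n) (i : Fin n) (p : F22) : bF x (Pi.single i p) = bb (x i) p := by
  rw [bF, Finset.sum_eq_single i]
  · simp
  · intro j _ hj; simp [Pi.single_eq_of_ne hj, bb]
  · simp

theorem qF_single (τ : Fin n → Bool) (i : Fin n) (p : F22) : qF τ (Pi.single i p) = qb (τ i) p := by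
  rw [qF, Finset.sum_eq_single i]
  · simp
  · intro j _ hj; simp [Pi.single_eq_of_ne hj, qb]
  · simp

theorem bF_nondeg {x : Blk n} (h : ∀ y, bF x y = 0) : x = 0 := by
  funext i
  have h1 := h (Pi.single i (1, 0))
  have h2 := h (Pi.single i (0, 1))
  rw [bF_single] at h1 h2
  simp [bb] at h1 h2
  exact Prod.ext h2 h1

theorem bF_zero_left (y : Blk n) : bF (0 : Blk n) y = 0 := by simp [bF, bb]

theorem exists_bF_one {x : Blk n} (hx : x ≠ 0) : ∃ y, bF x y = 1 := by
  by_contra h
  push Not at h
  refine hx (bF_nondeg fun y => ?_)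
  have : ∀ t : ZMod 2, t ≠ 1 → t = 0 := by decide
  exact this _ (h y)

theorem move_dec (p p' : F22) (hp : p ≠ 0) (hp' : p' ≠ 0) (hne : p ≠ p') :
    bb p (p + p') = 1 ∧ p + p' ≠ 0 ∧ p + (p + p') = p' := by
  have h1 : ∀ p q : F22, p ≠ 0 → q ≠ 0 → p ≠ q → bb p (p + q) = 1 ∧ p + q ≠ 0 := by decide
  have h2 : ∀ p q : F22, p + (p + q) = q := by decide
  exact ⟨(h1 p p' hp hp' hne).1, (h1 p p' hp hp' hne).2, h2 p p'⟩

/-- A function additive on apart pairs is linear plus a multiple of the quadratic form. -/
theorem additive_classify (τ : Fin n → Bool) (f : Blk n → ZMod 2)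
    (hf : ∀ x y, bF x y = 1 → f (x + y) = f x + f y) :
    ∃ (w : Blk n) (ε : ZMod 2), ∀ x, x ≠ 0 → f x = bF w x + ε * (1 + qF τ x) := by
  classical
  let u : Fin n → F22 → Blk n := fun i p => Pi.single i p
  have huB : ∀ x i p, bF x (u i p) = bb (x i) p := bF_single
  have huu : ∀ i p q, bF (u i p) (u i q) = bb p q := fun i p q => by rw [huB]; simp [u]
  have huo : ∀ i j p q, i ≠ j → bF (u i p) (u j q) = 0 := fun i j p q h => by
    rw [huB]; simp [u, Pi.single_eq_of_ne h.symm, bb]
  have uadd : ∀ i p q, u i (p + q) = u i p + u i q := fun i p q => funext fun j => by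
    by_cases h : j = i
    · subst h; simp [u]
    · simp [u, Pi.single_eq_of_ne h]
  have char2 : ∀ t : ZMod 2, t + t = 0 := by decide
  -- remove a quadratic form through the double unit vector
  obtain ⟨ε, hε⟩ : ∃ ε : ZMod 2, (∀ i j, i ≠ j →
      f (u i (1, 0) + u j (1, 0)) + f (u i (1, 0)) + f (u j (1, 0)) = ε) := by
    set δ : Fin n → Fin n → ZMod 2 := fun i j => f (u i (1, 0) + u j (1, 0)) + f (u i (1, 0)) + f (u j (1, 0))
    have δs : ∀ i j, δ i j = δ j i := fun i j => by
      simp only [δ, add_comm (u j (1, 0))]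
      ring
    have key : ∀ i j l, i ≠ j → i ≠ l → j ≠ l →
        f (u i (1, 0) + u j (1, 0) + u l (1, 0)) + f (u i (1, 0)) + f (u j (1, 0)) + f (u l (1, 0)) =
          δ i j + δ i l := by
      intro i j l hij hil hjl
      have hP : ∀ j, i ≠ j → f (u i (0, 1) + u j (1, 0)) =
          f (u i (1, 0) + u j (1, 0)) + f (u i (1, 1)) := by
        intro j hij
        have e : u i (0, 1) + u j (1, 0) = (u i (1, 0) + u j (1, 0)) + u i (1, 1) := by
          rw [show ((0, 1) : F22) = (1, 0) + (1, 1) from by decide, uadd]; abel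
        rw [e, hf]
        rw [bF_add_left, huu, huo j i _ _ hij.symm]; rfl
      have hQ : ∀ j, i ≠ j → f (u i (1, 1) + u j (1, 0)) =
          f (u i (1, 0) + u j (1, 0)) + f (u i (0, 1)) := by
        intro j hij
        have e : u i (1, 1) + u j (1, 0) = (u i (1, 0) + u j (1, 0)) + u i (0, 1) := by
          rw [show ((1, 1) : F22) = (1, 0) + (0, 1) from by decide, uadd]; abel
        rw [e, hf]
        rw [bF_add_left, huu, huo j i _ _ hij.symm]; rfl
      have h3 : f (u i (1, 1)) = f (u i (1, 0)) + f (u i (0, 1)) := by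
        rw [show ((1, 1) : F22) = (1, 0) + (0, 1) from by decide, uadd, hf _ _ (by rw [huu]; rfl)]
      have e : u i (1, 0) + u j (1, 0) + u l (1, 0) =
          (u i (0, 1) + u j (1, 0)) + (u i (1, 1) + u l (1, 0)) := by
        rw [show ((1, 0) : F22) = (0, 1) + (1, 1) from by decide, uadd i]
        abel
      rw [e, hf _ _ (by
        rw [bF_add_left, bF_add_right, bF_add_right, huu, huo i l _ _ hil, huo j i _ _ hij.symm,
          huo j l _ _ hjl]; rfl), hP j hij, hQ l hil, h3]
      simp only [δ]
      linear_combination (f (u i (0, 1))) * two_zero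
    have tri : ∀ i j l, i ≠ j → i ≠ l → j ≠ l → δ i l = δ j l := by
      intro i j l hij hil hjl
      have h1 := key i j l hij hil hjl
      have h2 := key j i l hij.symm hjl hil
      rw [add_comm (u j (1, 0)) (u i (1, 0)), δs j i] at h2
      linear_combination h2 - h1
    by_cases hn : ∃ a b : Fin n, a ≠ b
    · obtain ⟨a, b, hab⟩ := hn
      refine ⟨δ a b, fun i j hij => ?_⟩
      show δ i j = δ a b
      by_cases hja : j = a
      · subst hja
        by_cases hib : i = b
        · rw [hib]; exact δs _ _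
        · exact (tri i b j hib hij hab.symm).trans (δs _ _)
      · by_cases hia : i = a
        · subst hia
          by_cases hjb : j = b
          · rw [hjb]
          · exact (δs _ _).trans ((tri j b i hjb hij.symm hab.symm).trans (δs _ _))
        · rw [tri i a j hia hij (Ne.symm hja)]
          by_cases hjb : j = b
          · rw [hjb]
          · exact (δs _ _).trans ((tri j b a hjb hja hab.symm).trans (δs _ _))
    · exact ⟨0, fun i j hij => absurd ⟨i, j, hij⟩ hn⟩
  let w : Blk n := fun i =>
    (f (u i (0, 1)) + ε * (1 + qb (τ i) (0, 1)), f (u i (1, 0)) + ε * (1 + qb (τ i) (1, 0)))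
  refine ⟨w, ε, ?_⟩
  let g : Blk n → ZMod 2 := fun x => f x + bF w x + ε * (1 + qF τ x)
  suffices hg : ∀ x, x ≠ 0 → g x = 0 by
    intro x hx
    have h := hg x hx
    simp only [g] at h
    linear_combination h - (bF w x + ε * (1 + qF τ x)) * two_zero
  have gadd : ∀ x y, bF x y = 1 → g (x + y) = g x + g y := by
    intro x y h
    simp only [g, hf x y h, bF_add_right, qF_add, h]
    ring
  have g10 : ∀ i, g (u i (1, 0)) = 0 := fun i => by
    simp only [g, huB, w, bb, u, qF_single]
    linear_combination (f (Pi.single i (1, 0)) + ε * (1 + qb (τ i) (1, 0))) * two_zero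
  have g01 : ∀ i, g (u i (0, 1)) = 0 := fun i => by
    simp only [g, huB, w, bb, u, qF_single]
    linear_combination (f (Pi.single i (0, 1)) + ε * (1 + qb (τ i) (0, 1))) * two_zero
  have g1 : ∀ i p, p ≠ 0 → g (u i p) = 0 := by
    intro i p hp
    have : ∀ p : F22, p = 0 ∨ p = (1, 0) ∨ p = (0, 1) ∨ p = (1, 0) + (0, 1) := by decide
    rcases this p with rfl | rfl | rfl | rfl
    · exact absurd rfl hp
    · exact g10 i
    · exact g01 i
    · rw [uadd, gadd _ _ (by rw [huu]; rfl), g10, g01, add_zero]
  have gmove : ∀ i p p' z, p ≠ 0 → p' ≠ 0 → z i = 0 → g (u i p + z) = g (u i p' + z) := by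
    intro i p p' z hp hp' hz
    by_cases e : p = p'
    · rw [e]
    obtain ⟨h1, h2, h3⟩ := move_dec p p' hp hp' e
    have : u i p' + z = (u i p + z) + u i (p + p') := by
      conv_lhs => rw [← h3, uadd]
      abel
    have hb : bF (u i p + z) (u i (p + p')) = 1 := by
      rw [huB]; simp [u, hz, h1]
    rw [this, gadd _ _ hb, g1 i _ h2, add_zero]
  have g2 : ∀ i j p q, i ≠ j → p ≠ 0 → q ≠ 0 → g (u i p + u j q) = 0 := by
    intro i j p q hij hp hq
    rw [gmove i p (1, 0) _ hp (by decide) (Pi.single_eq_of_ne hij q), add_comm,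
      gmove j q (1, 0) _ hq (by decide) (Pi.single_eq_of_ne hij.symm _), add_comm]
    have h := hε i j hij
    have a1 := g10 i
    have a2 := g10 j
    simp only [g, bF_add_right, qF_add, huo i j _ _ hij] at a1 a2 ⊢
    linear_combination h + a1 + a2 - (f (u i (1, 0)) + f (u j (1, 0))) * two_zero + ε * huo i j (1, 0) (1, 0) hij
  intro x hx
  induction hc : (Finset.univ.filter fun i => x i ≠ 0).card using Nat.strong_induction_on generalizing x with
  | _ c ih =>
    obtain ⟨i, hi⟩ : ∃ i, x i ≠ 0 := by
      by_contra h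
      push Not at h
      exact hx (funext h)
    set r := x - u i (x i) with hr
    have hxe : x = u i (x i) + r := by rw [hr]; abel
    have hri : r i = 0 := by simp [hr, u]
    by_cases hr0 : r = 0
    · rw [hxe, hr0, add_zero]; exact g1 i _ hi
    obtain ⟨j, hj⟩ : ∃ j, r j ≠ 0 := by
      by_contra h
      push Not at h
      exact hr0 (funext h)
    have hij : i ≠ j := fun e => hj (e ▸ hri)
    have hrj : r j = x j := by simp [hr, u, Pi.single_eq_of_ne hij.symm]
    set s := r - u j (x j) with hs
    have hre : r = u j (x j) + s := by rw [hs]; abel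
    have hsi : s i = 0 := by simp [hs, u, hri, Pi.single_eq_of_ne hij]
    have hsj : s j = 0 := by simp [hs, u, hrj]
    by_cases hs0 : s = 0
    · rw [hxe, hre, hs0, add_zero]; exact g2 i j _ _ hij hi (hrj ▸ hj)
    obtain ⟨a, b, hab, ha, hb, habx⟩ : ∃ a b : F22, bb a b = 1 ∧ a ≠ 0 ∧ b ≠ 0 ∧ a + b = x i := by
      have : ∀ t : F22, t ≠ 0 → ∃ a b : F22, bb a b = 1 ∧ a ≠ 0 ∧ b ≠ 0 ∧ a + b = t := by decide
      exact this _ hi
    have e : x = (u i a + u j (x j)) + (u i b + s) := by
      conv_lhs => rw [hxe, hre, ← habx, uadd]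
      abel
    have hbb : bF (u i a + u j (x j)) (u i b + s) = 1 := by
      rw [bF_add_left, bF_add_right, bF_add_right, huu, huo j i _ _ hij.symm, bF_comm (u i a) s,
        bF_comm (u j (x j)) s, huB, huB, hsi, hsj, hab]
      simp [bb]
    rw [e, gadd _ _ hbb, g2 i j _ _ hij ha (hrj ▸ hj), zero_add]
    refine ih _ ?_ _ (fun e0 => hb ?_) rfl
    · rw [← hc]
      refine Finset.card_lt_card ⟨fun l hl => ?_, fun hsub => ?_⟩
      · simp only [Finset.mem_filter, Finset.mem_univ, true_and] at hl ⊢
        by_cases hli : l = i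
        · exact hli ▸ hi
        · have hsl : s l ≠ 0 := by simpa [u, Pi.single_eq_of_ne hli] using hl
          by_cases hlj : l = j
          · exact absurd (hlj ▸ hsj) hsl
          · simpa [hs, hr, u, Pi.single_eq_of_ne hli, Pi.single_eq_of_ne hlj] using hsl
      · have := hsub (show j ∈ Finset.univ.filter fun l => x l ≠ 0 from by
          simp [← hrj, hj])
        simp [u, Pi.single_eq_of_ne hij.symm, hsj] at this
    · have := congrFun e0 i
      simpa [u, hsi] using this

end Cfsg.Agent.Spor.FischerThm
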