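import Cfsg.Agent.Lib.Spor.SympClassTwo
import Cfsg.Agent.Lib.Spor.FischerThm.Blocks
import Cfsg.Agent.Lib.Spor.FischerThm.Ident

/-! Symplectic transvections read in block coordinates. -/

set_option autoImplicit false
set_option linter.style.haveILetI false
set_option linter.unusedSectionVars false

namespace Cfsg.Agent.Spor.FischerThm

open Cfsg Cfsg.Agent.Spor.ThreeTrans Cfsg.Agent.Block.FischerTypes Matrix
open Cfsg.Agent.Spor.SympTwo (tv)

variable {m : ℕ}

/-- Block coordinates. -/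
def toB (x : Fin m ⊕ Fin m → ZMod 2) : Blk m := fun i => (x (.inl i), x (.inr i))

/-- Plain coordinates. -/
def ofB (x : Blk m) : Fin m ⊕ Fin m → ZMod 2 := Sum.elim (fun i => (x i).1) (fun i => (x i).2)

theorem toB_ofB (x : Blk m) : toB (ofB x) = x := rfl

theorem ofB_toB (x : Fin m ⊕ Fin m → ZMod 2) : ofB (toB x) = x := by
  funext s; cases s <;> rfl

theorem sympForm_toB (x y : Fin m ⊕ Fin m → ZMod 2) : sympForm m (ZMod 2) x y = bF (toB x) (toB y) := by
  simp only [sympForm, bF, bb, toB, dotProduct, Matrix.mulVec, Matrix.J, Matrix.fromBlocks,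
    Fintype.sum_sum_type, Matrix.of_apply, Sum.elim_inl, Sum.elim_inr, Matrix.zero_apply, zero_mul,
    Finset.sum_const_zero, zero_add, add_zero, Matrix.neg_apply, Matrix.one_apply,
    SympTwo.self_neg_two, ite_mul, one_mul, Finset.sum_ite_eq, Finset.mem_univ, if_true,
    ← Finset.sum_add_distrib]

theorem qF_false (x : Blk m) : qF (fun _ => false) x = ∑ i, (x i).1 * (x i).2 := by simp [qF, qb]

/-- The transvection of a block vector. -/
noncomputable def tb (x : Blk m) : Matrix.symplecticGroup (Fin m) (ZMod 2) := tv (ofB x)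

/-- The transvections. -/
def tvSet (m : ℕ) : Set (Matrix.symplecticGroup (Fin m) (ZMod 2)) := {g | ∃ v, v ≠ 0 ∧ g = tv v}

theorem ofB_ne {x : Blk m} (hx : x ≠ 0) : ofB x ≠ 0 := fun e => hx (by
  rw [← toB_ofB x, e]; rfl)

theorem tb_mem {x : Blk m} (hx : x ≠ 0) : tb x ∈ tvSet m := ⟨_, ofB_ne hx, rfl⟩

theorem exists_tb {g : Matrix.symplecticGroup (Fin m) (ZMod 2)} (hg : g ∈ tvSet m) :
    ∃ x : Blk m, x ≠ 0 ∧ g = tb x := by
  obtain ⟨v, hv, rfl⟩ := hg
  exact ⟨toB v, fun e => hv (by rw [← ofB_toB v, e]; funext s; cases s <;> rfl), by rw [tb, ofB_toB]⟩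

theorem tb_inj {x y : Blk m} (hx : x ≠ 0) (e : tb x = tb y) : x = y := by
  rw [← toB_ofB x, SympTwo.tv_injective (ofB_ne hx) e, toB_ofB]

theorem tb_commute {x y : Blk m} (hx : x ≠ 0) (hy : y ≠ 0) : Commute (tb x) (tb y) ↔ bF x y = 0 := by
  rw [tb, tb, SympTwo.commute_iff (ofB_ne hx) (ofB_ne hy), sympForm_toB, toB_ofB, toB_ofB, bF_comm]

theorem tb_conj {x y : Blk m} (h : bF x y = 1) : tb x * tb y * tb x = tb (x + y) := by
  have hi : (tv (ofB x))⁻¹ = tv (ofB x) := inv_eq_of_mul_eq_one_right (SympTwo.tv_mul_self _)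
  have := SympTwo.tv_conj_tv (ofB x) (ofB y)
  rw [hi, sympForm_toB, toB_ofB, toB_ofB, bF_comm, h, one_smul] at this
  rw [tb, tb, tb, this, show ofB (x + y) = ofB y + ofB x from by
    funext s; cases s <;> simp [ofB, add_comm]]

theorem one_of_ne_zero {t : ZMod 2} (h : t ≠ 0) : t = 1 := SympTwo.eq_one_two t h

theorem rowAdd_tvSet : RowAdd (tvSet m) := by
  intro a ha b hb hab f hf h1 h2
  obtain ⟨x, hx, rfl⟩ := exists_tb ha
  obtain ⟨y, hy, rfl⟩ := exists_tb hb
  obtain ⟨z, hz, rfl⟩ := exists_tb hf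
  rw [tb_commute hx hy] at hab
  rw [tb_commute hz hx] at h1
  rw [tb_commute hz hy] at h2
  have hxy : x + y ≠ 0 := fun e => hab (by
    rw [eq_neg_of_add_eq_zero_left e, show -y = y from funext fun i => Prod.ext
      (SympTwo.self_neg_two _) (SympTwo.self_neg_two _), bF_self])
  rw [tb_conj (one_of_ne_zero hab), tb_commute hz hxy, bF_add_right, one_of_ne_zero h1, one_of_ne_zero h2]
  rfl

/-- An involution without fixed points makes a finite set even. -/
theorem even_card_of_invol {α : Type*} (s : Finset α) (φ : α → α) (h1 : ∀ a ∈ s, φ a ∈ s)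
    (h2 : ∀ a ∈ s, φ (φ a) = a) (h3 : ∀ a ∈ s, φ a ≠ a) : Even s.card := by
  classical
  have h : ∑ _a ∈ s, (1 : ZMod 2) = 0 :=
    Finset.sum_involution (fun a _ => φ a) (fun _ _ => rfl) (fun a ha _ => h3 a ha) h1 h2
  rw [Finset.sum_const, nsmul_eq_mul, mul_one] at h
  exact ZMod.natCast_eq_zero_iff_even.mp h

end Cfsg.Agent.Spor.FischerThm
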