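import Cfsg.Agent.Lib.Spor.FischerThm.ReflSpace
import Cfsg.Agent.Lib.Fus.ThreeA.Refl
import Cfsg.Agent.Lib.Spor.FischerThm.Ident

/-! Projective reflection classes over the field of three elements, read in vectors of norm one. -/

set_option autoImplicit false
set_option linter.style.haveILetI false
set_option linter.unusedSectionVars false

namespace Cfsg.Agent.Spor.FischerThm

open Cfsg Matrix Cfsg.Agent.Spor.ThreeTrans
open Cfsg.Agent.Spor.ThreeTrans renaming mul_self → dsq
open Cfsg.Agent.Block.FischerTypes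

set_option maxHeartbeats 400000

variable {n : ℕ}

/-- A class read in the vectors of norm one of a quadratic space. -/
structure RModel {X : Type*} [Group X] (E : Set X) (Q : QuadraticForm (ZMod 3) (Q3.V n))
    (pv : Q3.V n → X) : Prop where
  nd : (QuadraticMap.polarBilin Q).Nondegenerate
  cls : IsThreeTranspositionClass E
  mem : ∀ x, Q x = 1 → pv x ∈ E
  surj : ∀ T ∈ E, ∃ x, Q x = 1 ∧ T = pv x
  inj : ∀ x y, Q x = 1 → Q y = 1 → pv x = pv y → x = y ∨ x = -y
  neg : ∀ x, pv (-x) = pv x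
  comm : ∀ x y, Q x = 1 → Q y = 1 → (Commute (pv x) (pv y) ↔ Q3.B Q x y = 0 ∨ pv x = pv y)
  conj : ∀ x y, Q x = 1 → Q y = 1 → pv x * pv y * pv x = pv (y - Q3.B Q x y • x)

theorem RModel.q_move {X : Type*} [Group X] {E : Set X} {Q : QuadraticForm (ZMod 3) (Q3.V n)}
    {pv : Q3.V n → X} (_R : RModel E Q pv) {x y : Q3.V n} (hx : Q x = 1) (hy : Q y = 1) :
    Q (y - Q3.B Q x y • x) = 1 := by
  rw [sub_eq_add_neg, ← neg_smul, Q3.q_add_smul, hx, hy, Q3.B_comm Q y x]
  ring

/-- An isomorphism carries a model. -/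
theorem RModel.map {X Y : Type*} [Group X] [Group Y] {E : Set X} {Q : QuadraticForm (ZMod 3) (Q3.V n)}
    {pv : Q3.V n → X} (R : RModel E Q pv) (τ : X ≃* Y) {E' : Set Y} (hE' : IsThreeTranspositionClass E')
    (he : τ '' E = E') : RModel E' Q (fun x => τ (pv x)) where
  nd := R.nd
  cls := hE'
  mem x hx := he ▸ ⟨_, R.mem x hx, rfl⟩
  surj T hT := by
    rw [← he] at hT
    obtain ⟨S, hS, rfl⟩ := hT
    obtain ⟨x, hx, rfl⟩ := R.surj S hS
    exact ⟨x, hx, rfl⟩
  inj x y hx hy e := R.inj x y hx hy (τ.injective e)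
  neg x := congrArg τ (R.neg x)
  comm x y hx hy := by
    rw [τ.injective.eq_iff, ← R.comm x y hx hy]
    exact ⟨fun k => by simpa using k.map τ.symm, fun k => k.map τ⟩
  conj x y hx hy := by rw [← map_mul, ← map_mul, R.conj x y hx hy]

/-- The projective reflection group of a norm. -/
abbrev RGrp (Q : QuadraticForm (ZMod 3) (Q3.V n)) (c : ZMod 3) : Type :=
  ↥(reflectionSubgroup (⇑Q) c) ⧸ Subgroup.center ↥(reflectionSubgroup (⇑Q) c)

/-- Its reflections. -/
abbrev rset (Q : QuadraticForm (ZMod 3) (Q3.V n)) (c : ZMod 3) : Set (RGrp Q c) :=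
  (QuotientGroup.mk : ↥(reflectionSubgroup (⇑Q) c) → _) ''
    {g : ↥(reflectionSubgroup (⇑Q) c) | (g : ↥(isometryGroup (ZMod 3) (⇑Q))) ∈ reflectionsOfNorm (⇑Q) c}

/-- The reflection of a vector of the norm. -/
theorem exists_refl (Q : QuadraticForm (ZMod 3) (Q3.V n)) {c : ZMod 3} (hc : c ≠ 0) {v : Q3.V n}
    (hv : Q v = c) : ∃ r : ↥(reflectionSubgroup (⇑Q) c),
      (r : ↥(isometryGroup (ZMod 3) (⇑Q))) ∈ reflectionsOfNorm (⇑Q) c ∧
        Fus.ThreeA.Refl.mat r = reflectionMatrix ⇑Q v := by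
  have hv0 : Q v ≠ 0 := hv ▸ hc
  let r := Classical.mkIsometry (Q := ⇑Q) (reflectionMatrix ⇑Q v)
    (by rw [Classical.det_reflection Q hv0]; decide) (Classical.reflection_preserves Q hv0)
  exact ⟨⟨r, Subgroup.subset_closure ⟨v, hv, rfl⟩⟩, ⟨v, hv, rfl⟩, rfl⟩

theorem eq_or_neg_of_refl {Q : QuadraticForm (ZMod 3) (Q3.V n)} {c : ZMod 3} (hc : c ≠ 0)
    {u v : Q3.V n} (hu : Q u = c) (h : reflectionMatrix ⇑Q u = reflectionMatrix ⇑Q v) :
    u = v ∨ u = -v := by
  have h' := congrArg (fun M => M *ᵥ u) h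
  simp only [Classical.reflectionMatrix_mulVec, QuadraticMap.polar_self, hu, two_nsmul] at h'
  have key : ∀ c : ZMod 3, c ≠ 0 → c * (c + c) = -1 := by decide
  rw [inv_eq_of_mul_eq_one_left (ReflThree.three_cases c hc), key c hc] at h'
  refine Q3.smul_cases (fun e => hc (by rw [← hu, e, QuadraticMap.map_zero]))
    (-((Q v)⁻¹ * QuadraticMap.polar (⇑Q) v u)) ?_
  funext i
  have hi := congrFun h' i
  simp only [Pi.sub_apply, Pi.smul_apply, smul_eq_mul] at hi ⊢
  linear_combination hi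

/-- The projective reflection class is a model of the scaled form. -/
theorem rmodel_of_refl (hn : 5 ≤ n) (Q : QuadraticForm (ZMod 3) (Q3.V n))
    (hQ : (QuadraticMap.polarBilin Q).Nondegenerate) {c : ZMod 3} (hc : c ≠ 0) :
    (∃ pv, RModel (rset Q c) (c • Q) pv) ∧ Subgroup.center (RGrp Q c) = ⊥ := by
  classical
  have hR := ReflThree.reflection_class n (by omega) Q hQ c hc
  set R := ↥(reflectionSubgroup (⇑Q) c)
  set D : Set R := {g | (g : ↥(isometryGroup (ZMod 3) (⇑Q))) ∈ reflectionsOfNorm (⇑Q) c}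
  have hcc : c * c = 1 := ReflThree.three_cases c hc
  have q1 : ∀ x, (c • Q) x = 1 ↔ Q x = c := fun x => by
    rw [_root_.QuadraticMap.smul_apply, smul_eq_mul]
    exact ⟨fun e => by linear_combination c * e - Q x * hcc, fun e => by rw [e, hcc]⟩
  have hB : ∀ x y, Q3.B (c • Q) x y = c * Q3.B Q x y := fun x y => by
    simp only [Q3.B, QuadraticMap.polar, _root_.QuadraticMap.smul_apply, smul_eq_mul]; ring
  let rf : Q3.V n → R := fun x => if h : Q x = c then (exists_refl Q hc h).choose else 1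
  have hrf : ∀ x, Q x = c → rf x ∈ D ∧ Fus.ThreeA.Refl.mat (rf x) = reflectionMatrix ⇑Q x := fun x hx => by
    simp only [rf, dif_pos hx]; exact (exists_refl Q hc hx).choose_spec
  have rf_eq : ∀ g ∈ D, ∃ x, Q x = c ∧ g = rf x := fun g ⟨x, hx, e⟩ =>
    ⟨x, hx, Fus.ThreeA.Refl.mat_inj (e.trans (hrf x hx).2.symm)⟩
  -- commutation
  have cm : ∀ u v, Q u = c → Q v = c → (Commute (rf u) (rf v) ↔ Q3.B Q u v = 0 ∨ rf u = rf v) := by
    intro u v hu hv
    by_cases e : v = u ∨ v = -u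
    · have : rf u = rf v := by
        refine Fus.ThreeA.Refl.mat_inj ?_
        rw [(hrf u hu).2, (hrf v hv).2]
        rcases e with rfl | rfl
        · rfl
        · rw [← neg_one_smul (ZMod 3) u, ReflThree.reflection_smul Q (by decide)]
      rw [this]
      exact iff_of_true (Commute.refl _) (Or.inr rfl)
    obtain ⟨h1, h1'⟩ := not_or.mp e
    have hne : rf u ≠ rf v := fun k => by
      have := eq_or_neg_of_refl (u := v) (v := u) hc hv (by rw [← (hrf v hv).2, ← k, (hrf u hu).2])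
      exact e this
    rw [or_iff_left hne]
    refine Iff.trans ?_ (S5358.result n Q hQ u v (hu ▸ hc) (hu.trans hv.symm) h1 h1')
    rw [← (hrf u hu).2, ← (hrf v hv).2]
    exact ⟨fun k => congrArg Fus.ThreeA.Refl.mat k, fun k => Fus.ThreeA.Refl.mat_inj k⟩
  -- equal modulo the centre means equal
  have sepz : ∀ u v, Q u = c → Q v = c → ∀ z ∈ Subgroup.center R, rf u = rf v * z → rf u = rf v := by
    intro u v hu hv z hz e
    by_contra hne
    have hv' : v ≠ u ∧ v ≠ -u := by
      constructor <;> rintro rfl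
      · exact hne rfl
      · exact hne (Fus.ThreeA.Refl.mat_inj (by
          rw [(hrf u hu).2, (hrf _ hv).2, ← neg_one_smul (ZMod 3) u, ReflThree.reflection_smul Q (by decide)]))
    obtain ⟨w, hw, b1, b2, w1, w2⟩ := ReflThree.exists_sep hQ hn hc hu hv hv'.1 hv'.2
    have k : Commute (rf u) (rf w) := (cm u w hu hw).mpr (Or.inl b1)
    have k' : Commute (rf v) (rf w) := by
      have hz' : Commute z⁻¹ (rf w) := ((Subgroup.mem_center_iff.mp (inv_mem hz) (rf w))).symm
      rw [show rf v = rf u * z⁻¹ by rw [e, mul_inv_cancel_right]]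
      exact k.mul_left hz'
    rcases (cm v w hv hw).mp k' with h0 | h0
    · exact b2 h0
    · exact (eq_or_neg_of_refl hc hw (by rw [← (hrf w hw).2, ← h0, (hrf v hv).2])).elim w1 w2
  have qinj : ∀ a ∈ D, ∀ b ∈ D, (QuotientGroup.mk a : RGrp Q c) = QuotientGroup.mk b → a = b := by
    intro a ha b hb k
    obtain ⟨u, hu, rfl⟩ := rf_eq a ha
    obtain ⟨v, hv, rfl⟩ := rf_eq b hb
    exact sepz u v hu hv ((rf v)⁻¹ * rf u) (QuotientGroup.eq.mp k.symm) (mul_inv_cancel_left _ _).symm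
  have qcomm : ∀ a ∈ D, ∀ b ∈ D, Commute (QuotientGroup.mk a : RGrp Q c) (QuotientGroup.mk b) → Commute a b := by
    intro a ha b hb k
    have e : a * b * a⁻¹ = b := qinj _ (conj_mem hR a hb) b hb (by
      rw [QuotientGroup.mk_mul, QuotientGroup.mk_mul, QuotientGroup.mk_inv, k.eq, mul_inv_cancel_right])
    exact mul_inv_eq_iff_eq_mul.mp e
  have hne1 : ∀ a ∈ D, (QuotientGroup.mk a : RGrp Q c) ≠ 1 := fun a ha k => by
    have hz := (QuotientGroup.eq_one_iff a).mp k
    obtain ⟨b, hb, hab⟩ : ∃ b ∈ D, ¬ Commute a b := by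
      obtain ⟨u, hu, rfl⟩ := rf_eq a ha
      obtain ⟨z, hz⟩ := ReflThree.exists_norm_perp hQ hc (k := 1) (by omega) (fun _ => u) (fun _ => hu ▸ hc)
        fun i j k => absurd (Subsingleton.elim i j) k
      have hzu : z ≠ u ∧ z ≠ -u := by
        have two : ∀ c : ZMod 3, c ≠ 0 → 2 * c ≠ 0 := by decide
        constructor <;> rintro rfl
        · exact two c hc (by rw [← hu, ← Q3.B_self, ← hz.2 0])
        · have := hz.2 0
          rw [QuadraticMap.polar_neg_right, neg_eq_zero] at this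
          exact two c hc (by rw [← hu, ← Q3.B_self]; exact this)
      obtain ⟨w, hw, -, b2, w1, w2⟩ := ReflThree.exists_sep hQ hn hc hz.1 hu (fun e => hzu.1 e.symm)
        (fun e => hzu.2 (by rw [e, neg_neg]))
      refine ⟨rf w, (hrf w hw).1, fun kk => ?_⟩
      rcases (cm u w hu hw).mp kk with h0 | h0
      · exact b2 h0
      · exact (eq_or_neg_of_refl hc hw (by rw [← (hrf w hw).2, ← h0, (hrf u hu).2])).elim w1 w2
    exact hab (Subgroup.mem_center_iff.mp hz b).symm
  have hgen : Subgroup.closure (rset Q c) = ⊤ := by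
    show Subgroup.closure (QuotientGroup.mk' (Subgroup.center R) '' D) = ⊤
    rw [← MonoidHom.map_closure, hR.2.2, ← MonoidHom.range_eq_map,
      MonoidHom.range_eq_top.mpr (QuotientGroup.mk'_surjective _)]
  have hcls : IsThreeTranspositionClass (rset Q c) := by
    refine ⟨⟨?_, ?_⟩, ?_, hgen⟩
    · rintro _ ⟨a, ha, rfl⟩
      refine orderOf_eq_prime ?_ (hne1 a ha)
      rw [← QuotientGroup.mk_pow, show a ^ 2 = 1 by rw [pow_two, dsq hR.1 ha]]
      rfl
    · rintro _ ⟨a, ha, rfl⟩ _ ⟨b, hb, rfl⟩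
      rcases hR.1.2 a ha b hb with e | e
      · left; rw [← QuotientGroup.mk_mul, ← QuotientGroup.mk_pow, e]; rfl
      · right; rw [← QuotientGroup.mk_mul, ← QuotientGroup.mk_pow, e]; rfl
    · obtain ⟨a, ha, e⟩ := hR.2.1
      refine ⟨_, ⟨a, ha, rfl⟩, Set.ext fun T => ⟨?_, ?_⟩⟩
      · rintro ⟨b, hb, rfl⟩
        obtain ⟨g, rfl⟩ := transitive hR ha hb
        exact isConj_iff.mpr ⟨QuotientGroup.mk g, by
          rw [QuotientGroup.mk_mul, QuotientGroup.mk_mul, QuotientGroup.mk_inv]⟩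
      · intro hT
        obtain ⟨q, rfl⟩ := isConj_iff.mp hT
        induction q using QuotientGroup.induction_on with
        | H g => exact ⟨_, conj_mem hR g ha, by rw [QuotientGroup.mk_mul, QuotientGroup.mk_mul, QuotientGroup.mk_inv]⟩
  refine ⟨⟨fun x => QuotientGroup.mk (rf x), ?_, hcls, fun x hx => ⟨_, (hrf x ((q1 x).mp hx)).1, rfl⟩, ?_, ?_,
    ?_, ?_, ?_⟩, ?_⟩
  · refine ⟨fun x hx => hQ.1 x fun y => ?_, fun y hy => hQ.2 y fun x => ?_⟩
    · have := hx y
      change Q3.B (c • Q) x y = 0 at this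
      rw [hB] at this
      exact (mul_eq_zero.mp this).resolve_left hc
    · have := hy x
      change Q3.B (c • Q) x y = 0 at this
      rw [hB] at this
      exact (mul_eq_zero.mp this).resolve_left hc
  · rintro _ ⟨a, ha, rfl⟩
    obtain ⟨x, hx, rfl⟩ := rf_eq a ha
    exact ⟨x, (q1 x).mpr hx, rfl⟩
  · intro x y hx hy e
    have := qinj _ (hrf x ((q1 x).mp hx)).1 _ (hrf y ((q1 y).mp hy)).1 e
    exact eq_or_neg_of_refl hc ((q1 x).mp hx)
      (by rw [← (hrf x ((q1 x).mp hx)).2, this, (hrf y ((q1 y).mp hy)).2])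
  · intro x
    show (QuotientGroup.mk (rf (-x)) : RGrp Q c) = QuotientGroup.mk (rf x)
    congr 1
    by_cases hx : Q x = c
    · refine Fus.ThreeA.Refl.mat_inj ?_
      rw [(hrf x hx).2, (hrf _ (by rw [Q3.q_neg, hx])).2, ← neg_one_smul (ZMod 3) x,
        ReflThree.reflection_smul Q (by decide)]
    · simp only [rf, dif_neg hx, Q3.q_neg, dite_false]
  · intro x y hx hy
    rw [hB, mul_eq_zero, or_iff_right hc]
    have a := (hrf x ((q1 x).mp hx)).1
    have b := (hrf y ((q1 y).mp hy)).1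
    constructor
    · intro k
      rcases (cm x y ((q1 x).mp hx) ((q1 y).mp hy)).mp (qcomm _ a _ b k) with h0 | h0
      · exact Or.inl h0
      · exact Or.inr (congrArg QuotientGroup.mk h0)
    · rintro (h0 | h0)
      · exact ((cm x y ((q1 x).mp hx) ((q1 y).mp hy)).mpr (Or.inl h0)).map (QuotientGroup.mk' _)
      · rw [h0]
  · intro x y hx hy
    have hx' := (q1 x).mp hx
    have hy' := (q1 y).mp hy
    have hm : Q (y - Q3.B (c • Q) x y • x) = c := by
      rw [hB, sub_eq_add_neg, ← neg_smul, Q3.q_add_smul, hx', hy', Q3.B_comm Q y x]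
      linear_combination (c * Q3.B Q x y * Q3.B Q x y) * hcc
    rw [← QuotientGroup.mk_mul, ← QuotientGroup.mk_mul]
    congr 1
    refine Fus.ThreeA.Refl.mat_inj ?_
    rw [(hrf _ hm).2]
    have hi : (rf x)⁻¹ = rf x := inv_eq hR.1 (hrf x hx').1
    conv_lhs => rw [show rf x * rf y * rf x = rf x * rf y * (rf x)⁻¹ by rw [hi]]
    show (((((rf x : R) : ↥(isometryGroup (ZMod 3) (⇑Q))) * (rf y : R) * ((rf x : R) : ↥(isometryGroup (ZMod 3) (⇑Q)))⁻¹ :
      ↥(isometryGroup (ZMod 3) (⇑Q))) : GL (Fin n) (ZMod 3)) : Matrix (Fin n) (Fin n) (ZMod 3)) = _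
    rw [ReflThree.coe_conj (hrf y hy').2,
      show (((rf x : R) : ↥(isometryGroup (ZMod 3) (⇑Q))) : GL (Fin n) (ZMod 3)).1 = reflectionMatrix ⇑Q x from (hrf x hx').2,
      Classical.reflectionMatrix_mulVec, hx', hB]
    congr 3
    show c⁻¹ * Q3.B Q x y = c * Q3.B Q x y
    congr 1
    exact inv_eq_of_mul_eq_one_left hcc
  · refine eq_bot_iff.mpr fun q hq => Subgroup.mem_bot.mpr ?_
    induction q using QuotientGroup.induction_on with
    | H g =>
      refine (QuotientGroup.eq_one_iff g).mpr (Subgroup.mem_center_iff.mpr fun x => ?_)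
      have hfix : ∀ a ∈ D, Commute a g := fun a ha => by
        have e : g * a * g⁻¹ = a := qinj _ (conj_mem hR g ha) a ha (by
          rw [QuotientGroup.mk_mul, QuotientGroup.mk_mul, QuotientGroup.mk_inv,
            ← Subgroup.mem_center_iff.mp hq (QuotientGroup.mk a), mul_inv_cancel_right])
        exact (mul_inv_eq_iff_eq_mul.mp e).symm
      have hxm : x ∈ Subgroup.closure D := by rw [hR.2.2]; exact Subgroup.mem_top x
      have hle : Subgroup.closure D ≤ Subgroup.centralizer {g} := (Subgroup.closure_le _).mpr fun a ha =>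
        Subgroup.mem_centralizer_singleton_iff.mpr (hfix a ha).eq
      exact Subgroup.mem_centralizer_singleton_iff.mp (hle hxm)

end Cfsg.Agent.Spor.FischerThm
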