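import Cfsg.Agent.Lib.Block.FischerTypes.Types
import Cfsg.Agent.Lib.Block.FischerTypes.M24Orders
import Cfsg.Agent.Lib.Grp.PolarRec.Main

/-! Standing facts for Fischer's theorem: the perpendicular quotient of a good class is again good. -/

set_option autoImplicit false
set_option linter.style.haveILetI false
set_option linter.unusedSectionVars false

namespace Cfsg.Agent.Spor.FischerThm

open Cfsg Cfsg.Agent.Spor.ThreeTrans Cfsg.Agent.Block.FischerTypes
open scoped commutatorElement

variable {G : Type*} [Group G] [Finite G] {D : Set G}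

/-- A centre-free class with Fischer's hypotheses and width at least two. -/
structure Good (D : Set G) : Prop where
  hyp : Hyp D
  cen : Subgroup.center G = ⊥
  pair : ∃ a ∈ D, ∃ b ∈ D, a ≠ b ∧ Commute a b

theorem Good.cls (g : Good D) : IsThreeTranspositionClass D := g.hyp.cls

theorem Good.tf (g : Good D) : TwinFree D := Grp.PolarRec.twinFree g.hyp

/-- Two members. -/
theorem two_of_nc (H : Hyp D) : ∃ x ∈ D, ∃ y ∈ D, x ≠ y := by
  obtain ⟨a, ha, b, hb, hab⟩ := H.nc
  exact ⟨a, ha, b, hb, fun e => hab (e ▸ Commute.refl a)⟩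

theorem Good.connected (g : Good D) : (commutingGraph D).Connected := by
  obtain ⟨a, ha, -, -, -, -⟩ := g.pair
  refine SimpleGraph.connected_iff_exists_forall_reachable _ |>.mpr ⟨⟨a, ha⟩, fun ⟨v, hv⟩ => ?_⟩
  let M : Set G := {x | ∃ hx : x ∈ D, (commutingGraph D).Reachable ⟨a, ha⟩ ⟨x, hx⟩}
  have hall := comm_closed_eq g.hyp (M := M) (fun x hx => hx.1) ⟨a, ha, SimpleGraph.Reachable.refl _⟩
    (fun x ⟨hx, hr⟩ e he hc => by
      refine ⟨he, ?_⟩
      by_cases k : x = e
      · subst k; exact hr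
      · exact hr.trans (SimpleGraph.Adj.reachable ⟨fun e' => k (congrArg Subtype.val e'), Or.inl hc⟩))
    v hv
  exact hall.2

theorem Good.core (g : Good D) : pCore 2 G = ⊥ ∧ pCore 3 G = ⊥ := by
  obtain ⟨a, ha, b, hb, hab, hc⟩ := g.pair
  have key : ∀ p, p.Prime → pCore p G = ⊥ := fun p hp => by
    haveI : Fact p.Prime := ⟨hp⟩
    haveI := Transfer.pCore_normal' p G
    haveI : Group.IsNilpotent ↥(pCore p G) := (Transfer.pCore_isPGroup p G).isNilpotent
    have h1 : pCore p G ⊓ commutator G = ⊥ := g.hyp.solv _ inferInstance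
      (Group.isSolvable_of_isSolvable_injective (f := Subgroup.inclusion inf_le_left)
        (Subgroup.inclusion_injective _)) inf_le_right
    rw [eq_bot_iff, ← g.cen]
    intro n hn
    refine Subgroup.mem_center_iff.mpr fun x => ?_
    have h2 : ⁅x, n⁆ ∈ pCore p G ⊓ commutator G := Subgroup.mem_inf.mpr
      ⟨show x * n * x⁻¹ * n⁻¹ ∈ pCore p G from mul_mem (Subgroup.Normal.conj_mem inferInstance n hn x) (inv_mem hn),
        Subgroup.commutator_mem_commutator (Subgroup.mem_top x) (Subgroup.mem_top n)⟩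
    rw [h1] at h2
    exact commutatorElement_eq_one_iff_mul_comm.mp h2
  exact ⟨key 2 Nat.prime_two, key 3 Nat.prime_three⟩

theorem Good.primitive (g : Good D) : IsPrimitiveUnderConj D :=
  (Spor.FischerStr.primitive_iff g.cls g.cen g.pair).2.mpr ⟨g.core.1, g.core.2, g.connected⟩

theorem good_of_prim (h : IsThreeTranspositionClass D) (hp : IsPrimitiveUnderConj D)
    (hc : Subgroup.center G = ⊥) (hw : ∃ a ∈ D, ∃ b ∈ D, a ≠ b ∧ Commute a b) : Good D := by
  obtain ⟨a, ha, b, hb, hab, hcom⟩ := hw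
  have h2 : ∃ x ∈ D, ∃ y ∈ D, x ≠ y := ⟨a, ha, b, hb, hab⟩
  obtain ⟨c, hc', hac⟩ := exists_not_commute h h2 ha
  exact ⟨(hyp_of_prim h hp hc ⟨a, ha, c, hc', hac⟩ ⟨a, ha, b, hb, hab.symm, hcom⟩).1, hc,
    a, ha, b, hb, hab, hcom⟩

/-- Cores central below one member give the setting. -/
theorem Good.setting (g : Good D) {d : G} (hd : d ∈ D)
    (h2 : pCore 2 ↥(PerpGroup D d) ≤ Subgroup.center ↥(PerpGroup D d))
    (h3 : pCore 3 ↥(PerpGroup D d) ≤ Subgroup.center ↥(PerpGroup D d)) : Setting D := by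
  haveI : Fact (Nat.Prime 2) := ⟨Nat.prime_two⟩
  haveI : Fact (Nat.Prime 3) := ⟨Nat.prime_three⟩
  refine ⟨g.cls, g.hyp, g.tf, fun a ha => perp_nonempty g.hyp ha, fun a ha => ?_, fun a ha => ?_⟩ <;>
    obtain ⟨k, rfl⟩ := transitive g.cls hd ha
  · exact pCore_quot_center 2 (cores_conj g.cls 2 d k h2)
  · exact pCore_quot_center 3 (cores_conj g.cls 3 d k h3)

variable (S : Setting D)
include S

theorem center_quot {a : G} (ha : a ∈ D) : Subgroup.center (PerpQuot D a) = ⊥ := by
  refine eq_bot_iff.mpr fun q hq => ?_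
  induction q using QuotientGroup.induction_on with
  | H g =>
    have hga : Commute (g : G) a := commute_all (fun x hx => hx.2.2.symm) g.2
    refine Subgroup.mem_bot.mpr ((QuotientGroup.eq_one_iff _).mpr (Subgroup.mem_center_iff.mpr ?_))
    have hfix : ∀ u ∈ perp D a, Commute u (g : G) := fun u hu => by
      have hu' := perp_conj' S.cls hga hu
      have e : pr D a _ hu' = pr D a u hu := by
        have k := Subgroup.mem_center_iff.mp hq (pr D a u hu)
        show (QuotientGroup.mk (g * ⟨u, Subgroup.subset_closure hu⟩ * g⁻¹) : PerpQuot D a) = _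
        rw [QuotientGroup.mk_mul, QuotientGroup.mk_mul, QuotientGroup.mk_inv, ← k, mul_inv_cancel_right]
      exact (mul_inv_eq_iff_eq_mul.mp (pr_injective S.cls S.tf ha hu' hu e)).symm
    intro x
    exact Subtype.ext (commute_all hfix x.2).eq

theorem quot_nc {a : G} (ha : a ∈ D) :
    ∃ u ∈ perpSet D a, ∃ v ∈ perpSet D a, ¬ Commute u v := by
  obtain ⟨b, hb⟩ := S.perp_ne a ha
  obtain ⟨x, hx, hxb⟩ := exists_noncentral S.cls S.tf ha hb
  exact ⟨_, pr_mem hx, _, pr_mem hb, fun k => hxb (commute_of_pr S.cls S.tf ha hx hb k)⟩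

theorem quot_pair {a : G} (ha : a ∈ D) :
    ∃ u ∈ perpSet D a, ∃ v ∈ perpSet D a, u ≠ v ∧ Commute u v := by
  by_contra hno
  push Not at hno
  have hE := S.qcls ha
  obtain ⟨u, hu, v, hv, huv⟩ := quot_nc S ha
  have h3 : ∀ x ∈ perpSet D a, ∀ y ∈ perpSet D a, (x * y) ^ 3 = 1 := fun x hx y hy => by
    by_cases e : x = y
    · rw [e, ThreeTrans.mul_self hE.1 hy, one_pow]
    · exact pow_three_of_not_commute hE hx hy (hno x hx y hy e)
  have := Spor.FourGen.mul_mem_pCore (perpSet D a) (fun x hx => ThreeTrans.mul_self hE.1 hx)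
    (fun q x hx => perpSet_conj S.cls q hx) h3 hu hv
  rw [S.core3 a ha, Subgroup.mem_bot] at this
  rw [eq_inv_of_mul_eq_one_left this, inv_eq hE.1 hv] at huv
  exact huv (Commute.refl v)

/-- Every apart pair has common neighbours and each of them has a partner there. -/
theorem meets_linked {d c : G} (hd : d ∈ D) (hc : c ∈ D) (hdc : ¬ Commute d c) :
    (common D d c).Nonempty ∧ ∀ x ∈ common D d c, ∃ y ∈ common D d c, y ≠ x ∧ Commute x y := by
  have h := S.cls
  by_contra hbad
  -- then the common neighbours of every apart pair are pairwise apart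
  have hpd : ∀ x ∈ common D d c, ∀ y ∈ common D d c, Commute x y → x = y := by
    intro x hx y hy hxy
    by_contra hne
    refine hbad ⟨⟨x, hx⟩, fun z hz => ?_⟩
    by_cases hzx : Commute x z
    · by_cases k : x = z
      · exact ⟨y, hy, k ▸ Ne.symm hne, k ▸ hxy⟩
      · exact ⟨x, hx, k, hzx.symm⟩
    -- conjugate the pair over to `z`
    let g := x * z
    have hgd : Commute g d := hx.1.2.2.symm.mul_left hz.1.2.2.symm
    have hgc : Commute g c := hx.2.2.2.symm.mul_left hz.2.2.2.symm
    have e : g * x * g⁻¹ = z := by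
      simp only [g, mul_inv_rev, inv_eq h.1 hx.1.1, inv_eq h.1 hz.1.1]
      rw [← mul_assoc, show x * z * x * z = (x * z * x) * z by simp [mul_assoc],
        braid h.1 hx.1.1 hz.1.1 hzx]
      simp [mul_assoc, mul_self_mul h.1 hz.1.1, ThreeTrans.mul_self h.1 hx.1.1]
    refine ⟨g * y * g⁻¹, ⟨perp_conj' h hgd hy.1, perp_conj' h hgc hy.2⟩, fun k => hne ?_, ?_⟩
    · rw [← e] at k
      exact (mul_left_cancel (mul_right_cancel k)).symm
    · exact e ▸ (commute_conj_iff g x y).mpr hxy
  have hall : ∀ b ∈ D, ∀ b' ∈ D, ¬ Commute b b' → ∀ x ∈ common D b b', ∀ y ∈ common D b b',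
      Commute x y → x = y := by
    intro b hb b' hb' hbb x hx y hy hxy
    obtain ⟨g, rfl, rfl⟩ := apart_pair_conj S hd hc hdc hb hb' hbb
    have := hpd _ (pull h g hx) _ (pull h g hy) (by
      rw [← commute_conj_iff g]; simpa [mul_assoc] using hxy)
    simpa using this
  -- so in the quotient at `d` commuting members are twins
  obtain ⟨U, hU, V, hV, hne, hUV⟩ := quot_pair S hd
  obtain ⟨u, hu, rfl⟩ := exists_of_mem hU
  obtain ⟨v, hv, rfl⟩ := exists_of_mem hV
  have tw : ∀ s (hs : s ∈ perp D d), ∀ t (ht : t ∈ perp D d), Commute s t → ∀ e ∈ perp D d,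
      Commute s e → Commute t e := by
    intro s hs t ht hst e he hse
    by_contra hte
    by_cases k : s = t
    · exact hte (k ▸ hse)
    by_cases k' : s = e
    · exact hte (k' ▸ hst.symm)
    exact hs.2.1 (hall t ht.1 e he.1 hte d
      ⟨⟨hd, ht.2.1.symm, ht.2.2.symm⟩, ⟨hd, he.2.1.symm, he.2.2.symm⟩⟩
      s ⟨⟨hs.1, k, hst.symm⟩, ⟨hs.1, k', hse.symm⟩⟩ hs.2.2).symm
  have huv := commute_of_pr h S.tf hd hu hv hUV
  refine hne (S.qtf hd _ _ ⟨pr_mem hu, pr_mem hv, fun q hq => ?_⟩)
  obtain ⟨e, he, rfl⟩ := exists_of_mem hq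
  exact ⟨fun k => commute_pr hv he (tw u hu v hv huv e he (commute_of_pr h S.tf hd hu he k)),
    fun k => commute_pr hu he (tw v hv u hu huv.symm e he (commute_of_pr h S.tf hd hv he k))⟩

/-- The perpendicular quotient is good. -/
theorem good_quot {a : G} (ha : a ∈ D) : Good (perpSet D a) := by
  obtain ⟨c, hc, hac⟩ := exists_not_commute S.cls (two_of_nc S.hyp) ha
  exact ⟨hyp_perp S ha hc hac (meets_linked S ha hc hac).2 (center_quot S ha) (quot_nc S ha),
    center_quot S ha, quot_pair S ha⟩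

/-- The perpendicular quotient is smaller. -/
theorem quot_card_lt {a : G} (ha : a ∈ D) : Nat.card (PerpQuot D a) < Nat.card G := by
  refine lt_of_le_of_lt (Nat.card_le_card_of_surjective _ QuotientGroup.mk_surjective) ?_
  obtain ⟨c, hc, hac⟩ := exists_not_commute S.cls (two_of_nc S.hyp) ha
  refine lt_of_le_of_ne (Subgroup.card_le_card_group _) fun e => hac ?_
  have htop := Subgroup.eq_top_of_card_eq _ e
  exact (commute_all (fun x hx => hx.2.2.symm) (htop ▸ Subgroup.mem_top c : c ∈ PerpGroup D a)).symm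

/-- All perpendicular quotients match. -/
theorem quot_iso {a b : G} (ha : a ∈ D) (hb : b ∈ D) :
    ∃ σ : PerpQuot D a ≃* PerpQuot D b, σ '' perpSet D a = perpSet D b := by
  obtain ⟨g, rfl⟩ := transitive S.cls ha hb
  exact quot_conj S.cls g a

/-- Conjugation preserves common perpendicular sizes. -/
theorem common_conj_card (g a b : G) :
    (common D (g * a * g⁻¹) (g * b * g⁻¹)).ncard = (common D a b).ncard := by
  show (perp D _ ∩ perp D _).ncard = _
  rw [perp_conj S.cls, perp_conj S.cls, ← Set.image_inter (fun u v e => by simpa using e),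
    Set.ncard_image_of_injective _ fun u v e => by simpa using e]

theorem mu_eq {d c b b' : G} (hd : d ∈ D) (hc : c ∈ D) (hdc : ¬ Commute d c) (hb : b ∈ D)
    (hb' : b' ∈ D) (hbb : ¬ Commute b b') : (common D b b').ncard = (common D d c).ncard := by
  obtain ⟨g, rfl, rfl⟩ := apart_pair_conj S hd hc hdc hb hb' hbb
  exact common_conj_card S g d c

theorem lam_eq {d c b b' : G} (hd : d ∈ D) (hc : c ∈ perp D d) (hb : b ∈ D) (hb' : b' ∈ perp D b) :
    (common D b b').ncard = (common D d c).ncard := by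
  obtain ⟨g, rfl, rfl⟩ := pair_conj S hd hc hb hb'
  exact common_conj_card S g d c

theorem perp_card_eq {a b : G} (ha : a ∈ D) (hb : b ∈ D) :
    (perp D b).ncard = (perp D a).ncard := by
  obtain ⟨g, rfl⟩ := transitive S.cls ha hb
  rw [perp_conj S.cls, Set.ncard_image_of_injective _ fun u v e => by simpa using e]

theorem perp_card {a : G} (ha : a ∈ D) : (perp D a).ncard = (perpSet D a).ncard :=
  Set.ncard_congr (fun u hu => pr D a u hu) (fun u hu => pr_mem hu)
    (fun u v hu hv e => pr_injective S.cls S.tf ha hu hv e) fun q hq => by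
    obtain ⟨u, hu, rfl⟩ := exists_of_mem hq
    exact ⟨u, hu, rfl⟩

/-- A set of members below `x` counted in the quotient. -/
theorem pr_card {x : G} (hx : x ∈ D) {P : Set G} (hP : P ⊆ perp D x) {Q : Set (PerpQuot D x)}
    (hQ : Q ⊆ perpSet D x) (hiff : ∀ u (hu : u ∈ perp D x), pr D x u hu ∈ Q ↔ u ∈ P) :
    P.ncard = Q.ncard := by
  refine Set.ncard_congr (fun u hu => pr D x u (hP hu)) (fun u hu => (hiff u _).mpr hu)
    (fun u v hu hv e => pr_injective S.cls S.tf hx (hP hu) (hP hv) e) fun q hq => ?_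
  obtain ⟨u, hu, rfl⟩ := exists_of_mem (hQ hq)
  exact ⟨u, (hiff u hu).mp hq, rfl⟩

theorem pr_perp_iff {x u v : G} (hx : x ∈ D) (hu : u ∈ perp D x) (hv : v ∈ perp D x) :
    pr D x v hv ∈ perp (perpSet D x) (pr D x u hu) ↔ v ∈ perp D u :=
  ⟨fun k => ⟨hv.1, fun e => k.2.1 (by subst e; rfl), commute_of_pr S.cls S.tf hx hu hv k.2.2⟩,
    fun k => ⟨pr_mem hv, fun e => k.2.1 (pr_injective S.cls S.tf hx hv hu e), commute_pr hu hv k.2.2⟩⟩

theorem perp_symm' {a b : G} (ha : a ∈ D) (hb : b ∈ perp D a) : a ∈ perp D b :=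
  ⟨ha, Ne.symm hb.2.1, hb.2.2.symm⟩

/-- Inside a common neighbour the pair sees a common perpendicular of the quotient. -/
theorem common_below {d c x : G} (hd : d ∈ D) (hc : c ∈ D) (hx : x ∈ common D d c) :
    (common D d c ∩ perp D x).ncard =
      (common (perpSet D x) (pr D x d (perp_symm' S hd hx.1)) (pr D x c (perp_symm' S hc hx.2))).ncard :=
  pr_card S hx.1.1 Set.inter_subset_right (fun q hq => hq.1.1) fun u hu =>
    (and_congr (pr_perp_iff S hx.1.1 (perp_symm' S hd hx.1) hu)
      (pr_perp_iff S hx.1.1 (perp_symm' S hc hx.2) hu)).trans ⟨fun k => ⟨k, hu⟩, fun k => k.1⟩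

/-- Closed under conjugation inside itself. -/
theorem common_conj_closed {d c x y : G} (hx : x ∈ common D d c) (hy : y ∈ common D d c) :
    x * y * x ∈ common D d c := by
  have h1 := perp_conj' S.cls hx.1.2.2.symm hy.1
  have h2 := perp_conj' S.cls hx.2.2.2.symm hy.2
  rw [inv_eq S.cls.1 hx.1.1] at h1 h2
  exact ⟨h1, h2⟩

/-- Double counting between the perpendicular and the apart members. -/
theorem count {d c e : G} (hd : d ∈ D) (hc : c ∈ D) (hdc : ¬ Commute d c) (he : e ∈ perp D d) :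
    (perp D d).ncard * ((perp D d).ncard - 1 - (common D d e).ncard) =
      (apart D d).ncard * (common D d c).ncard :=
  Block.FischerTypes.apart_count S hd hc hdc (fun b hb => perp_card_eq S hd hb) fun b hb => lam_eq S hd he hd hb

end Cfsg.Agent.Spor.FischerThm
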