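import Cfsg.Agent.Lib.Spor.FischerThm.Induct
import Cfsg.Agent.Lib.Classical.QuadClass
import Cfsg.Agent.Lib.Spor.UnitClassTwo

/-! The printed forms of the conclusions. -/

set_option autoImplicit false
set_option linter.style.haveILetI false
set_option linter.unusedSectionVars false

namespace Cfsg.Agent.Spor.FischerThm

open Cfsg Cfsg.Agent.Spor.ThreeTrans Cfsg.Agent.Block.FischerTypes

variable {G : Type*} [Group G] {D : Set G}

/-- Orthogonal conclusions for equal forms. -/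
theorem orth_form {ι : Type} [Fintype ι] [DecidableEq ι] {Q : QuadraticForm (ZMod 2) (ι → ZMod 2)}
    {f : (ι → ZMod 2) → ZMod 2} (h : ⇑Q = f) (e : G ≃* ↥(isometryGroup (ZMod 2) ⇑Q))
    (he : e '' D = OTwo.tset Q) :
    ∃ e : G ≃* ↥(isometryGroup (ZMod 2) f), e '' D =
      {g : ↥(isometryGroup (ZMod 2) f) | (((g : GL ι (ZMod 2)) : Matrix ι ι (ZMod 2)) - 1).rank = 1} := by
  subst h
  exact ⟨e, he⟩

theorem tvSet_rank {m : ℕ} : tvSet m = {g : Matrix.symplecticGroup (Fin m) (ZMod 2) |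
    ((g : Matrix (Fin m ⊕ Fin m) (Fin m ⊕ Fin m) (ZMod 2)) - 1).rank = 1} :=
  Set.ext fun g => (SympTwo.rank_one_iff g).symm

theorem roots_rank {F : Type} [Field F] [Fintype F] (h4 : Fintype.card F = 4) (n : ℕ) :
    U6.roots h4 n = (QuotientGroup.mk : ↥(SU n F 2) → PSU n F 2) '' {g : ↥(SU n F 2) |
      (((g : Matrix.SpecialLinearGroup (Fin n) F) : Matrix (Fin n) (Fin n) F) - 1).rank = 1} := by
  ext y
  constructor
  · rintro ⟨v, hv0, hv, rfl⟩
    exact ⟨_, (UnitTwo.rank_one_iff h4 _).mpr ⟨v, hv0, hv, rfl⟩, rfl⟩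
  · rintro ⟨g, hg, rfl⟩
    obtain ⟨v, hv0, hv, rfl⟩ := (UnitTwo.rank_one_iff h4 g).mp hg
    exact ⟨v, hv0, hv, rfl⟩

end Cfsg.Agent.Spor.FischerThm
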