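import Cfsg.Agent.Lib.Spor.FischerThm.Srg

/-! The parameters above M(23) and M(24). -/

set_option autoImplicit false

namespace Cfsg.Agent.Spor.FischerThm

/-- A test on all numbers below `2 ^ n`, from `lo`. -/
def allFrom (f : ℕ → Bool) : ℕ → ℕ → Bool
  | 0, lo => f lo
  | n + 1, lo => allFrom f n lo && allFrom f n (lo + 2 ^ n)

theorem allFrom_spec (f : ℕ → Bool) : ∀ n lo, allFrom f n lo = true → ∀ m, lo ≤ m → m < lo + 2 ^ n → f m = true
  | 0, lo, h, m, h1, h2 => by
    have : m = lo := by simp at h2; omega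
    rw [this]; exact h
  | n + 1, lo, h, m, h1, h2 => by
    simp only [allFrom, Bool.and_eq_true] at h
    rw [pow_succ] at h2
    by_cases k : m < lo + 2 ^ n
    · exact allFrom_spec f n lo h.1 m h1 k
    · exact allFrom_spec f n _ h.2 m (by omega) (by omega)

theorem srg_m23_chk : allFrom (fun m => Nat.beq m 0 || Nat.ble 31671 m || (Nat.beq m 3240 || !srgOK 31671 3510 m))
    15 0 = true := by decide +kernel

theorem srg_m24_chk : allFrom (fun m => Nat.beq m 0 || Nat.ble 306936 m || !srgOK 306936 31671 m) 19 0 = true := by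
  decide +kernel

theorem srg_m23 {m : ℕ} (h1 : 1 ≤ m) (h2 : m < 31671) (h3 : srgOK 31671 3510 m = true) : m = 3240 := by
  have h := allFrom_spec _ 15 0 srg_m23_chk m (Nat.zero_le _) (by norm_num; omega)
  simp only [Bool.or_eq_true, Bool.not_eq_true', h3, Nat.ble_eq] at h
  rcases h with (k | k) | k | k
  · have := Nat.eq_of_beq_eq_true k; omega
  · omega
  · exact Nat.eq_of_beq_eq_true k
  · exact absurd k (by simp)

theorem srg_m24 {m : ℕ} (h1 : 1 ≤ m) (h2 : m < 306936) : srgOK 306936 31671 m = false := by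
  have h := allFrom_spec _ 19 0 srg_m24_chk m (Nat.zero_le _) (by norm_num; omega)
  simp only [Bool.or_eq_true, Bool.not_eq_true', Nat.ble_eq] at h
  rcases h with (k | k) | k
  · have := Nat.eq_of_beq_eq_true k; omega
  · omega
  · exact k

end Cfsg.Agent.Spor.FischerThm
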