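import Cfsg.Agent.Lib.Spor.FischerThm.UnitModel

/-! Numbered perpendiculars, based at an edge or at an apart pair. -/

set_option autoImplicit false
set_option linter.style.haveILetI false
set_option linter.unusedSectionVars false

namespace Cfsg.Agent.Spor.FischerThm

open Cfsg Cfsg.Agent.Spor.ThreeTrans Cfsg.Agent.Block.FischerTypes

variable {G : Type*} [Group G] [Finite G] {D : Set G} {n : ℕ}

/-- The perpendicular of `x`, numbered. -/
structure PNum (D : Set G) (x : G) (n : ℕ) where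
  /-- The member with a number. -/
  pt : ℕ → G
  mem : ∀ c, ptN n c = true → pt c ∈ perp D x
  surj : ∀ u ∈ perp D x, ∃ c, ptN n c = true ∧ pt c = u
  inj : ∀ c d, ptN n c = true → ptN n d = true → pt c = pt d → c = d
  comm : ∀ c d, ptN n c = true → ptN n d = true → (Commute (pt c) (pt d) ↔ U6Code.adj c d = true)
  conj : ∀ p c, ptN n p = true → ptN n c = true →
    ptN n (U6Code.refl p c) = true ∧ pt p * pt c * pt p = pt (U6Code.refl p c)

theorem exists_pnum (S : Setting D) {x : G} (hx : x ∈ D) (N : UNum (perpSet D x) n) :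
    Nonempty (PNum D x n) := by
  classical
  have ex : ∀ c, ∃ u, ptN n c = true → ∃ hu : u ∈ perp D x, pr D x u hu = N.pt c := fun c => by
    by_cases hc : ptN n c = true
    · obtain ⟨u, hu, e⟩ := exists_of_mem (N.mem c hc)
      exact ⟨u, fun _ => ⟨hu, e⟩⟩
    · exact ⟨1, fun k => absurd k hc⟩
  choose pt hpt using ex
  have pinj : ∀ {u v : G} (hu : u ∈ perp D x) (hv : v ∈ perp D x), pr D x u hu = pr D x v hv → u = v :=
    fun hu hv => pr_injective S.cls S.tf hx hu hv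
  refine ⟨⟨pt, fun c hc => (hpt c hc).1, fun u hu => ?_, fun c d hc hd e => ?_, fun c d hc hd => ?_,
    fun p c hp hc => ?_⟩⟩
  · obtain ⟨c, hc, e⟩ := N.surj _ (pr_mem hu)
    obtain ⟨h, e'⟩ := hpt c hc
    exact ⟨c, hc, pinj h hu (e'.trans e)⟩
  · obtain ⟨h, e1⟩ := hpt c hc
    obtain ⟨h', e2⟩ := hpt d hd
    exact N.inj c d hc hd (by rw [← e1, ← e2]; congr)
  · obtain ⟨h, e1⟩ := hpt c hc
    obtain ⟨h', e2⟩ := hpt d hd
    rw [← N.comm c d hc hd, ← e1, ← e2]
    exact ⟨fun k => commute_pr h h' k, fun k => commute_of_pr S.cls S.tf hx h h' k⟩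
  · obtain ⟨hn, e⟩ := N.conj p c hp hc
    obtain ⟨h, e1⟩ := hpt p hp
    obtain ⟨h', e2⟩ := hpt c hc
    obtain ⟨h'', e3⟩ := hpt _ hn
    have hm : pt p * pt c * pt p ∈ perp D x := by
      have := perp_conj' S.cls h.2.2.symm h'
      rwa [inv_eq S.cls.1 h.1] at this
    refine ⟨hn, pinj hm h'' ?_⟩
    rw [e3, ← e, ← e1, ← e2]
    show _ = pr D x (pt p) h * pr D x (pt c) h' * pr D x (pt p) h
    exact congrArg QuotientGroup.mk (Subtype.ext rfl)

/-- An element fixing `x` renumbers. -/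
noncomputable def PNum.move (S : Setting D) {x : G} (M : PNum D x n) (k : G) (hk : Commute k x) :
    PNum D x n where
  pt c := k * M.pt c * k⁻¹
  mem c hc := perp_conj' S.cls hk (M.mem c hc)
  surj u hu := by
    obtain ⟨c, hc, e⟩ := M.surj _ (perp_conj' S.cls hk.inv_left hu)
    exact ⟨c, hc, by rw [e]; simp [mul_assoc]⟩
  inj c d hc hd e := M.inj c d hc hd (by simpa using e)
  comm c d hc hd := (commute_conj_iff k _ _).trans (M.comm c d hc hd)
  conj p c hp hc := by
    obtain ⟨h1, h2⟩ := M.conj p c hp hc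
    exact ⟨h1, by rw [← h2]; simp [mul_assoc]⟩

/-- Quotient transporters lift. -/
theorem move_lift (S : Setting D) {x : G} (hx : x ∈ D) (k : ↥(PerpGroup D x)) {u u' : G}
    (hu : u ∈ perp D x) (hu' : u' ∈ perp D x)
    (e : (QuotientGroup.mk k : PerpQuot D x) * pr D x u hu * (QuotientGroup.mk k : PerpQuot D x)⁻¹ = pr D x u' hu') :
    (k : G) * u * (k : G)⁻¹ = u' := by
  have hm := perp_conj' S.cls (commute_all (fun w hw => hw.2.2.symm) k.2) hu
  refine pr_injective S.cls S.tf hx hm hu' ?_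
  rw [← e]
  exact congrArg QuotientGroup.mk (Subtype.ext rfl : (⟨_, Subgroup.subset_closure hm⟩ : ↥(PerpGroup D x)) =
    k * ⟨u, Subgroup.subset_closure hu⟩ * k⁻¹)

/-- A numbering based at a given edge. -/
theorem based_pair (S : Setting D) {x : G} (hx : x ∈ D) (M : PNum D x n) {p q : ℕ} (hp : ptN n p = true)
    (hq : ptN n q = true) (hpq : U6Code.adj p q = true) (hne : p ≠ q) {u v : G} (hu : u ∈ perp D x)
    (hv : v ∈ perp D x) (hvu : v ≠ u) (huv : Commute u v) :
    ∃ M' : PNum D x n, M'.pt p = u ∧ M'.pt q = v := by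
  have g := good_quot S hx
  have hp' := M.mem p hp
  have hq' := M.mem q hq
  obtain ⟨g₁, h₁⟩ := transitive g.cls (pr_mem hp') (pr_mem hu)
  have hqv : pr D x v hv ∈ perp (perpSet D x) (pr D x u hu) :=
    (pr_perp_iff S hx hu hv).mpr ⟨hv.1, hvu, huv⟩
  have hpq' : pr D x (M.pt q) hq' ∈ perp (perpSet D x) (pr D x (M.pt p) hp') :=
    (pr_perp_iff S hx hp' hq').mpr
      ⟨hq'.1, fun e => hne (M.inj q p hq hp e).symm, (M.comm p q hp hq).mpr hpq⟩
  have h₁' := (conj_mem_perp g.cls g₁ (pr D x (M.pt p) hp')).mpr hpq'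
  rw [h₁] at h₁'
  obtain ⟨g₂, hg₂, h₂⟩ := transitive_perp g.hyp (pr_mem hu) h₁' hqv
  have hc : g₂ * pr D x u hu * g₂⁻¹ = pr D x u hu :=
    conj_self_eq (commute_all (fun w hw => hw.2.2.symm) hg₂)
  obtain ⟨k, hk⟩ := QuotientGroup.mk_surjective (g₂ * g₁)
  have e1 : (k : G) * M.pt p * (k : G)⁻¹ = u := move_lift S hx k hp' hu (by
    rw [hk, mul_inv_rev, ← hc, ← h₁]; simp [mul_assoc])
  have e2 : (k : G) * M.pt q * (k : G)⁻¹ = v := move_lift S hx k hq' hv (by
    rw [hk, mul_inv_rev, ← h₂]; simp [mul_assoc])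
  exact ⟨M.move S k (commute_all (fun w hw => hw.2.2.symm) k.2), e1, e2⟩

/-- A numbering based at a given apart pair. -/
theorem based_apart (S : Setting D) {x : G} (hx : x ∈ D) (M : PNum D x n) {p q : ℕ} (hp : ptN n p = true)
    (hq : ptN n q = true) (hpq : U6Code.adj p q = false) {u v : G} (hu : u ∈ perp D x) (hv : v ∈ perp D x)
    (huv : ¬ Commute u v) : ∃ M' : PNum D x n, M'.pt p = u ∧ M'.pt q = v := by
  have g := good_quot S hx
  have hp' := M.mem p hp
  have hq' := M.mem q hq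
  obtain ⟨g₁, h₁⟩ := transitive g.cls (pr_mem hp') (pr_mem hu)
  have hnc : ¬ Commute (M.pt p) (M.pt q) := fun k => by
    rw [M.comm p q hp hq, hpq] at k; exact Bool.false_ne_true k
  have ha : g₁ * pr D x (M.pt q) hq' * g₁⁻¹ ∈ apart (perpSet D x) (pr D x u hu) := by
    refine ⟨conj_mem g.cls g₁ (pr_mem hq'), fun k => hnc ?_⟩
    rw [← h₁, commute_conj_iff] at k
    exact (commute_of_pr S.cls S.tf hx hq' hp' k).symm
  have hb : pr D x v hv ∈ apart (perpSet D x) (pr D x u hu) :=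
    ⟨pr_mem hv, fun k => huv (commute_of_pr S.cls S.tf hx hv hu k).symm⟩
  obtain ⟨g₂, hg₂, h₂⟩ := transitive_apart g.hyp (pr_mem hu) ha hb
  have hc : g₂ * pr D x u hu * g₂⁻¹ = pr D x u hu := conj_self_eq (localGroup_commute hg₂)
  obtain ⟨k, hk⟩ := QuotientGroup.mk_surjective (g₂ * g₁)
  have e1 : (k : G) * M.pt p * (k : G)⁻¹ = u := move_lift S hx k hp' hu (by
    rw [hk, mul_inv_rev, ← hc, ← h₁]; simp [mul_assoc])
  have e2 : (k : G) * M.pt q * (k : G)⁻¹ = v := move_lift S hx k hq' hv (by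
    rw [hk, mul_inv_rev, ← h₂]; simp [mul_assoc])
  exact ⟨M.move S k (commute_all (fun w hw => hw.2.2.symm) k.2), e1, e2⟩

end Cfsg.Agent.Spor.FischerThm
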