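import Cfsg.Agent.Lib.Spor.FischerThm.ReflLocal
import Cfsg.Agent.Lib.Spor.FischerThm.ReflData

/-! Hyperbolic coordinates, and counting members through the vectors of a chart. -/

set_option autoImplicit false
set_option linter.style.haveILetI false
set_option linter.unusedSectionVars false
set_option maxHeartbeats 400000

namespace Cfsg.Agent.Spor.FischerThm

open Cfsg Cfsg.Agent.Spor.ThreeTrans Cfsg.Agent.Block.FischerTypes
open Cfsg.Agent.Spor.FischerThm.Q3

variable {n : ℕ} {G : Type*} [Group G] [Finite G] {D : Set G}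

namespace Q3

theorem q_sum {ι : Type*} (Q : QuadraticForm (ZMod 3) (V n)) (f : ι → V n)
    (hp : ∀ i j, i ≠ j → B Q (f i) (f j) = 0) (s : Finset ι) : Q (∑ i ∈ s, f i) = ∑ i ∈ s, Q (f i) := by
  classical
  induction s using Finset.induction_on with
  | empty => simp
  | insert a s ha ih =>
    have h0 : B Q (f a) (∑ i ∈ s, f i) = 0 := by
      show (QuadraticMap.polarBilin Q (f a)) _ = 0
      rw [map_sum]
      exact Finset.sum_eq_zero fun i hi => hp a i fun e => ha (e ▸ hi)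
    rw [Finset.sum_insert ha, Finset.sum_insert ha, q_add, ih, h0, add_zero]

/-- Hyperbolic coordinates. -/
theorem exists_coords {m : ℕ} (Q : QuadraticForm (ZMod 3) (V (m + 2))) {φ ψ : V (m + 2)}
    (hφ : Q φ = 0) (hψ : Q ψ = 0) (hφψ : B Q φ ψ = 1) (e : Fin m → V (m + 2)) (w : Fin m → ZMod 3)
    (hw : ∀ i, w i ≠ 0) (he : ∀ i, Q (e i) = w i) (hp : ∀ i j, i ≠ j → B Q (e i) (e j) = 0)
    (heφ : ∀ i, B Q (e i) φ = 0) (heψ : ∀ i, B Q (e i) ψ = 0) :
    ∃ L : V (m + 2) →ₗ[ZMod 3] V (m + 2), Function.Bijective L ∧ (∀ x, Q (L x) = hq w x) ∧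
      (∀ x y, B Q (L x) (L y) = hB w x y) ∧ L (Pi.single 0 1) = φ ∧ L (Pi.single 1 1) = ψ ∧
      ∀ i, L (Pi.single i.succ.succ 1) = e i := by
  classical
  let L : V (m + 2) →ₗ[ZMod 3] V (m + 2) :=
    (LinearMap.proj (R := ZMod 3) (φ := fun _ : Fin (m + 2) => ZMod 3) 0).smulRight φ +
    (LinearMap.proj (R := ZMod 3) (φ := fun _ : Fin (m + 2) => ZMod 3) 1).smulRight ψ +
    ∑ i : Fin m, (LinearMap.proj (R := ZMod 3) (φ := fun _ : Fin (m + 2) => ZMod 3) i.succ.succ).smulRight (e i)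
  have hL : ∀ x, L x = x 0 • φ + x 1 • ψ + ∑ i : Fin m, x i.succ.succ • e i := fun x => by
    simp only [L, LinearMap.add_apply, LinearMap.sum_apply, LinearMap.smulRight_apply, LinearMap.proj_apply]
  have hq' : ∀ x, Q (L x) = hq w x := by
    intro x
    have h1 : Q (x 0 • φ + x 1 • ψ) = x 0 * x 1 := by
      rw [q_add, q_smul, q_smul, hφ, hψ, B_smul_left, B_smul_right, hφψ]; ring
    have h2 : Q (∑ i : Fin m, x i.succ.succ • e i) = ∑ i : Fin m, w i * (x i.succ.succ * x i.succ.succ) := by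
      rw [q_sum Q _ (fun i j h => by rw [B_smul_left, B_smul_right, hp i j h, mul_zero, mul_zero])]
      exact Finset.sum_congr rfl fun i _ => by rw [q_smul, he]; ring
    have h3 : B Q (x 0 • φ + x 1 • ψ) (∑ i : Fin m, x i.succ.succ • e i) = 0 := by
      show (QuadraticMap.polarBilin Q (x 0 • φ + x 1 • ψ)) _ = 0
      rw [map_sum]
      refine Finset.sum_eq_zero fun i _ => ?_
      show B Q (x 0 • φ + x 1 • ψ) (x i.succ.succ • e i) = 0
      rw [B_smul_right, B_add_left, B_smul_left, B_smul_left, B_comm Q φ, B_comm Q ψ, heφ, heψ]; ring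
    rw [hL, q_add, h1, h2, h3, add_zero]; rfl
  have hB' : ∀ x y, B Q (L x) (L y) = hB w x y := by
    intro x y
    show Q (L x + L y) - Q (L x) - Q (L y) = _
    rw [← map_add, hq', hq', hq']
    simp only [hq, hB, Pi.add_apply, Finset.mul_sum]
    have : ∀ i : Fin m, w i * ((x i.succ.succ + y i.succ.succ) * (x i.succ.succ + y i.succ.succ)) =
        w i * (x i.succ.succ * x i.succ.succ) + w i * (y i.succ.succ * y i.succ.succ) +
          2 * (w i * (x i.succ.succ * y i.succ.succ)) := fun i => by ring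
    rw [Finset.sum_congr rfl fun i _ => this i, Finset.sum_add_distrib, Finset.sum_add_distrib]
    ring
  have hinj : Function.Injective L := by
    refine (injective_iff_map_eq_zero L).mpr fun x hx => ?_
    have h0 : ∀ y, hB w x y = 0 := fun y => by rw [← hB', hx, B_zero_left]
    funext j
    induction j using Fin.cases with
    | zero =>
      have := h0 (Pi.single 1 1)
      simpa [hB, Pi.single_apply, Fin.succ_ne_zero, Fin.ext_iff] using this
    | succ j =>
      induction j using Fin.cases with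
      | zero =>
        have := h0 (Pi.single 0 1)
        simpa [hB, Pi.single_apply, Fin.succ_ne_zero, Fin.ext_iff] using this
      | succ i =>
        have := h0 (Pi.single i.succ.succ 1)
        simp only [hB, Pi.single_apply, Fin.ext_iff, Fin.val_succ, Fin.val_zero, Fin.val_one] at this
        rw [Finset.sum_eq_single i (fun k _ hk => by rw [if_neg (fun e => hk (Fin.ext (by omega)))]; ring) (by simp)] at this
        rw [if_neg (by omega), if_neg (by omega), if_pos rfl] at this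
        have key : ∀ a c : ZMod 3, c ≠ 0 → 2 * (c * (a * 1)) = 0 → a = 0 := by decide
        refine key _ _ (hw i) ?_
        linear_combination this
  refine ⟨L, ⟨hinj, Finite.surjective_of_injective hinj⟩, hq', hB', ?_, ?_, fun i => ?_⟩
  · rw [hL]; simp [Pi.single_apply, Fin.ext_iff]
  · rw [hL]; simp [Pi.single_apply, Fin.ext_iff]
  · rw [hL, Finset.sum_eq_single i (fun k _ hk => by
      rw [Pi.single_apply, if_neg (fun e => hk (Fin.succ_injective _ (Fin.succ_injective _ e))), zero_smul]) (by simp)]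
    simp [Pi.single_apply, Fin.ext_iff]

/-- A singular vector extends to hyperbolic coordinates with weights one but the last. -/
theorem exists_std {m : ℕ} (Q : QuadraticForm (ZMod 3) (V (m + 1 + 2)))
    (hQ : (QuadraticMap.polarBilin Q).Nondegenerate) {φ : V (m + 1 + 2)} (h0 : φ ≠ 0) (hφ : Q φ = 0) :
    ∃ t : ZMod 3, (t = 1 ∨ t = 2) ∧ ∃ L : V (m + 1 + 2) →ₗ[ZMod 3] V (m + 1 + 2), Function.Bijective L ∧
      (∀ x, Q (L x) = hq (wgt (m + 1) t) x) ∧ (∀ x y, B Q (L x) (L y) = hB (wgt (m + 1) t) x y) ∧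
      L (Pi.single 0 1) = φ := by
  obtain ⟨ψ, hψ, hφψ, -⟩ := exists_partner Q hQ (fun i : Fin 0 => i.elim0) (fun i => i.elim0)
    (fun i => i.elim0) h0 hφ fun i => i.elim0
  have q1 : Q (φ + ψ) = 1 := by rw [q_add, hφ, hψ, hφψ]; rfl
  have q2 : Q (φ - ψ) = 2 := by rw [q_sub, hφ, hψ, hφψ]; rfl
  have hsd : B Q (φ + ψ) (φ - ψ) = 0 := by
    rw [B_add_left, B_sub_right, B_sub_right, B_self, B_self, hφ, hψ, B_comm Q ψ φ]; ring
  have two : ∀ e, B Q (φ + ψ) e = 0 → B Q (φ - ψ) e = 0 → B Q e φ = 0 ∧ B Q e ψ = 0 := fun e h1 h2 => by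
    rw [B_add_left] at h1
    rw [B_sub_left] at h2
    rw [B_comm Q e φ, B_comm Q e ψ]
    exact (by decide : ∀ x y : ZMod 3, x + y = 0 → x - y = 0 → x = 0 ∧ y = 0) _ _ h1 h2
  -- extend the plane
  have key : ∀ k, k ≤ m → ∃ f : Fin (2 + k) → V (m + 1 + 2), f (Fin.castAdd k 0) = φ + ψ ∧
      f (Fin.castAdd k 1) = φ - ψ ∧ (∀ i, Q (f i) ≠ 0) ∧ (∀ i j, i ≠ j → B Q (f i) (f j) = 0) ∧
      ∀ i : Fin k, Q (f (Fin.natAdd 2 i)) = 1 := by
    intro k
    induction k with
    | zero =>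
      refine fun _ => ⟨![φ + ψ, φ - ψ], rfl, rfl, fun i => ?_, fun i j hij => ?_, fun i => i.elim0⟩
      · fin_cases i <;> simp [q1, q2]; decide
      · have hds : B Q (φ - ψ) (φ + ψ) = 0 := by rw [B_comm, hsd]
        fin_cases i <;> fin_cases j <;> first | exact absurd rfl hij | exact hsd | exact hds
    | succ k ih =>
      intro hk
      obtain ⟨f, f0, f1, hf, hp, hn1⟩ := ih (by omega)
      obtain ⟨z, hz, hze⟩ := ReflThree.exists_norm_perp hQ (c := 1) one_ne_zero (k := 2 + k) (by omega) f hf hp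
      obtain ⟨a1, a2⟩ := snoc_list Q hf hp (z := z) (by rw [hz]; exact one_ne_zero) hze
      refine ⟨Fin.snoc f z, ?_, ?_, a1, a2, fun i => ?_⟩
      · rw [show Fin.castAdd (k + 1) (0 : Fin 2) = (Fin.castAdd k (0 : Fin 2)).castSucc from rfl]
        exact (Fin.snoc_castSucc ..).trans f0
      · rw [show Fin.castAdd (k + 1) (1 : Fin 2) = (Fin.castAdd k (1 : Fin 2)).castSucc from rfl]
        exact (Fin.snoc_castSucc ..).trans f1
      · refine Fin.lastCases ?_ (fun i => ?_) i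
        · rw [show Fin.natAdd 2 (Fin.last k) = Fin.last (2 + k) from rfl]
          exact (congrArg Q (Fin.snoc_last ..)).trans hz
        · rw [show Fin.natAdd 2 i.castSucc = (Fin.natAdd 2 i).castSucc from rfl]
          exact (congrArg Q (Fin.snoc_castSucc ..)).trans (hn1 i)
  obtain ⟨f, f0, f1, hf, hp, hn1⟩ := key m le_rfl
  obtain ⟨z, hz, hze⟩ := ReflThree.exists_perp Q (by decide) hQ (k := 2 + m) (by simp; omega) f hf hp
  let e : Fin (m + 1) → V (m + 1 + 2) := Fin.snoc (fun i => f (Fin.natAdd 2 i)) z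
  have ho : ∀ i, B Q (e i) φ = 0 ∧ B Q (e i) ψ = 0 := fun i => by
    refine two _ ?_ ?_ <;> refine Fin.lastCases ?_ (fun i => ?_) i
    · simp only [e, Fin.snoc_last]; rw [← f0]; exact hze _
    · simp only [e, Fin.snoc_castSucc]; rw [← f0]
      exact hp _ _ (fun h => by simp [Fin.ext_iff] at h; omega)
    · simp only [e, Fin.snoc_last]; rw [← f1]; exact hze _
    · simp only [e, Fin.snoc_castSucc]; rw [← f1]
      exact hp _ _ (fun h => by simp [Fin.ext_iff] at h; omega)
  refine ⟨Q z, (by decide : ∀ t : ZMod 3, t ≠ 0 → t = 1 ∨ t = 2) _ hz, ?_⟩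
  have hw : ∀ i, Q (e i) = wgt (m + 1) (Q z) i := fun i => by
    refine Fin.lastCases ?_ (fun i => ?_) i
    · simp [e, wgt]
    · simp only [e, wgt, Fin.snoc_castSucc, hn1, Fin.val_castSucc, if_neg (show ¬ (i.val + 1 = m + 1) by omega)]
  have hp2 : ∀ i j, i ≠ j → B Q (e i) (e j) = 0 :=
    (snoc_list Q (fun i => hf (Fin.natAdd 2 i))
      (fun i j hij => hp _ _ fun h => hij (by simpa [Fin.ext_iff] using h)) hz fun i => hze _).2
  obtain ⟨L, h1, h2, h3, h4, -, -⟩ := exists_coords Q hφ hψ hφψ e (wgt (m + 1) (Q z))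
    (fun i => by rw [← hw]; exact Fin.lastCases (by simpa [e] using hz) (fun i => by simpa [e] using hf _) i)
    hw hp2 (fun i => (ho i).1) fun i => (ho i).2
  exact ⟨L, h1, h2, h3, h4⟩

theorem comp_polar (Q : QuadraticForm (ZMod 3) (V n)) (L : V n →ₗ[ZMod 3] V n) (x y : V n) :
    B (Q.comp L) x y = B Q (L x) (L y) := by
  simp only [B, QuadraticMap.polar, QuadraticMap.comp_apply, map_add]

/-- Vectors with a property, counted by codes. -/
theorem ncard_codes (P : V n → Prop) (b : ℕ → Bool) (hb : ∀ c < 3 ^ n, b c = true ↔ P (vec n c)) :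
    {x | P x}.ncard = ((List.range (3 ^ n)).filter b).length := by
  classical
  have hsurj : Function.Surjective fun c : Fin (3 ^ n) => vec n c := fun v => by
    obtain ⟨c, hc, e⟩ := exists_code v
    exact ⟨⟨c, hc⟩, e⟩
  have hinj : Function.Injective fun c : Fin (3 ^ n) => vec n c :=
    ((Fintype.bijective_iff_surjective_and_card _).mpr ⟨hsurj, by simp⟩).1
  have hnd : ((List.range (3 ^ n)).filter b).Nodup := List.nodup_range.filter _
  rw [← List.toFinset_card_of_nodup hnd, ← Set.ncard_coe_finset]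
  refine (Set.ncard_congr (fun c _ => vec n c) (fun c hc => ?_) (fun c c' hc hc' e => ?_) fun v hv => ?_).symm
  · simp only [List.coe_toFinset, Set.mem_setOf_eq, List.mem_filter, List.mem_range] at hc
    exact (hb c hc.1).mp hc.2
  · simp only [List.coe_toFinset, Set.mem_setOf_eq, List.mem_filter, List.mem_range] at hc hc'
    exact congrArg Fin.val (hinj (a₁ := ⟨c, hc.1⟩) (a₂ := ⟨c', hc'.1⟩) e)
  · obtain ⟨c, hc, rfl⟩ := exists_code v
    exact ⟨c, by simp only [List.coe_toFinset, Set.mem_setOf_eq, List.mem_filter, List.mem_range]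
                 exact ⟨hc, (hb c hc).mpr hv⟩, rfl⟩

end Q3

variable {a : G} {Q : QuadraticForm (ZMod 3) (V n)} {p : V n → G}

/-- A change of coordinates. -/
theorem Chart.comap (C : Chart D a Q p) (L : V n →ₗ[ZMod 3] V n) (hL : Function.Bijective L) :
    Chart D a (Q.comp L) (fun x => p (L x)) := by
  have q : ∀ x, (Q.comp L) x = Q (L x) := fun x => rfl
  refine ⟨⟨fun x hx => hL.1 ?_, fun y hy => hL.1 ?_⟩, fun x hx => C.mem _ ((q x).symm.trans hx),
    fun u hu => ?_, fun x y hx hy e => ?_, fun x hx => ?_, fun x y hx hy => ?_, fun x y hx hy => ?_⟩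
  · rw [map_zero]
    refine C.nd.1 _ fun z => ?_
    obtain ⟨z, rfl⟩ := hL.2 z
    exact (comp_polar Q L x z).symm.trans (hx z)
  · rw [map_zero]
    refine C.nd.2 _ fun z => ?_
    obtain ⟨z, rfl⟩ := hL.2 z
    exact (comp_polar Q L z y).symm.trans (hy z)
  · obtain ⟨x, hx, e⟩ := C.surj u hu
    obtain ⟨x, rfl⟩ := hL.2 x
    exact ⟨x, hx, e⟩
  · rcases C.inj _ _ hx hy e with r | r
    · exact Or.inl (hL.1 r)
    · exact Or.inr (hL.1 (by rw [map_neg]; exact r))
  · show p (L (-x)) = p (L x)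
    rw [map_neg]; exact C.neg _ hx
  · rw [comp_polar]; exact C.comm _ _ hx hy
  · show p (L x) * p (L y) * p (L x) = p (L (y - B (Q.comp L) x y • x))
    rw [map_sub, map_smul, comp_polar]; exact C.conj _ _ hx hy

/-- A set of members counted by vectors: two each. -/
theorem Chart.ncard_image (C : Chart D a Q p) {A : Set (V n)} (hA : ∀ x ∈ A, Q x = 1)
    (hneg : ∀ x ∈ A, -x ∈ A) : A.ncard = 2 * (p '' A).ncard := by
  classical
  haveI : Fintype G := Fintype.ofFinite G
  rw [Set.ncard_eq_toFinset_card', Set.ncard_eq_toFinset_card', Set.toFinset_image, mul_comm,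
    Finset.card_eq_sum_card_image p]
  refine Eq.trans (Finset.sum_congr rfl fun U hU => ?_) (by rw [Finset.sum_const, smul_eq_mul])
  obtain ⟨x, hx, rfl⟩ := Finset.mem_image.mp hU
  rw [Set.mem_toFinset] at hx
  have hne : x ≠ -x := fun e => by
    have := congrArg (B Q x) e
    rw [B_neg_right, B_self, hA x hx] at this
    exact (by decide : (2 : ZMod 3) * 1 ≠ -((2 : ZMod 3) * 1)) this
  rw [show (A.toFinset.filter fun y => p y = p x) = {x, -x} from ?_, Finset.card_pair hne]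
  ext y
  simp only [Finset.mem_filter, Set.mem_toFinset, Finset.mem_insert, Finset.mem_singleton]
  constructor
  · rintro ⟨hy, e⟩
    exact C.inj y x (hA y hy) (hA x hx) e
  · rintro (rfl | rfl)
    · exact ⟨hx, rfl⟩
    · exact ⟨hneg x hx, C.neg x (hA x hx)⟩

theorem Chart.mem_common_iff (C : Chart D a Q p) {y : G} (hay : ¬ Commute a y) {x : V n} (hx : Q x = 1) :
    p x ∈ common D a y ↔ Commute y (p x) :=
  ⟨fun k => k.2.2.2, fun k => ⟨C.mem x hx, (C.mem x hx).1, fun e => hay (e ▸ (C.mem x hx).2.2), k⟩⟩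

/-- The vectors of the common perpendicular. -/
def Mv (D : Set G) (a y : G) (Q : QuadraticForm (ZMod 3) (V n)) (p : V n → G) : Set (V n) :=
  {x | Q x = 1 ∧ p x ∈ common D a y}

theorem Chart.common_card (C : Chart D a Q p) (y : G) :
    (Mv D a y Q p).ncard = 2 * (common D a y).ncard := by
  rw [C.ncard_image (A := Mv D a y Q p) (fun x hx => hx.1)
    fun x ⟨hx, hm⟩ => ⟨by rw [q_neg, hx], by rw [C.neg x hx]; exact hm⟩]
  congr 2
  ext u
  constructor
  · rintro ⟨x, hx, rfl⟩; exact hx.2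
  · intro hu
    obtain ⟨x, hx, rfl⟩ := C.surj u hu.1
    exact ⟨x, ⟨hx, hu⟩, rfl⟩

theorem Chart.perp_card (C : Chart D a Q p) : {x : V n | Q x = 1}.ncard = 2 * (perp D a).ncard := by
  rw [C.ncard_image (A := {x : V n | Q x = 1}) (fun x hx => hx)
    fun x hx => (q_neg Q x).trans hx]
  congr 2
  ext u
  constructor
  · rintro ⟨x, hx, rfl⟩; exact C.mem x hx
  · intro hu
    obtain ⟨x, hx, rfl⟩ := C.surj u hu
    exact ⟨x, hx, rfl⟩

theorem Chart.pair_card (C : Chart D a Q p) {x₀ : V n} (hx₀ : Q x₀ = 1) :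
    {x : V n | Q x = 1 ∧ B Q x₀ x = 0}.ncard = 2 * (common D a (p x₀)).ncard := by
  rw [C.ncard_image (A := {x : V n | Q x = 1 ∧ B Q x₀ x = 0}) (fun x hx => hx.1)
    fun x hx => ⟨by rw [q_neg, hx.1], by rw [B_neg_right, hx.2, neg_zero]⟩]
  congr 2
  ext u
  constructor
  · rintro ⟨x, ⟨hx, hb⟩, rfl⟩
    exact ⟨C.mem x hx, (C.mem x hx).1, (C.ne_of_perp hx₀ hx hb).symm, C.commute_of_zero hx₀ hx hb⟩
  · intro hu
    obtain ⟨x, hx, rfl⟩ := C.surj u hu.1
    exact ⟨x, ⟨hx, (C.commute_iff hx₀ hx hu.2.2.1.symm).mp hu.2.2.2⟩, rfl⟩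

theorem Chart.loc (g : Good D) (S : Setting D) (hn : 5 ≤ n) (C : Chart D a Q p)
    (hch : ∀ a ∈ D, ∃ p : V n → G, Chart D a Q p) (ha : a ∈ D) {c : G} (hc : c ∈ D)
    (hac : ¬ Commute a c) : Q3.Loc Q (Mv D a c Q p) := by
  refine ⟨fun x hx => hx.1, fun x ⟨hx, hm⟩ => ⟨by rw [q_neg, hx], by rw [C.neg x hx]; exact hm⟩, ?_,
    fun x ⟨hx, hxm⟩ y ⟨hy, hym⟩ => ⟨?_, ?_⟩, fun x ⟨hx, hxm⟩ => ?_⟩
  · obtain ⟨u, hu⟩ := (meets_linked S ha hc hac).1
    obtain ⟨x, hx, rfl⟩ := C.surj u hu.1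
    exact ⟨x, hx, hu⟩
  · rw [sub_eq_add_neg, ← neg_smul, q_add_smul, hx, hy, B_comm Q y x]; ring
  · rw [← C.conj x y hx hy]; exact common_conj_closed S hxm hym
  · obtain ⟨φ, h0, h1, h2, h3⟩ := key hn ha hc hac hch C hx hxm
    exact ⟨φ, h0, h1, h2, fun y hy hxy => ⟨fun k => (h3 y hy hxy).mp k.2, fun k => ⟨hy, (h3 y hy hxy).mpr k⟩⟩⟩

end Cfsg.Agent.Spor.FischerThm
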