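import Cfsg.Agent.Lib.Spor.FischerThm.ReflSpace

/-! Sets of points that are locally cut out by singular vectors are cut out by one singular vector. -/

set_option autoImplicit false
set_option linter.style.haveILetI false
set_option linter.unusedSectionVars false

namespace Cfsg.Agent.Spor.FischerThm.Q3

open Cfsg

variable {n : ℕ} (Q : QuadraticForm (ZMod 3) (V n))

/-- A singular vector cutting out the points of `M` orthogonal to `x`. -/
def CutAt (M : Set (V n)) (x φ : V n) : Prop :=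
  φ ≠ 0 ∧ Q φ = 0 ∧ B Q x φ = 0 ∧ ∀ y, Q y = 1 → B Q x y = 0 → (y ∈ M ↔ B Q φ y = 0)

/-- A set of points locally cut out by singular vectors. -/
structure Loc (M : Set (V n)) : Prop where
  pts : ∀ x ∈ M, Q x = 1
  neg : ∀ x ∈ M, -x ∈ M
  ne : M.Nonempty
  conj : ∀ x ∈ M, ∀ y ∈ M, y - B Q x y • x ∈ M
  cut : ∀ x ∈ M, ∃ φ, CutAt Q M x φ

/-- The points orthogonal to a vector. -/
def cutSet (φ : V n) : Set (V n) := {y | Q y = 1 ∧ B Q φ y = 0}

theorem CutAt.neg {M : Set (V n)} {x φ : V n} (h : CutAt Q M x φ) : CutAt Q M x (-φ) := by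
  obtain ⟨h0, h1, h2, h3⟩ := h
  exact ⟨neg_ne_zero.mpr h0, by rw [q_neg, h1], by rw [B_neg_right, h2, neg_zero],
    fun y hy hxy => by rw [h3 y hy hxy, B_neg_left, neg_eq_zero]⟩

theorem pair_list {x y : V n} (hx : Q x = 1) (hy : Q y = 1) (hxy : B Q x y = 0) :
    (∀ i, Q ((![x, y] : Fin 2 → V n) i) ≠ 0) ∧
      ∀ i j, i ≠ j → B Q ((![x, y] : Fin 2 → V n) i) ((![x, y] : Fin 2 → V n) j) = 0 := by
  have hyx : B Q y x = 0 := by rw [B_comm, hxy]
  refine ⟨fun i => by fin_cases i <;> simp [hx, hy], fun i j hij => ?_⟩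
  fin_cases i <;> fin_cases j <;> first | exact absurd rfl hij | exact hxy | exact hyx

theorem one_list {x : V n} (hx : Q x = 1) :
    (∀ i, Q ((fun _ => x : Fin 1 → V n) i) ≠ 0) ∧
      ∀ i j : Fin 1, i ≠ j → B Q ((fun _ => x : Fin 1 → V n) i) ((fun _ => x : Fin 1 → V n) j) = 0 :=
  ⟨fun _ => by rw [hx]; exact one_ne_zero, fun i j h => absurd (Subsingleton.elim i j) h⟩

variable (hQ : (QuadraticMap.polarBilin Q).Nondegenerate) (hn : 5 ≤ n)
include hQ hn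

/-- Two neighbours share their vector unless the forms leave no room. -/
theorem pair_or {M : Set (V n)} (L : Loc Q M) {a b φ φ' : V n} (ha : a ∈ M) (hb : b ∈ M)
    (hab : B Q a b = 0) (hφ : CutAt Q M a φ) (hφ' : CutAt Q M b φ') :
    φ' = φ ∨ φ' = -φ ∨
      (B Q φ φ' ≠ 0 ∧ ∀ u, Q u = 1 → B Q a u = 0 → B Q b u = 0 → B Q φ u ≠ 0) := by
  have qa := L.pts a ha
  have qb := L.pts b hb
  have hba : B Q b a = 0 := by rw [B_comm, hab]
  have hφb : B Q φ b = 0 := (hφ.2.2.2 b qb hab).mp hb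
  have hφ'a : B Q φ' a = 0 := (hφ'.2.2.2 a qa hba).mp ha
  have sees : ∀ u, Q u = 1 → B Q a u = 0 → B Q b u = 0 → B Q φ u = 0 → B Q φ' u = 0 :=
    fun u hu h1 h2 h3 => (hφ'.2.2.2 u hu h2).mp ((hφ.2.2.2 u hu h1).mpr h3)
  by_cases e1 : φ' = φ
  · exact Or.inl e1
  by_cases e2 : φ' = -φ
  · exact Or.inr (Or.inl e2)
  refine Or.inr (Or.inr ?_)
  have key : B Q φ φ' ≠ 0 := by
    intro h0
    obtain ⟨he, hp⟩ := pair_list Q qa qb hab
    obtain ⟨p, hp1, hpe, hp2, hp3⟩ := exists_point_sep Q hQ (k := 2) ![a, b] he hp hφ.1 hφ'.1 hφ'.2.1 h0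
      (fun i => by fin_cases i <;> first | exact hφ.2.2.1 | (rw [B_comm]; exact hφb))
      (fun i => by fin_cases i <;> first | (rw [B_comm]; exact hφ'a) | exact hφ'.2.2.1) e1 e2
    rw [sees p hp1 (hpe 0) (hpe 1) hp2] at hp3
    exact zero_ne_one hp3
  refine ⟨key, fun u hu h1 h2 h3 => key ?_⟩
  have aux : ∀ u, Q u = 1 → B Q a u = 0 → B Q b u = 0 → B Q φ u = 0 → B Q φ φ' = 0 := by
    intro u hu h1 h2 h3
    have hu' : Q (u + φ) = 1 := by rw [q_add, hu, hφ.2.1, B_comm, h3]; ring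
    have k := sees (u + φ) hu' (by rw [B_add_right, h1, hφ.2.2.1, add_zero])
      (by rw [B_add_right, h2, B_comm, hφb, add_zero]) (by rw [B_add_right, h3, B_self, hφ.2.1]; ring)
    rw [B_add_right, sees u hu h1 h2 h3, zero_add] at k
    rw [B_comm]; exact k
  exact aux u hu h1 h2 h3

/-- Gluing makes every local vector the same. -/
theorem one_vector {M : Set (V n)} (L : Loc Q M)
    (hglue : ∀ a ∈ M, ∀ b ∈ M, B Q a b = 0 → ∀ φ φ', CutAt Q M a φ → CutAt Q M b φ' → φ' = φ ∨ φ' = -φ) :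
    ∃ φ, φ ≠ 0 ∧ Q φ = 0 ∧ M ⊆ cutSet Q φ ∧
      ∀ y ∈ M, ∀ z, Q z = 1 → B Q y z = 0 → B Q φ z = 0 → z ∈ M := by
  obtain ⟨a, ha⟩ := L.ne
  obtain ⟨φ, hφ⟩ := L.cut a ha
  have qa := L.pts a ha
  obtain ⟨b, hb, hbe, hbφ⟩ := exists_point_perp Q hQ (k := 1) (by omega) (fun _ => a) (one_list Q qa).1
    (one_list Q qa).2 hφ.1 hφ.2.1 (fun _ => hφ.2.2.1)
  have hab : B Q a b = 0 := hbe 0
  have hbM : b ∈ M := (hφ.2.2.2 b hb hab).mpr hbφ
  have q1 : Q (b + φ) = 1 := by rw [q_add, hb, hφ.2.1, B_comm, hbφ]; ring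
  have hb1 : b + φ ∈ M := (hφ.2.2.2 _ q1 (by rw [B_add_right, hab, hφ.2.2.1, add_zero])).mpr
    (by rw [B_add_right, hbφ, B_self, hφ.2.1]; ring)
  have q2 : Q (b - φ) = 1 := by rw [q_sub, hb, hφ.2.1, B_comm, hbφ]; ring
  have hb2 : b - φ ∈ M := (hφ.2.2.2 _ q2 (by rw [B_sub_right, hab, hφ.2.2.1, sub_zero])).mpr
    (by rw [B_sub_right, hbφ, B_self, hφ.2.1]; ring)
  have hsub : M ⊆ cutSet Q φ := by
    intro y hy
    refine ⟨L.pts y hy, ?_⟩
    have via : ∀ x ∈ M, B Q a x = 0 → B Q x y = 0 → B Q φ y = 0 := by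
      intro x hx hax hxy
      obtain ⟨ψ, hψ⟩ := L.cut x hx
      have hy0 := (hψ.2.2.2 y (L.pts y hy) hxy).mp hy
      rcases hglue a ha x hx hax φ ψ hφ hψ with rfl | rfl
      · exact hy0
      · rwa [B_neg_left, neg_eq_zero] at hy0
    by_cases k0 : B Q a y = 0
    · exact (hφ.2.2.2 y (L.pts y hy) k0).mp hy
    by_cases k1 : B Q b y = 0
    · exact via b hbM hab k1
    by_cases k2 : B Q (b + φ) y = 0
    · exact via _ hb1 (by rw [B_add_right, hab, hφ.2.2.1, add_zero]) k2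
    by_cases k3 : B Q (b - φ) y = 0
    · exact via _ hb2 (by rw [B_sub_right, hab, hφ.2.2.1, sub_zero]) k3
    rw [B_add_left] at k2
    rw [B_sub_left] at k3
    exact (by decide : ∀ β γ : ZMod 3, β ≠ 0 → β + γ ≠ 0 → β - γ ≠ 0 → γ = 0) _ _ k1 k2 k3
  refine ⟨φ, hφ.1, hφ.2.1, hsub, fun y hy z hz hyz hzφ => ?_⟩
  obtain ⟨ψ, hψ⟩ := L.cut y hy
  have qy := L.pts y hy
  have hψy := hψ.2.2.1
  have hφy : B Q y φ = 0 := by rw [B_comm]; exact (hsub hy).2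
  obtain ⟨w, hw, hwe, hwψ⟩ := exists_point_perp Q hQ (k := 1) (by omega) (fun _ => y) (one_list Q qy).1
    (one_list Q qy).2 hψ.1 hψ.2.1 (fun _ => hψy)
  have qw : Q (w + ψ) = 1 := by rw [q_add, hw, hψ.2.1, B_comm, hwψ]; ring
  have hw' : w + ψ ∈ M := (hψ.2.2.2 _ qw (by rw [B_add_right, hwe 0, hψy, add_zero])).mpr
    (by rw [B_add_right, hwψ, B_self, hψ.2.1]; ring)
  have hwM : w ∈ M := (hψ.2.2.2 w hw (hwe 0)).mpr hwψ
  have hψφ : B Q ψ φ = 0 := by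
    have k := (hsub hw').2
    rw [B_add_right, (hsub hwM).2, zero_add] at k
    rw [B_comm]; exact k
  by_cases e1 : φ = ψ
  · exact (hψ.2.2.2 z hz hyz).mpr (e1 ▸ hzφ)
  by_cases e2 : φ = -ψ
  · refine (hψ.2.2.2 z hz hyz).mpr ?_
    rwa [e2, B_neg_left, neg_eq_zero] at hzφ
  obtain ⟨p, hp, hpe, hp1, hp2⟩ := exists_point_sep Q hQ (k := 1) (fun _ => y) (one_list Q qy).1
    (one_list Q qy).2 hψ.1 hφ.1 hφ.2.1 hψφ (fun _ => hψy) (fun _ => hφy) e1 e2
  rw [(hsub ((hψ.2.2.2 p hp (hpe 0)).mpr hp1)).2] at hp2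
  exact absurd hp2 zero_ne_one

omit hn in
/-- Points orthogonal to a singular vector have common neighbours in dimension seven or more. -/
theorem cut_linked (h7 : 7 ≤ n) {φ a x : V n} (hφ : φ ≠ 0) (hqφ : Q φ = 0) (ha : Q a = 1) (hx : Q x = 1)
    (haφ : B Q φ a = 0) (hxφ : B Q φ x = 0) :
    ∃ z, Q z = 1 ∧ B Q φ z = 0 ∧ B Q a z = 0 ∧ B Q z x = 0 := by
  obtain ⟨ψ, hψ, hφψ, hψa⟩ := exists_partner Q hQ (fun _ : Fin 1 => a) (one_list Q ha).1 (one_list Q ha).2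
    hφ hqφ (fun _ => by rw [B_comm]; exact haφ)
  have haψ : B Q a ψ = 0 := hψa 0
  have haφ' : B Q a φ = 0 := by rw [B_comm]; exact haφ
  set t := B Q x ψ with ht
  set x' := x + (-t) • φ with hx'
  have qx' : Q x' = 1 := by rw [hx', q_add_smul, hx, hqφ, B_comm Q x φ, hxφ]; ring
  have x'φ : B Q φ x' = 0 := by rw [hx', B_add_right, B_smul_right, hxφ, B_self, hqφ]; ring
  have x'ψ : B Q x' ψ = 0 := by rw [hx', B_add_left, B_smul_left, hφψ, ← ht]; ring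
  suffices h : ∃ z, Q z = 1 ∧ B Q φ z = 0 ∧ B Q a z = 0 ∧ B Q x' z = 0 by
    obtain ⟨z, z1, z2, z3, z4⟩ := h
    refine ⟨z, z1, z2, z3, ?_⟩
    rw [hx', B_add_left, B_smul_left, z2, mul_zero, add_zero] at z4
    rw [B_comm]; exact z4
  by_cases hb : B Q a x' = 0
  · obtain ⟨he, hp⟩ := pair_list Q ha qx' hb
    obtain ⟨z, z1, z2, z3⟩ := exists_point_perp Q hQ (k := 2) (by omega) ![a, x'] he hp hφ hqφ
      (fun i => by fin_cases i <;> first | exact haφ' | (rw [B_comm]; exact x'φ))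
    exact ⟨z, z1, z3, z2 0, z2 1⟩
  obtain ⟨l, hr, har⟩ := ReflThree.radical_of_plane (one_ne_zero (α := ZMod 3)) ha qx' hb
  set r := x' - l • a with hr'
  have hφr : B Q φ r = 0 := by rw [hr', B_sub_right, B_smul_right, x'φ, haφ]; ring
  have hrψ : B Q r ψ = 0 := by rw [hr', B_sub_left, B_smul_left, x'ψ, haψ]; ring
  have q1 : Q (φ + ψ) = 1 := by rw [q_add, hqφ, hψ, hφψ]; rfl
  have q2 : Q (φ - ψ) = 2 := by rw [q_sub, hqφ, hψ, hφψ]; rfl
  obtain ⟨he1, hp1⟩ := snoc_list Q (one_list Q ha).1 (one_list Q ha).2 (z := φ + ψ)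
    (by rw [q1]; decide) fun _ => by rw [B_add_right, haφ', haψ, add_zero]
  obtain ⟨he2, hp2⟩ := snoc_list Q he1 hp1 (z := φ - ψ) (by rw [q2]; decide) fun i => by
    refine Fin.lastCases ?_ (fun i => ?_) i
    · rw [Fin.snoc_last, B_add_left, B_sub_right, B_sub_right, B_self, B_self, hqφ, hψ, B_comm Q ψ φ]
      ring
    · rw [Fin.snoc_castSucc, B_sub_right, haφ', haψ, sub_zero]
  have fin : ∀ z, (∀ i, B Q ((Fin.snoc (Fin.snoc (fun _ : Fin 1 => a) (φ + ψ)) (φ - ψ) : Fin 3 → V n) i) z = 0) →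
      B Q a z = 0 ∧ B Q φ z = 0 := fun z hz => by
    refine ⟨by simpa using hz (0 : Fin 1).castSucc.castSucc, ?_⟩
    have h1 : B Q (φ + ψ) z = 0 := by
      have := hz (Fin.last 1).castSucc
      rwa [Fin.snoc_castSucc, Fin.snoc_last] at this
    have h2 : B Q (φ - ψ) z = 0 := by
      have := hz (Fin.last 2)
      rwa [Fin.snoc_last] at this
    rw [B_add_left] at h1
    rw [B_sub_left] at h2
    exact (by decide : ∀ x y : ZMod 3, x + y = 0 → x - y = 0 → x = 0) _ _ h1 h2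
  have ex : x' = r + l • a := by rw [hr']; abel
  by_cases hr0 : r = 0
  · obtain ⟨z, z1, z2⟩ := ReflThree.exists_norm_perp hQ (c := 1) one_ne_zero (k := 3) (by omega) _ he2 hp2
    obtain ⟨e1, e2⟩ := fin z z2
    exact ⟨z, z1, e2, e1, by rw [ex, hr0, zero_add, B_smul_left, e1, mul_zero]⟩
  obtain ⟨z, z1, z2, z3⟩ := exists_point_perp Q hQ (k := 3) (by omega) _ he2 hp2 hr0 hr fun i => by
    refine Fin.lastCases ?_ (fun i => ?_) i
    · rw [Fin.snoc_last, B_sub_left, hφr, B_comm, hrψ, sub_zero]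
    · refine Fin.lastCases ?_ (fun i => ?_) i
      · rw [Fin.snoc_castSucc, Fin.snoc_last, B_add_left, hφr, B_comm, hrψ, add_zero]
      · rw [Fin.snoc_castSucc, Fin.snoc_castSucc]; exact har
  obtain ⟨e1, e2⟩ := fin z z2
  exact ⟨z, z1, e2, e1, by rw [ex, B_add_left, z3, B_smul_left, e1]; ring⟩

/-- In dimension seven or more the set is cut out by one vector. -/
theorem linear_large {M : Set (V n)} (L : Loc Q M) (h7 : 7 ≤ n) :
    ∃ φ, φ ≠ 0 ∧ Q φ = 0 ∧ M = cutSet Q φ := by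
  obtain ⟨φ, h0, hq, hsub, hcl⟩ := one_vector Q hQ hn L fun a ha b hb hab φ φ' hφ hφ' => by
    rcases pair_or Q hQ hn L ha hb hab hφ hφ' with h | h | ⟨-, hno⟩
    · exact Or.inl h
    · exact Or.inr h
    · obtain ⟨he, hp⟩ := pair_list Q (L.pts a ha) (L.pts b hb) hab
      obtain ⟨u, hu, hue, huφ⟩ := exists_point_perp Q hQ (k := 2) (by omega) ![a, b] he hp hφ.1 hφ.2.1
        (fun i => by
          fin_cases i
          · exact hφ.2.2.1
          · show B Q b φ = 0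
            rw [B_comm]; exact (hφ.2.2.2 b (L.pts b hb) hab).mp hb)
      exact absurd huφ (hno u hu (hue 0) (hue 1))
  refine ⟨φ, h0, hq, Set.eq_of_subset_of_subset hsub fun x ⟨hx, hxφ⟩ => ?_⟩
  obtain ⟨a, ha⟩ := L.ne
  obtain ⟨z, hz, hzφ, haz, hzx⟩ := cut_linked Q hQ h7 h0 hq (L.pts a ha) hx (hsub ha).2 hxφ
  exact hcl z (hcl a ha z hz haz hzφ) x hx hzx hxφ

end Cfsg.Agent.Spor.FischerThm.Q3
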