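import Cfsg.Agent.Lib.Spor.FischerThm.ReflModel
import Cfsg.Agent.Lib.Spor.FischerThm.Model

/-! Charts of the perpendiculars, and the common perpendicular of an apart pair near one of its points. -/

set_option autoImplicit false
set_option linter.style.haveILetI false
set_option linter.unusedSectionVars false
set_option maxHeartbeats 400000

namespace Cfsg.Agent.Spor.FischerThm

open Cfsg Cfsg.Agent.Spor.ThreeTrans Cfsg.Agent.Block.FischerTypes
open Cfsg.Agent.Spor.FischerThm.Q3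

variable {n : ℕ} {G : Type*} [Group G] [Finite G] {D : Set G}

/-- The perpendicular of a member read in the points of a quadratic space. -/
structure Chart (D : Set G) (a : G) (Q : QuadraticForm (ZMod 3) (V n)) (p : V n → G) : Prop where
  nd : (QuadraticMap.polarBilin Q).Nondegenerate
  mem : ∀ x, Q x = 1 → p x ∈ perp D a
  surj : ∀ u ∈ perp D a, ∃ x, Q x = 1 ∧ u = p x
  inj : ∀ x y, Q x = 1 → Q y = 1 → p x = p y → x = y ∨ x = -y
  neg : ∀ x, Q x = 1 → p (-x) = p x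
  comm : ∀ x y, Q x = 1 → Q y = 1 → (Commute (p x) (p y) ↔ B Q x y = 0 ∨ p x = p y)
  conj : ∀ x y, Q x = 1 → Q y = 1 → p x * p y * p x = p (y - B Q x y • x)

theorem chart_of_model (S : Setting D) {d : G} (hd : d ∈ D) {X : Type*} [Group X] {E : Set X}
    {Q : QuadraticForm (ZMod 3) (V n)} {pv : V n → X} (R : RModel E Q pv) (τ : PerpQuot D d ≃* X)
    (hτ : τ '' perpSet D d = E) {a : G} (ha : a ∈ D) : ∃ p : V n → G, Chart D a Q p := by
  classical
  obtain ⟨σ, hσ⟩ := quot_iso S ha hd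
  have he : (σ.trans τ) '' perpSet D a = E := by
    rw [← hτ, ← hσ]; exact (Set.image_image (⇑τ) (⇑σ) (perpSet D a)).symm
  obtain ⟨ψ, Rd⟩ := exists_read S ha (σ.trans τ) he
  let p : V n → G := fun x => if hx : Q x = 1 then (Rd.surj _ (R.mem x hx)).choose else 1
  have hp : ∀ x, Q x = 1 → p x ∈ perp D a ∧ ψ (p x) = pv x := fun x hx => by
    simp only [p, dif_pos hx]; exact (Rd.surj _ (R.mem x hx)).choose_spec
  have eqv : ∀ x y, Q x = 1 → Q y = 1 → (p x = p y ↔ pv x = pv y) := fun x y hx hy =>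
    ⟨fun e => by rw [← (hp x hx).2, e, (hp y hy).2], fun e =>
      Rd.inj _ (hp x hx).1 _ (hp y hy).1 (by rw [(hp x hx).2, e, (hp y hy).2])⟩
  refine ⟨p, R.nd, fun x hx => (hp x hx).1, fun u hu => ?_, fun x y hx hy e => R.inj x y hx hy ((eqv x y hx hy).mp e),
    fun x hx => (eqv _ _ (by rw [q_neg, hx]) hx).mpr (R.neg x), fun x y hx hy => ?_, fun x y hx hy => ?_⟩
  · obtain ⟨x, hx, e⟩ := R.surj _ (Rd.mem u hu)
    exact ⟨x, hx, Rd.inj u hu _ (hp x hx).1 (e.trans (hp x hx).2.symm)⟩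
  · rw [← Rd.comm _ (hp x hx).1 _ (hp y hy).1, (hp x hx).2, (hp y hy).2, R.comm x y hx hy, eqv x y hx hy]
  · obtain ⟨hw, ew⟩ := Rd.conj _ (hp x hx).1 _ (hp y hy).1
    have hm := R.q_move hx hy
    refine Rd.inj _ hw _ (hp _ hm).1 ?_
    rw [ew, (hp x hx).2, (hp y hy).2, (hp _ hm).2, R.conj x y hx hy]

variable {a : G} {Q : QuadraticForm (ZMod 3) (V n)} {p : V n → G}

theorem Chart.commute_iff (C : Chart D a Q p) {x y : V n} (hx : Q x = 1) (hy : Q y = 1)
    (hne : p x ≠ p y) : Commute (p x) (p y) ↔ B Q x y = 0 := by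
  rw [C.comm x y hx hy, or_iff_left hne]

theorem Chart.ne_of_perp (C : Chart D a Q p) {x y : V n} (hx : Q x = 1) (hy : Q y = 1)
    (h : B Q x y = 0) : p x ≠ p y := fun e => by
  rcases C.inj x y hx hy e with rfl | rfl
  · rw [B_self, hx] at h; exact (by decide : (2 : ZMod 3) * 1 ≠ 0) h
  · rw [q_neg] at hx
    rw [B_neg_left, B_self, hx] at h; exact (by decide : -((2 : ZMod 3) * 1) ≠ 0) h

theorem Chart.commute_of_zero (C : Chart D a Q p) {x y : V n} (hx : Q x = 1) (hy : Q y = 1)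
    (h : B Q x y = 0) : Commute (p x) (p y) := (C.comm x y hx hy).mpr (Or.inl h)

/-- Two apart members span a plane with a singular radical. -/
theorem Chart.exists_radical (C : Chart D a Q p) {U W : G} (hU : U ∈ perp D a) (hW : W ∈ perp D a)
    (hUW : ¬ Commute U W) :
    ∃ u φ, Q u = 1 ∧ φ ≠ 0 ∧ Q φ = 0 ∧ B Q u φ = 0 ∧ U = p u ∧ W = p (u + φ) ∧ U * W * U = p (u - φ) := by
  obtain ⟨u, hu, rfl⟩ := C.surj U hU
  obtain ⟨w, hw, rfl⟩ := C.surj W hW
  have hne : p u ≠ p w := fun e => hUW (e ▸ Commute.refl _)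
  have hb : B Q u w ≠ 0 := fun e => hUW (C.commute_of_zero hu hw e)
  obtain ⟨l, hq, hl⟩ := ReflThree.radical_of_plane (one_ne_zero (α := ZMod 3)) hu hw hb
  have hl' : B Q u w = 2 * l := by
    change B Q u (w - l • u) = 0 at hl
    rw [B_sub_right, B_smul_right, B_self, hu, mul_one] at hl
    linear_combination hl
  have hl0 : l ≠ 0 := fun e => hb (by rw [hl', e, mul_zero])
  have hll : l * l = 1 := ReflThree.three_cases l hl0
  refine ⟨u, l • (w - l • u), hu, ?_, ?_, ?_, rfl, ?_, ?_⟩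
  · intro e
    rcases smul_eq_zero.mp e with e | e
    · exact hl0 e
    · rw [sub_eq_zero] at e
      rcases smul_cases (φ := u) (fun e0 => one_ne_zero (α := ZMod 3) (by rw [← hw, e0, QuadraticMap.map_zero])) l e with r | r
      · exact hne (by rw [r])
      · exact hne (by rw [r, C.neg u hu])
  · rw [q_smul, hq, mul_zero]
  · rw [B_smul_right]
    change B Q u (w - l • u) = 0 at hl
    rw [hl, mul_zero]
  · have e : u + l • (w - l • u) = l • w := by
      rw [smul_sub, smul_smul, hll, one_smul]; abel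
    rw [e]
    rcases (by decide : ∀ t : ZMod 3, t ≠ 0 → t = 1 ∨ t = -1) l hl0 with r | r
    · rw [r, one_smul]
    · rw [r, neg_one_smul, C.neg w hw]
  · rw [C.conj u w hu hw, hl']
    have hm : Q (w - (2 * l) • u) = 1 := by
      rw [sub_eq_add_neg, ← neg_smul, q_add_smul, hu, hw, B_comm Q w u, hl']; ring
    rcases (by decide : ∀ t : ZMod 3, t ≠ 0 → t = 1 ∨ t = -1) l hl0 with r | r
    · subst r
      rw [← C.neg _ hm]
      congr 1
      simp only [one_smul, mul_one, two_smul]; abel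
    · subst r
      congr 1
      simp only [neg_one_smul, mul_neg, mul_one, neg_smul, one_smul, two_smul, sub_neg_eq_add]; abel

/-- Orthogonality to the radical is seen in the commuting graph. -/
theorem Chart.radical_iff (C : Chart D a Q p) {u φ z : V n} (hu : Q u = 1) (hφ : Q φ = 0)
    (hb : B Q u φ = 0) (hz : Q z = 1) :
    B Q φ z = 0 ↔ (p z = p u ∨ p z = p (u + φ) ∨ p z = p (u - φ) ∨
      ((Commute (p z) (p u) ↔ Commute (p z) (p (u + φ))) ∧
        (Commute (p z) (p u) ↔ Commute (p z) (p (u - φ))))) := by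
  have q1 : Q (u + φ) = 1 := by rw [q_add, hu, hφ, hb]; ring
  have q2 : Q (u - φ) = 1 := by rw [q_sub, hu, hφ, hb]; ring
  have hφφ : B Q φ φ = 0 := by rw [B_self, hφ, mul_zero]
  have hφu : B Q φ u = 0 := by rw [B_comm, hb]
  have same : ∀ y, Q y = 1 → B Q φ y = 0 → p z = p y → B Q φ z = 0 := fun y hy hy0 e => by
    rcases C.inj z y hz hy e with rfl | rfl
    · exact hy0
    · rw [B_neg_right, hy0, neg_zero]
  by_cases e0 : p z = p u
  · exact iff_of_true (same u hu hφu e0) (Or.inl e0)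
  by_cases e1 : p z = p (u + φ)
  · exact iff_of_true (same _ q1 (by rw [B_add_right, hφu, hφφ, add_zero]) e1) (Or.inr (Or.inl e1))
  by_cases e2 : p z = p (u - φ)
  · exact iff_of_true (same _ q2 (by rw [B_sub_right, hφu, hφφ, sub_zero]) e2)
      (Or.inr (Or.inr (Or.inl e2)))
  rw [or_iff_right e0, or_iff_right e1, or_iff_right e2, C.commute_iff hz hu e0, C.commute_iff hz q1 e1,
    C.commute_iff hz q2 e2, B_add_right, B_sub_right, B_comm Q φ z]
  have : ∀ β γ : ZMod 3, γ = 0 ↔ ((β = 0 ↔ β + γ = 0) ∧ (β = 0 ↔ β - γ = 0)) := by decide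
  exact this _ _

/-- Near one of its points the common perpendicular of an apart pair is cut out by a singular vector. -/
theorem key (hn : 5 ≤ n) {d c : G} (hd : d ∈ D) (hc : c ∈ D) (hdc : ¬ Commute d c)
    (hch : ∀ a ∈ D, ∃ p : V n → G, Chart D a Q p) (C : Chart D d Q p) {x : V n} (hx : Q x = 1)
    (hxM : p x ∈ common D d c) :
    ∃ φ, φ ≠ 0 ∧ Q φ = 0 ∧ B Q x φ = 0 ∧
      ∀ y, Q y = 1 → B Q x y = 0 → (p y ∈ common D d c ↔ B Q φ y = 0) := by
  obtain ⟨q, Ca⟩ := hch (p x) hxM.1.1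
  have hda : d ∈ perp D (p x) := ⟨hd, (C.mem x hx).2.1.symm, (C.mem x hx).2.2.symm⟩
  have hca : c ∈ perp D (p x) := ⟨hc, hxM.2.2.1.symm, hxM.2.2.2.symm⟩
  obtain ⟨u₀, φ₀, hu₀, hφ₀, hqφ₀, hb₀, ed, ec, -⟩ := Ca.exists_radical hda hca hdc
  obtain ⟨u, hu, hue, huφ⟩ := exists_point_perp Q C.nd (k := 1) (by omega) (fun _ => u₀)
    (fun _ => by rw [hu₀]; exact one_ne_zero) (fun i j h => absurd (Subsingleton.elim i j) h) hφ₀ hqφ₀
    (fun _ => hb₀)
  have hu0u : B Q u₀ u = 0 := hue 0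
  have huφ' : B Q u φ₀ = 0 := by rw [B_comm, huφ]
  have q1 : Q (u + φ₀) = 1 := by rw [q_add, hu, hqφ₀, huφ']; ring
  have inP : ∀ z, Q z = 1 → B Q u₀ z = 0 → q z ∈ perp D d := fun z hz hb => by
    refine ⟨(Ca.mem z hz).1, fun e => Ca.ne_of_perp hu₀ hz hb (by rw [← ed, e]), ?_⟩
    have := Ca.commute_of_zero hu₀ hz hb
    rwa [← ed] at this
  have hv0 : B Q u₀ (u + φ₀) = 0 := by rw [B_add_right, hu0u, hb₀, add_zero]
  have hnc : ¬ Commute (q u) (q (u + φ₀)) := by
    have hne : q u ≠ q (u + φ₀) := fun e => by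
      rcases Ca.inj u _ hu q1 e with r | r
      · exact hφ₀ (by simpa using r)
      · have := congrArg (B Q u₀) r
        rw [hu0u, B_neg_right, hv0, neg_zero] at this
        have h2 := congrArg (B Q u) r
        rw [B_self, hu, B_neg_right, B_add_right, B_self, hu, huφ'] at h2
        exact (by decide : (2 : ZMod 3) * 1 ≠ -((2 : ZMod 3) * 1 + 0)) h2
    rw [Ca.commute_iff hu q1 hne, B_add_right, B_self, hu, huφ']; decide
  obtain ⟨u₁, φ₁, hu₁, hφ₁, hqφ₁, hb₁, eU, eV, eW⟩ := C.exists_radical (inP u hu hu0u) (inP _ q1 hv0) hnc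
  have eW' : q u * q (u + φ₀) * q u = q (u - φ₀) := by
    rw [Ca.conj u _ hu q1, B_add_right, B_self, hu, huφ']
    rw [← Ca.neg (u - φ₀) (by rw [q_sub, hu, hqφ₀, huφ']; ring)]
    congr 1
    simp only [mul_one, add_zero, two_smul]; abel
  rw [eW'] at eW
  have q2 : Q (u₁ + φ₁) = 1 := by rw [q_add, hu₁, hqφ₁, hb₁]; ring
  have hxu : B Q x u₁ = 0 := by
    have hne : p x ≠ p u₁ := fun e => (Ca.mem u hu).2.1 (by rw [eU, ← e])
    exact (C.commute_iff hx hu₁ hne).mp (by rw [← eU]; exact (Ca.mem u hu).2.2)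
  have hxv : B Q x (u₁ + φ₁) = 0 := by
    have hne : p x ≠ p (u₁ + φ₁) := fun e => (Ca.mem _ q1).2.1 (by rw [eV, ← e])
    exact (C.commute_iff hx q2 hne).mp (by rw [← eV]; exact (Ca.mem _ q1).2.2)
  refine ⟨φ₁, hφ₁, hqφ₁, by rwa [B_add_right, hxu, zero_add] at hxv, fun y hy hxy => ?_⟩
  have hya : p y ∈ perp D (p x) :=
    ⟨(C.mem y hy).1, (C.ne_of_perp hx hy hxy).symm, C.commute_of_zero hx hy hxy⟩
  obtain ⟨z, hz, ez⟩ := Ca.surj _ hya
  have hzu : B Q u₀ z = 0 := by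
    have hne : q u₀ ≠ q z := fun e => (C.mem y hy).2.1 (by rw [ez, ← e, ← ed])
    exact (Ca.commute_iff hu₀ hz hne).mp (by rw [← ed, ← ez]; exact (C.mem y hy).2.2)
  have hcz : c ≠ p y := fun e => hdc (by rw [e]; exact (C.mem y hy).2.2)
  have qv0 : Q (u₀ + φ₀) = 1 := by rw [q_add, hu₀, hqφ₀, hb₀]; ring
  have hM : p y ∈ common D d c ↔ B Q φ₀ z = 0 := by
    have h1 : Commute c (p y) ↔ B Q φ₀ z = 0 := by
      rw [ec, ez, Ca.commute_iff qv0 hz (by rw [← ec, ← ez]; exact hcz), B_add_left, hzu, zero_add]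
    rw [← h1]
    exact ⟨fun k => k.2.2.2, fun k => ⟨C.mem y hy, (C.mem y hy).1, hcz.symm, k⟩⟩
  rw [hM, Ca.radical_iff hu hqφ₀ huφ' hz, C.radical_iff hu₁ hqφ₁ hb₁ hy, ← ez, ← eU, ← eV, ← eW]

end Cfsg.Agent.Spor.FischerThm
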