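import Cfsg.Agent.Lib.Spor.FischerThm.ReflSmall

/-! The apart members of a member as the singular vectors of its chart. -/

set_option autoImplicit false
set_option linter.style.haveILetI false
set_option linter.unusedSectionVars false
set_option maxHeartbeats 400000

namespace Cfsg.Agent.Spor.FischerThm

open Cfsg Cfsg.Agent.Spor.ThreeTrans Cfsg.Agent.Block.FischerTypes
open Cfsg.Agent.Spor.ThreeTrans renaming mul_self → dsq
open Cfsg.Agent.Spor.FischerThm.Q3

variable {n : ℕ} {G : Type*} [Group G] [Finite G] {D : Set G}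

/-- An apart member with its singular vector. -/
def Cls (D : Set G) (d : G) (Q : QuadraticForm (ZMod 3) (V n)) (p : V n → G) (y : G) (ψ : V n) : Prop :=
  y ∈ D ∧ ¬ Commute d y ∧ ψ ≠ 0 ∧ Q ψ = 0 ∧ Mv D d y Q p = cutSet Q ψ

variable {d : G} {Q : QuadraticForm (ZMod 3) (V n)} {p : V n → G}

theorem Cls.neg {y : G} {ψ : V n} (h : Cls D d Q p y ψ) : Cls D d Q p y (-ψ) := by
  obtain ⟨h1, h2, h3, h4, h5⟩ := h
  refine ⟨h1, h2, neg_ne_zero.mpr h3, by rw [q_neg, h4], h5.trans (Set.ext fun x => ?_)⟩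
  simp [cutSet, B_neg_left]

theorem Cls.commute_iff (C : Chart D d Q p) {y : G} {ψ x : V n} (h : Cls D d Q p y ψ) (hx : Q x = 1) :
    Commute y (p x) ↔ B Q ψ x = 0 := by
  rw [← C.mem_common_iff h.2.1 hx]
  exact ⟨fun k => ((Set.ext_iff.mp h.2.2.2.2 x).mp ⟨hx, k⟩).2,
    fun k => ((Set.ext_iff.mp h.2.2.2.2 x).mpr ⟨hx, k⟩).2⟩

theorem cut_unique (hQ : (QuadraticMap.polarBilin Q).Nondegenerate) (hn : 5 ≤ n) {φ φ' : V n} (h0 : φ ≠ 0)
    (h1 : Q φ = 0) (h0' : φ' ≠ 0) (h1' : Q φ' = 0) (h : cutSet Q φ = cutSet Q φ') :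
    φ' = φ ∨ φ' = -φ := by
  by_contra hno
  push Not at hno
  have e0 : ∀ i : Fin 0, Q ((fun i => i.elim0 : Fin 0 → V n) i) ≠ 0 := fun i => i.elim0
  obtain ⟨u, hu, -, huφ⟩ := exists_point_perp Q hQ (k := 0) (by omega) (fun i => i.elim0) e0
    (fun i => i.elim0) h0 h1 fun i => i.elim0
  have hu' : Q (u + φ) = 1 := by rw [q_add, hu, h1, B_comm, huφ]; ring
  have a1 := ((Set.ext_iff.mp h u).mp ⟨hu, huφ⟩).2
  have a2 := ((Set.ext_iff.mp h (u + φ)).mp ⟨hu', by rw [B_add_right, huφ, B_self, h1]; ring⟩).2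
  rw [B_add_right, a1, zero_add] at a2
  obtain ⟨x, hx, -, hx1, hx2⟩ := exists_point_sep Q hQ (k := 0) (fun i => i.elim0) e0 (fun i => i.elim0)
    h0 h0' h1' (by rw [B_comm]; exact a2) (fun i => i.elim0) (fun i => i.elim0) hno.1 hno.2
  rw [((Set.ext_iff.mp h x).mp ⟨hx, hx1⟩).2] at hx2
  exact zero_ne_one hx2

theorem cls_conj_d (S : Setting D) (C : Chart D d Q p) (hd : d ∈ D) {y : G} {ψ : V n}
    (h : Cls D d Q p y ψ) : Cls D d Q p (d * y * d) ψ := by
  have hsq := dsq S.cls.1 hd
  have hnc : ¬ Commute d (d * y * d) := fun k => h.2.1 (by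
    have := (commute_swap hsq).mp k.symm
    rwa [hsq, one_mul, Commute.symm_iff] at this)
  refine ⟨conj'_mem S.cls hd h.1, hnc, h.2.2.1, h.2.2.2.1, Eq.trans ?_ h.2.2.2.2⟩
  ext x
  refine and_congr_right fun hx => ?_
  rw [C.mem_common_iff hnc hx, C.mem_common_iff h.2.1 hx, commute_swap hsq,
    (C.mem x hx).2.2.eq, mul_assoc, hsq, mul_one]

/-- The reflection in a point moves the classes. -/
theorem cls_conj_point (S : Setting D) (C : Chart D d Q p) {y : G} {ψ v : V n}
    (h : Cls D d Q p y ψ) (hv : Q v = 1) : Cls D d Q p (p v * y * p v) (ψ - B Q v ψ • v) := by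
  obtain ⟨hvD, -, hdv⟩ := C.mem v hv
  have hsq := dsq S.cls.1 hvD
  have hnc : ¬ Commute d (p v * y * p v) := fun k => h.2.1 (by
    have := (commute_swap hsq).mp k.symm
    rw [show p v * d * p v = d by rw [← hdv.eq, mul_assoc, hsq, mul_one]] at this
    exact this.symm)
  have hB : ∀ x, B Q (ψ - B Q v ψ • v) x = B Q ψ (x - B Q v x • v) := fun x => by
    rw [B_sub_left, B_sub_right, B_smul_left, B_smul_right, B_comm Q ψ v]; ring
  refine ⟨conj'_mem S.cls hvD h.1, hnc, ?_, ?_, Set.ext fun x => and_congr_right fun hx => ?_⟩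
  · intro e
    rw [sub_eq_zero] at e
    have : Q ψ = B Q v ψ * B Q v ψ * Q v := by conv_lhs => rw [e, q_smul]
    rw [h.2.2.2.1, hv, mul_one] at this
    have h0 : B Q v ψ = 0 := (mul_self_eq_zero).mp this.symm
    exact h.2.2.1 (by rw [e, h0, zero_smul])
  · rw [sub_eq_add_neg, ← neg_smul, q_add_smul, h.2.2.2.1, hv, B_comm Q ψ v]; ring
  · have hm : Q (x - B Q v x • v) = 1 := by
      rw [sub_eq_add_neg, ← neg_smul, q_add_smul, hx, hv, B_comm Q x v]; ring
    rw [C.mem_common_iff hnc hx, commute_swap hsq, C.conj v x hv hx, h.commute_iff C hm, hB]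

variable (g : Good D) (S : Setting D) (hn : 5 ≤ n) (hd : d ∈ D) (C : Chart D d Q p)
  (hlin : ∀ y ∈ D, ¬ Commute d y → ∃ ψ, Cls D d Q p y ψ)
include g S hn hd C hlin

/-- Every singular vector is met. -/
theorem cls_hit {ψ : V n} (h0 : ψ ≠ 0) (h1 : Q ψ = 0) : ∃ y, Cls D d Q p y ψ := by
  obtain ⟨c, hc, hdc⟩ := exists_not_commute S.cls (two_of_nc S.hyp) hd
  obtain ⟨φ, hφ⟩ := hlin c hc hdc
  exact sing_orbit Q C.nd (A := {ψ | ∃ y, Cls D d Q p y ψ}) (fun x ⟨y, hy⟩ => ⟨y, hy.neg⟩)
    (fun u hu x ⟨y, hy⟩ => ⟨_, cls_conj_point S C hy hu⟩) (φ := φ) ⟨c, hφ⟩ hφ.2.2.2.1 hφ.2.2.1 ψ h0 h1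

omit hlin in
theorem dyd_ne {y : G} (hy : y ∈ D) (h : ¬ Commute d y) : d * y * d ≠ y := fun e => h (by
  show d * y = y * d
  conv_rhs => rw [← e]
  rw [mul_assoc (d * y), dsq S.cls.1 hd, mul_one])

/-- The members with the same vector are a member and its translate. -/
theorem cls_two {ψ : V n} {y y' : G} (hy : Cls D d Q p y ψ) (hy' : Cls D d Q p y' ψ) :
    y' = y ∨ y' = d * y * d := by
  classical
  haveI : Fintype G := Fintype.ofFinite G
  obtain ⟨x, hx, -, hxψ⟩ := exists_point_perp Q C.nd (k := 0) (by omega) (fun i => i.elim0) (fun i => i.elim0)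
    (fun i => i.elim0) hy.2.2.1 hy.2.2.2.1 fun i => i.elim0
  have hxm := C.mem x hx
  have hxd : d ∈ perp D (p x) := ⟨hd, hxm.2.1.symm, hxm.2.2.symm⟩
  -- the singular vectors at the point
  let Sx : Finset (V n) := Finset.univ.filter fun r => r ≠ 0 ∧ Q r = 0 ∧ B Q x r = 0
  let N : Finset G := Finset.univ.filter fun z => z ∈ D ∧ ¬ Commute d z ∧ Commute z (p x)
  have hN : N.card + 1 + (common D d (p x)).ncard = (perp D d).ncard := by
    rw [← perp_card_eq S hd hxm.1]
    have e : perp D (p x) = insert d (common D d (p x) ∪ ↑N) := by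
      ext z
      simp only [N, Set.mem_insert_iff, Set.mem_union, Finset.coe_filter, Finset.mem_univ, true_and, Set.mem_setOf_eq]
      constructor
      · intro hz
        by_cases e : z = d
        · exact Or.inl e
        by_cases k : Commute d z
        · exact Or.inr (Or.inl ⟨⟨hz.1, e, k⟩, hz⟩)
        · exact Or.inr (Or.inr ⟨hz.1, k, hz.2.2.symm⟩)
      · rintro (rfl | k | ⟨k1, k2, k3⟩)
        · exact hxd
        · exact k.2
        · exact ⟨k1, fun e => k2 (e ▸ hxm.2.2), k3.symm⟩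
    have hdis : Disjoint (common D d (p x)) ↑N := Set.disjoint_left.mpr fun z hz hz' => by
      simp only [N, Finset.coe_filter, Finset.mem_univ, true_and, Set.mem_setOf_eq] at hz'
      exact hz'.2.1 hz.1.2.2
    rw [e, Set.ncard_insert_of_notMem (fun k => ?_) (Set.toFinite _),
      Set.ncard_union_eq hdis (Set.toFinite _) (Set.toFinite _), Set.ncard_coe_finset]
    · ring
    · rcases k with k | k
      · exact k.1.2.1 rfl
      · simp only [N, Finset.coe_filter, Finset.mem_univ, true_and, Set.mem_setOf_eq] at k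
        exact k.2.1 (Commute.refl d)
  have hS : (perp D d).ncard = 1 + (common D d (p x)).ncard + Sx.card := by
    have hA := C.perp_card
    have hP := C.pair_card hx
    let Pp : Finset (V n) := Finset.univ.filter fun z => Q z = 1
    let Zr : Finset (V n) := Pp.filter fun z => B Q x z = 0
    let Ot : Finset (V n) := Pp.filter fun z => ¬ B Q x z = 0 ∧ z ≠ x ∧ z ≠ -x
    have e1 : Pp.card = 2 * (perp D d).ncard := by
      rw [← hA, ← Set.ncard_coe_finset]; simp [Pp]
    have e2 : Zr.card = 2 * (common D d (p x)).ncard := by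
      rw [← hP, ← Set.ncard_coe_finset]; congr 1; ext z; simp [Zr, Pp]
    have hxx : B Q x x ≠ 0 := by rw [B_self, hx]; decide
    have hnx : x ≠ -x := fun e => by
      have := congrArg (B Q x) e
      rw [B_neg_right] at this
      exact hxx ((by decide : ∀ t : ZMod 3, t = -t → t = 0) _ this)
    have e3 : Pp.card = Zr.card + (2 + Ot.card) := by
      rw [← Finset.card_filter_add_card_filter_not (s := Pp) (p := fun z => B Q x z = 0)]
      congr 1
      have : (Pp.filter fun z => ¬ B Q x z = 0) = {x, -x} ∪ Ot := by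
        ext z
        simp only [Pp, Ot, Finset.mem_filter, Finset.mem_univ, true_and, Finset.mem_union, Finset.mem_insert,
          Finset.mem_singleton]
        constructor
        · rintro ⟨a1, a2⟩
          by_cases k1 : z = x
          · exact Or.inl (Or.inl k1)
          by_cases k2 : z = -x
          · exact Or.inl (Or.inr k2)
          · exact Or.inr ⟨a1, a2, k1, k2⟩
        · rintro ((rfl | rfl) | ⟨a1, a2, -, -⟩)
          · exact ⟨hx, hxx⟩
          · exact ⟨by rw [q_neg, hx], by rwa [B_neg_right, neg_eq_zero]⟩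
          · exact ⟨a1, a2⟩
      rw [this, Finset.card_union_of_disjoint, Finset.card_pair hnx]
      refine Finset.disjoint_left.mpr fun z hz hz' => ?_
      simp only [Ot, Finset.mem_filter] at hz'
      simp only [Finset.mem_insert, Finset.mem_singleton] at hz
      rcases hz with rfl | rfl
      · exact hz'.2.2.1 rfl
      · exact hz'.2.2.2 rfl
    have e4 : Ot.card = (({1, 2} : Finset (ZMod 3)) ×ˢ Sx).card := by
      refine Finset.card_bij (fun z _ => (2 * B Q x z, z - (2 * B Q x z) • x)) ?_ ?_ ?_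
      · intro z hz
        simp only [Ot, Pp, Finset.mem_filter, Finset.mem_univ, true_and] at hz
        obtain ⟨hz1, hb, k1, k2⟩ := hz
        simp only [Sx, Finset.mem_product, Finset.mem_filter, Finset.mem_univ, true_and, Finset.mem_insert,
          Finset.mem_singleton]
        refine ⟨?_, ?_, ?_, ?_⟩
        · revert hb; generalize B Q x z = t; revert t; decide
        · intro e
          rw [sub_eq_zero] at e
          rcases smul_cases (φ := x) (fun e0 => one_ne_zero (α := ZMod 3) (by rw [← hz1, e0, QuadraticMap.map_zero])) _ e with r | r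
          · exact k1 r
          · exact k2 r
        · rw [sub_eq_add_neg, ← neg_smul, q_add_smul, hz1, hx, B_comm Q z x]
          revert hb; generalize B Q x z = t; revert t; decide
        · rw [B_sub_right, B_smul_right, B_self, hx]
          generalize B Q x z = t; revert t; decide
      · intro z _ z' _ e
        simp only [Prod.mk.injEq] at e
        rw [e.1] at e
        exact sub_left_inj.mp e.2
      · rintro ⟨t, r⟩ hb
        simp only [Sx, Finset.mem_product, Finset.mem_filter, Finset.mem_univ, true_and, Finset.mem_insert,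
          Finset.mem_singleton] at hb
        obtain ⟨ht, r0, r1, r2⟩ := hb
        have tb : 2 * B Q x (r + t • x) = t := by
          rw [B_add_right, B_smul_right, B_self, hx, r2]
          revert ht; revert t; decide
        refine ⟨r + t • x, ?_, by simp only [tb, Prod.mk.injEq, true_and]; abel⟩
        simp only [Ot, Pp, Finset.mem_filter, Finset.mem_univ, true_and]
        refine ⟨?_, ?_, fun e => r0 ?_, fun e => r0 ?_⟩
        · rw [q_add_smul, r1, hx, B_comm, r2]; clear tb; revert ht; revert t; decide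
        · intro e
          rw [e, mul_zero] at tb
          subst tb; exact absurd ht (by decide)
        · rw [e, B_self, hx] at tb
          rw [← tb, show (2 : ZMod 3) * (2 * 1) = 1 from by decide, one_smul] at e
          simpa using e
        · rw [e, B_neg_right, B_self, hx] at tb
          rw [← tb, show (2 : ZMod 3) * (-(2 * 1)) = -1 from by decide, neg_one_smul] at e
          simpa using e
    rw [Finset.card_product, show ({1, 2} : Finset (ZMod 3)).card = 2 from by decide] at e4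
    omega
  -- pairs
  let R : V n → G → Prop := fun r z => Cls D d Q p z r
  have hdbl := Finset.sum_card_bipartiteAbove_eq_sum_card_bipartiteBelow R (s := Sx) (t := N)
  have hbelow : ∀ z ∈ N, (Sx.bipartiteBelow R z).card = 2 := by
    intro z hz
    simp only [N, Finset.mem_filter, Finset.mem_univ, true_and] at hz
    obtain ⟨r, hr⟩ := hlin z hz.1 hz.2.1
    have hne : r ≠ -r := fun e => hr.2.2.1 (by
      funext i
      have := congrFun e i
      simp only [Pi.neg_apply, Pi.zero_apply] at this ⊢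
      exact (by decide : ∀ t : ZMod 3, t = -t → t = 0) _ this)
    rw [show Sx.bipartiteBelow R z = {r, -r} from ?_, Finset.card_pair hne]
    ext r'
    simp only [Finset.mem_bipartiteBelow, Sx, Finset.mem_filter, Finset.mem_univ, true_and, Finset.mem_insert,
      Finset.mem_singleton]
    constructor
    · rintro ⟨-, hr'⟩
      exact cut_unique C.nd hn hr.2.2.1 hr.2.2.2.1 hr'.2.2.1 hr'.2.2.2.1 (hr.2.2.2.2.symm.trans hr'.2.2.2.2)
    · rintro (rfl | rfl)
      · exact ⟨⟨hr.2.2.1, hr.2.2.2.1, by rw [B_comm]; exact (hr.commute_iff C hx).mp hz.2.2⟩, hr⟩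
      · exact ⟨⟨neg_ne_zero.mpr hr.2.2.1, by rw [q_neg]; exact hr.2.2.2.1,
          by rw [B_neg_right, B_comm, (hr.commute_iff C hx).mp hz.2.2, neg_zero]⟩, hr.neg⟩
  have habove : ∀ r ∈ Sx, 2 ≤ (N.bipartiteAbove R r).card := by
    intro r hr
    simp only [Sx, Finset.mem_filter, Finset.mem_univ, true_and] at hr
    obtain ⟨z, hz⟩ := cls_hit g S hn hd C hlin hr.1 hr.2.1
    rw [← Finset.card_pair (dyd_ne g S hn hd C hz.1 hz.2.1)]
    refine Finset.card_le_card fun z' hz' => ?_
    simp only [Finset.mem_insert, Finset.mem_singleton] at hz'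
    simp only [Finset.mem_bipartiteAbove, N, Finset.mem_filter, Finset.mem_univ, true_and]
    have hz'' : Cls D d Q p z' r := by
      rcases hz' with rfl | rfl
      · exact cls_conj_d S C hd hz
      · exact hz
    exact ⟨⟨hz''.1, hz''.2.1, (hz''.commute_iff C hx).mpr (by rw [B_comm]; exact hr.2.2)⟩, hz''⟩
  have htot : ∑ r ∈ Sx, (N.bipartiteAbove R r).card = ∑ _r ∈ Sx, 2 := by
    rw [hdbl, Finset.sum_congr rfl hbelow, Finset.sum_const, Finset.sum_const, smul_eq_mul, smul_eq_mul,
      show N.card = Sx.card by omega]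
  have hψS : ψ ∈ Sx := by simp [Sx, hy.2.2.1, hy.2.2.2.1, B_comm Q x ψ, hxψ]
  have h2 : (N.bipartiteAbove R ψ).card = 2 :=
    ((Finset.sum_eq_sum_iff_of_le habove).mp htot.symm ψ hψS).symm
  have inN : ∀ z, Cls D d Q p z ψ → z ∈ N.bipartiteAbove R ψ := fun z hz => by
    simp only [Finset.mem_bipartiteAbove, N, Finset.mem_filter, Finset.mem_univ, true_and]
    exact ⟨⟨hz.1, hz.2.1, (hz.commute_iff C hx).mpr hxψ⟩, hz⟩
  have hsub : ({y, d * y * d} : Finset G) ⊆ N.bipartiteAbove R ψ := fun z hz => by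
    simp only [Finset.mem_insert, Finset.mem_singleton] at hz
    rcases hz with rfl | rfl
    · exact inN _ hy
    · exact inN _ (cls_conj_d S C hd hy)
  have := Finset.eq_of_subset_of_card_le hsub
    (by rw [h2, Finset.card_pair (dyd_ne g S hn hd C hy.1 hy.2.1).symm])
  have k := inN y' hy'
  rw [← this] at k
  simpa using k

/-- An apart member with a signed vector, the sign fixed by an apart member. -/
def Sgn (D : Set G) (d : G) (Q : QuadraticForm (ZMod 3) (V n)) (p : V n → G) (c : G) (φ₀ : V n) (y : G)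
    (ψ : V n) : Prop :=
  Cls D d Q p y ψ ∧ (B Q φ₀ ψ = 1 → Commute c y) ∧ (B Q φ₀ ψ = -1 → ¬ Commute c y) ∧
    (ψ = φ₀ → y = c) ∧ (ψ = -φ₀ → y = d * c * d) ∧
    (B Q φ₀ ψ = 0 → ψ ≠ φ₀ → ψ ≠ -φ₀ → Cls D d Q p (c * y * c) (φ₀ + ψ))

variable {c : G} (hc : c ∈ D) (hdc : ¬ Commute d c) {φ₀ : V n} (hφ₀ : Cls D d Q p c φ₀)
include hc hdc hφ₀

omit hlin hn in
theorem ne_of_pm {ψ : V n} (h : B Q φ₀ ψ ≠ 0) : ψ ≠ φ₀ ∧ ψ ≠ -φ₀ := by
  constructor <;> rintro rfl
  · exact h (by rw [B_self, hφ₀.2.2.2.1, mul_zero])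
  · exact h (by rw [B_neg_right, B_self, hφ₀.2.2.2.1, mul_zero, neg_zero])

omit hlin in
/-- A member carries one sign. -/
theorem sgn_not_both {y : G} {ψ : V n} (h : Sgn D d Q p c φ₀ y ψ) : ¬ Sgn D d Q p c φ₀ y (-ψ) := by
  intro k
  obtain ⟨hc1, a1, a2, a3, a4, a5⟩ := h
  obtain ⟨-, b1, b2, b3, b4, b5⟩ := k
  by_cases e : ψ = φ₀
  · subst e
    exact dyd_ne g S hn hd C hc hdc ((b4 rfl).symm.trans (a3 rfl))
  by_cases e' : ψ = -φ₀
  · subst e'
    exact dyd_ne g S hn hd C hc hdc ((a4 rfl).symm.trans (b3 (neg_neg _)))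
  rw [B_neg_right] at b1 b2 b5
  rcases (by decide : ∀ t : ZMod 3, t = 0 ∨ t = 1 ∨ t = -1) (B Q φ₀ ψ) with r | r | r
  · have h1 := a5 r e e'
    have h2 := b5 (by rw [r, neg_zero]) (fun w => e' (by rw [← w, neg_neg])) fun w => e (neg_inj.mp w)
    rcases cut_unique C.nd hn h1.2.2.1 h1.2.2.2.1 h2.2.2.1 h2.2.2.2.1
      (h1.2.2.2.2.symm.trans h2.2.2.2.2) with w | w
    · exact hc1.2.2.1 (by
        funext i
        have := congrFun w i
        simp only [Pi.add_apply, Pi.neg_apply, Pi.zero_apply] at this ⊢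
        exact (by decide : ∀ a t : ZMod 3, a + -t = a + t → t = 0) _ _ this)
    · exact hφ₀.2.2.1 (by
        funext i
        have := congrFun w i
        simp only [Pi.add_apply, Pi.neg_apply, Pi.zero_apply] at this ⊢
        exact (by decide : ∀ a t : ZMod 3, a + -t = -(a + t) → a = 0) _ _ this)
  · exact b2 (by rw [r]) (a1 r)
  · exact a2 r (b1 (by rw [r, neg_neg]))

omit hlin hn in
theorem apart_point {u : V n} (hu : Q u = 1) (h : B Q φ₀ u ≠ 0) : ¬ Commute c (p u) :=
  fun k => h ((hφ₀.commute_iff C hu).mp k)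

omit hlin hn in
/-- The translates of the points apart from `c`. -/
theorem sgn_line {u : V n} (hu : Q u = 1) (h : B Q φ₀ u = 1) :
    Cls D d Q p (c * p u * c) (φ₀ - u) ∧ ¬ Commute c (c * p u * c) ∧
      Commute c (d * (c * p u * c) * d) := by
  have hnc := apart_point g S hd C hc hdc hφ₀ hu (by rw [h]; exact one_ne_zero)
  have huD := (C.mem u hu).1
  refine ⟨?_, fun k => hnc ?_, ?_⟩
  · have := cls_conj_point S C hφ₀ hu
    rw [B_comm Q u, h, one_smul, ← braid S.cls.1 hc huD hnc] at this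
    exact this
  · have := (commute_swap (dsq S.cls.1 hc)).mp k.symm
    rw [show c * c * c = c by rw [dsq S.cls.1 hc, one_mul]] at this
    exact this.symm
  · have e : c * (d * c * d) * c = d := by
      rw [braid S.cls.1 hd hc hdc, ← mul_assoc, ← mul_assoc, dsq S.cls.1 hc, one_mul, mul_assoc,
        dsq S.cls.1 hc, mul_one]
    have h1 : Commute (c * p u * c) (d * c * d) := (commute_swap (dsq S.cls.1 hc)).mpr (by
      rw [e]; exact (C.mem u hu).2.2.symm)
    exact ((commute_swap (dsq S.cls.1 hd)).mpr h1).symm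

omit hlin in
/-- Every singular vector is a sign, met inside the group of the pair and the perpendicular. -/
theorem sgn_exists {ψ : V n} (h0 : ψ ≠ 0) (h1 : Q ψ = 0) :
    ∃ y, Sgn D d Q p c φ₀ y ψ ∧ y ∈ Subgroup.closure (insert d (insert c (perp D d))) := by
  set H := Subgroup.closure (insert d (insert c (perp D d)))
  have hdH : d ∈ H := Subgroup.subset_closure (Set.mem_insert _ _)
  have hcH : c ∈ H := Subgroup.subset_closure (Set.mem_insert_of_mem _ (Set.mem_insert _ _))
  have hpH : ∀ {u}, Q u = 1 → p u ∈ H := fun {u} hu =>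
    Subgroup.subset_closure (Set.mem_insert_of_mem _ (Set.mem_insert_of_mem _ (C.mem u hu)))
  have self : B Q φ₀ φ₀ = 0 := by rw [B_self, hφ₀.2.2.2.1, mul_zero]
  have pm : ∀ x : V n, x ≠ 0 → x ≠ -x := fun x hx e => hx (by
    funext i
    exact (by decide : ∀ t : ZMod 3, t = -t → t = 0) _ (congrFun e i))
  by_cases e : ψ = φ₀
  · subst e
    refine ⟨c, ⟨hφ₀, fun k => ?_, fun k => ?_, fun _ => rfl, fun k => absurd k (pm _ h0), fun _ k => absurd rfl k⟩, hcH⟩
    · exact Commute.refl c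
    · rw [self] at k; exact absurd k (by decide)
  by_cases e' : ψ = -φ₀
  · subst e'
    refine ⟨d * c * d, ⟨(cls_conj_d S C hd hφ₀).neg, fun k => ?_, fun k => ?_, fun k => absurd k e,
      fun _ => rfl, fun _ _ k => absurd rfl k⟩, mul_mem (mul_mem hdH hcH) hdH⟩
    · rw [B_neg_right, self, neg_zero] at k; exact absurd k zero_ne_one
    · rw [B_neg_right, self, neg_zero] at k; exact absurd k (by decide)
  rcases (by decide : ∀ t : ZMod 3, t = 0 ∨ t = 1 ∨ t = -1) (B Q φ₀ ψ) with r | r | r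
  · -- a point apart from both
    obtain ⟨z, z1, z2⟩ := exists_dual_two Q C.nd hφ₀.2.2.1
      (fun t k => (smul_cases h0 t k).elim e e') 1 1
    set u := z + (1 - Q z) • φ₀ with hu'
    have hu : Q u = 1 := by rw [hu', q_add_smul, hφ₀.2.2.2.1, B_comm, z1]; ring
    have b1 : B Q φ₀ u = 1 := by rw [hu', B_add_right, B_smul_right, z1, self]; ring
    have b2 : B Q ψ u = 1 := by rw [hu', B_add_right, B_smul_right, z2, B_comm Q ψ φ₀, r]; ring
    set v := u + ψ - φ₀ with hv'
    have hv : Q v = 1 := by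
      rw [hv', q_sub, q_add, hu, h1, hφ₀.2.2.2.1, B_comm Q u ψ, b2, B_add_left, B_comm Q u φ₀, b1,
        B_comm Q ψ φ₀, r]
      decide
    have bv : B Q φ₀ v = 1 := by rw [hv', B_sub_right, B_add_right, b1, r, self]; ring
    have buv : B Q u v = -1 := by
      rw [hv', B_sub_right, B_add_right, B_self, hu, B_comm Q u ψ, b2, B_comm Q u φ₀, b1]; decide
    obtain ⟨l1, -, -⟩ := sgn_line g S hd C hc hdc hφ₀ hu b1
    have hvu : v + -u = ψ - φ₀ := by rw [hv']; abel
    have l1v := cls_conj_point S C l1 hv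
    rw [B_sub_right, B_comm Q v φ₀, bv, B_comm Q v u, buv,
      show φ₀ - u - ((1 : ZMod 3) - -1) • v = ψ from by
        rw [show ((1 : ZMod 3) - -1) = -1 from by decide, neg_one_smul, sub_neg_eq_add, hv']; abel] at l1v
    refine ⟨_, ⟨l1v, fun k => ?_, fun k => ?_, fun k => absurd k e, fun k => absurd k e', fun _ _ _ => ?_⟩,
      mul_mem (mul_mem (hpH hv) (mul_mem (mul_mem hcH (hpH hu)) hcH)) (hpH hv)⟩
    · rw [r] at k; exact absurd k zero_ne_one
    · rw [r] at k; exact absurd k (by decide)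
    · obtain ⟨w1, -, -⟩ := sgn_line g S hd C hc hdc hφ₀ hv bv
      have hnc : ¬ Commute (c * p v * c) (p u) := fun k => by
        have := (w1.commute_iff C hu).mp k
        rw [B_sub_left, b1, B_comm, buv] at this
        exact absurd this (by decide)
      have key := cls_conj_point S C w1 hu
      rw [braid S.cls.1 (C.mem u hu).1 w1.1 fun k => hnc k.symm, B_sub_right, B_comm Q u φ₀, b1, buv,
        show φ₀ - v - ((1 : ZMod 3) - -1) • u = -(φ₀ + ψ) from by
          rw [show ((1 : ZMod 3) - -1) = -1 from by decide, neg_one_smul, sub_neg_eq_add, hv']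
          funext i
          simp only [Pi.sub_apply, Pi.add_apply, Pi.neg_apply]
          exact (by decide : ∀ f u s : ZMod 3, f - (u + s - f) + u = -(f + s)) _ _ _] at key
      have k2 := key.neg
      rw [neg_neg] at k2
      have ec : c * (p v * (c * p u * c) * p v) * c = c * p v * c * p u * (c * p v * c) := by group
      exact ec ▸ k2
  · have hu : Q (φ₀ + ψ) = 1 := by rw [q_add, hφ₀.2.2.2.1, h1, r]; rfl
    have b1 : B Q φ₀ (φ₀ + ψ) = 1 := by rw [B_add_right, self, r, zero_add]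
    obtain ⟨l1, -, l3⟩ := sgn_line g S hd C hc hdc hφ₀ hu b1
    rw [show φ₀ - (φ₀ + ψ) = -ψ from by abel] at l1
    have k := (cls_conj_d S C hd l1).neg
    rw [neg_neg] at k
    refine ⟨_, ⟨k, fun _ => l3, fun k => ?_, fun k => absurd k e, fun k => absurd k e', fun k => ?_⟩,
      mul_mem (mul_mem hdH (mul_mem (mul_mem hcH (hpH hu)) hcH)) hdH⟩
    · rw [r] at k; exact absurd k (by decide)
    · rw [r] at k; exact absurd k one_ne_zero
  · have hu : Q (φ₀ - ψ) = 1 := by rw [q_sub, hφ₀.2.2.2.1, h1, r]; rfl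
    have b1 : B Q φ₀ (φ₀ - ψ) = 1 := by rw [B_sub_right, self, r]; decide
    obtain ⟨l1, l2, -⟩ := sgn_line g S hd C hc hdc hφ₀ hu b1
    rw [show φ₀ - (φ₀ - ψ) = ψ from by abel] at l1
    refine ⟨_, ⟨l1, fun k => ?_, fun _ => l2, fun k => absurd k e, fun k => absurd k e', fun k => ?_⟩,
      mul_mem (mul_mem hcH (hpH hu)) hcH⟩
    · rw [r] at k; exact absurd k (by decide)
    · rw [r] at k; exact absurd k (by decide)

/-- A signed vector has one member. -/
theorem sgn_unique {y y' : G} {ψ : V n} (h : Sgn D d Q p c φ₀ y ψ) (h' : Sgn D d Q p c φ₀ y' ψ) :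
    y' = y := by
  by_contra hne
  obtain ⟨z, hz, -⟩ := sgn_exists g S hn hd C hc hdc hφ₀ (ψ := -ψ) (neg_ne_zero.mpr h.1.2.2.1)
    (by rw [q_neg, h.1.2.2.2.1])
  have hz1 := hz.1.neg
  rw [neg_neg] at hz1
  rcases cls_two g S hn hd C hlin h.1 hz1 with rfl | e
  · exact sgn_not_both g S hn hd C hc hdc hφ₀ h hz
  · rcases cls_two g S hn hd C hlin h.1 h'.1 with e' | e'
    · exact hne e'
    · exact sgn_not_both g S hn hd C hc hdc hφ₀ h' (by rw [e', ← e]; exact hz)

/-- The translate carries the opposite sign. -/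
theorem sgn_conj_d {y : G} {ψ : V n} (h : Sgn D d Q p c φ₀ y ψ) :
    Sgn D d Q p c φ₀ (d * y * d) (-ψ) := by
  obtain ⟨z, hz, -⟩ := sgn_exists g S hn hd C hc hdc hφ₀ (ψ := -ψ) (neg_ne_zero.mpr h.1.2.2.1)
    (by rw [q_neg, h.1.2.2.2.1])
  have hz1 := hz.1.neg
  rw [neg_neg] at hz1
  rcases cls_two g S hn hd C hlin h.1 hz1 with rfl | rfl
  · exact absurd hz (sgn_not_both g S hn hd C hc hdc hφ₀ h)
  · exact hz

/-- Every apart member carries a sign. -/
theorem sgn_total {y : G} (hy : y ∈ D) (h : ¬ Commute d y) :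
    ∃ ψ, Sgn D d Q p c φ₀ y ψ := by
  obtain ⟨ψ, hψ⟩ := hlin y hy h
  obtain ⟨z, hz, -⟩ := sgn_exists g S hn hd C hc hdc hφ₀ hψ.2.2.1 hψ.2.2.2.1
  rcases cls_two g S hn hd C hlin hz.1 hψ with rfl | rfl
  · exact ⟨ψ, hz⟩
  · exact ⟨-ψ, sgn_conj_d g S hn hd C hlin hc hdc hφ₀ hz⟩

/-- A member determines its signed vector. -/
theorem sgn_vec {y : G} {ψ ψ' : V n} (h : Sgn D d Q p c φ₀ y ψ) (h' : Sgn D d Q p c φ₀ y ψ') :
    ψ' = ψ := by
  rcases cut_unique C.nd hn h.1.2.2.1 h.1.2.2.2.1 h'.1.2.2.1 h'.1.2.2.2.1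
    (h.1.2.2.2.2.symm.trans h'.1.2.2.2.2) with e | e
  · exact e
  · exact absurd (e ▸ h') (sgn_not_both g S hn hd C hc hdc hφ₀ h)

end Cfsg.Agent.Spor.FischerThm
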