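import Cfsg.Agent.Lib.Spor.FischerThm.ReflCoords
import Cfsg.Agent.Lib.Spor.FischerThm.Srg

/-! The common perpendicular of an apart pair is cut out by one singular vector in every dimension. -/

set_option autoImplicit false
set_option linter.style.haveILetI false
set_option linter.unusedSectionVars false
set_option maxHeartbeats 400000

namespace Cfsg.Agent.Spor.FischerThm

open Cfsg Cfsg.Agent.Spor.ThreeTrans Cfsg.Agent.Block.FischerTypes
open Cfsg.Agent.Spor.FischerThm.Q3

variable {G : Type*} [Group G] [Finite G] {D : Set G}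

theorem chosen_map (f : List ℕ → Bool) : ∀ cl : List (List ℕ), chosen cl (cl.map f) = cl.filter f
  | [] => rfl
  | C :: cl => by
    rw [List.map_cons, chosen, chosen_map f cl, List.filter_cons]
    cases f C <;> simp

theorem mem_choices : ∀ s : List Bool, s ∈ choices s.length
  | [] => by simp [choices]
  | b :: s => by
    simp only [List.length_cons, choices, List.mem_flatMap]
    exact ⟨s, mem_choices s, by cases b <;> simp⟩

theorem commute_swap {u y w : G} (hu : u * u = 1) : Commute (u * y * u) w ↔ Commute y (u * w * u) := by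
  have hi : u⁻¹ = u := inv_eq_of_mul_eq_one_right hu
  have e : u * (u * y * u) * u = y := by
    rw [← mul_assoc, ← mul_assoc, hu, one_mul, mul_assoc, hu, mul_one]
  have k := commute_conj_iff u (u * y * u) w
  rw [hi, e] at k
  exact k.symm

variable {d c : G} (g : Good D) (S : Setting D) (hd : d ∈ D) (hc : c ∈ D) (hdc : ¬ Commute d c)
include g S hd hc hdc

theorem numbers {n : ℕ} {Q : QuadraticForm (ZMod 3) (V n)} {p : V n → G} (C : Chart D d Q p)
    {k lam : ℕ} {x₀ : V n} (hx₀ : Q x₀ = 1) (bk bl : ℕ → Bool)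
    (hbk : ∀ i < 3 ^ n, bk i = true ↔ Q (vec n i) = 1)
    (hbl : ∀ i < 3 ^ n, bl i = true ↔ Q (vec n i) = 1 ∧ B Q x₀ (vec n i) = 0)
    (hk : ((List.range (3 ^ n)).filter bk).length = 2 * k)
    (hl : ((List.range (3 ^ n)).filter bl).length = 2 * lam) :
    1 ≤ (common D d c).ncard ∧ srgOK k lam (common D d c).ncard = true ∧ (perp D d).ncard = k ∧
      (common D d (p x₀)).ncard = lam := by
  have h1 := ncard_codes (fun x => Q x = 1) bk hbk
  rw [C.perp_card, hk] at h1
  have h2 := ncard_codes (fun x => Q x = 1 ∧ B Q x₀ x = 0) bl hbl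
  rw [C.pair_card hx₀, hl] at h2
  obtain ⟨a1, -, a3⟩ := srg_ok S g.core.2 hd hc hdc (C.mem x₀ hx₀)
  rw [show (perp D d).ncard = k by omega, show (common D d (p x₀)).ncard = lam by omega] at a3
  exact ⟨a1, a3, by omega, by omega⟩

/-- Classes of linked points that pass the test alone together give everything. -/
theorem small_finish {m : ℕ} {Q : QuadraticForm (ZMod 3) (V (m + 2))} {p : V (m + 2) → G}
    (C : Chart D d Q p) {w : Fin m → ZMod 3} (hq' : ∀ x, Q x = hq w x) (hB' : ∀ x y, B Q x y = hB w x y)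
    (cl : List (List ℕ)) (hok : clsOK (hq w) (hB w) cl = true) {k lam : ℕ} (hsel : selOK k lam cl = true)
    (h9 : Q (vec (m + 2) 9) = 1)
    (hk : ((List.range (3 ^ (m + 2))).filter fun i => decide (hq w (vec _ i) = 1)).length = 2 * k)
    (hl : ((List.range (3 ^ (m + 2))).filter fun i =>
      decide (hq w (vec _ i) = 1) && decide (hB w (vec _ 9) (vec _ i) = 0)).length = 2 * lam)
    (hsub : ∀ x ∈ Mv D d c Q p, x 1 = 0)
    (hcl : ∀ y ∈ Mv D d c Q p, ∀ z, Q z = 1 → B Q y z = 0 → z 1 = 0 → z ∈ Mv D d c Q p) :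
    ∀ x, Q x = 1 → x 1 = 0 → x ∈ Mv D d c Q p := by
  classical
  simp only [clsOK, Bool.and_eq_true, List.all_eq_true, decide_eq_true_eq, Bool.or_eq_true,
    List.any_eq_true, List.mem_range, Bool.not_eq_true', inCut, List.contains_iff_mem] at hok
  obtain ⟨⟨cover, inside⟩, hnd⟩ := hok
  set M := Mv D d c Q p
  let f : List ℕ → Bool := fun C => decide (∃ x ∈ C, vec (m + 2) x ∈ M)
  have full : ∀ C ∈ cl, f C = true → ∀ y ∈ C, vec (m + 2) y ∈ M := by
    intro C hC hf y hy
    obtain ⟨x, hxC, hxM⟩ := of_decide_eq_true hf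
    obtain ⟨-, hlk⟩ := inside C hC x hxC
    obtain ⟨⟨-, hy1, hy2⟩, -⟩ := inside C hC y hy
    rcases hlk y hy with h | ⟨u, hu, h1, h2⟩
    · exact hcl _ hxM _ ((hq' _).trans hy1) ((hB' _ _).trans h) hy2
    · obtain ⟨⟨-, hu1, hu2⟩, -⟩ := inside C hC u hu
      exact hcl _ (hcl _ hxM _ ((hq' _).trans hu1) ((hB' _ _).trans h1) hu2) _ ((hq' _).trans hy1)
        ((hB' _ _).trans h2) hy2
  have find : ∀ i < 3 ^ (m + 2), Q (vec (m + 2) i) = 1 → vec (m + 2) i 1 = 0 → ∃ C ∈ cl, i ∈ C := by
    intro i hi h1 h2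
    rcases cover i hi with h | h
    · have hi' : (decide (hq w (vec (m + 2) i) = 1) && decide (vec (m + 2) i 1 = 0)) = true := by
        simp [← hq', h1, h2]
      rw [h] at hi'
      exact absurd hi' (by simp)
    · exact h
  -- the size
  let L := (cl.filter f).flatten
  have hsubl : (cl.filter f).flatten.Sublist cl.flatten := List.Sublist.flatten List.filter_sublist
  have hLnd : L.Nodup := hsubl.nodup hnd
  have hcard : M.ncard = L.length := by
    rw [show M = {x | x ∈ M} from rfl, ncard_codes (fun x => x ∈ M) (fun i => L.contains i) fun i hi => ?_]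
    · rw [← List.toFinset_card_of_nodup hLnd, ← List.toFinset_card_of_nodup (List.nodup_range.filter _)]
      congr 1
      ext i
      simp only [List.mem_toFinset, List.mem_filter, List.mem_range, List.contains_iff_mem]
      refine ⟨fun k => k.2, fun k => ⟨?_, k⟩⟩
      obtain ⟨C, hC, hiC⟩ := List.mem_flatten.mp k
      exact ((inside C (List.mem_filter.mp hC).1 i hiC).1).1
    · rw [List.contains_iff_mem]
      constructor
      · intro k
        obtain ⟨C, hC, hiC⟩ := List.mem_flatten.mp k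
        obtain ⟨hC, hf⟩ := List.mem_filter.mp hC
        exact full C hC hf i hiC
      · intro k
        obtain ⟨C, hC, hiC⟩ := find i hi k.1 (hsub _ k)
        exact List.mem_flatten.mpr ⟨C, List.mem_filter.mpr ⟨hC, decide_eq_true ⟨i, hiC, k⟩⟩, hiC⟩
  obtain ⟨hμ, hsrg, -, -⟩ := numbers g S hd hc hdc C h9 (fun i => decide (hq w (vec _ i) = 1))
    (fun i => decide (hq w (vec _ i) = 1) && decide (hB w (vec _ 9) (vec _ i) = 0))
    (fun i _ => by simp [hq']) (fun i _ => by simp [hq', hB']) hk hl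
  have hsize : L.length / 2 = (common D d c).ncard := by
    rw [← hcard, C.common_card]; omega
  simp only [selOK, List.all_eq_true] at hsel
  have hchoice := hsel (cl.map f) (by simpa using mem_choices (cl.map f))
  rw [chosen_map, hsize, hsrg] at hchoice
  simp only [Bool.not_true, Bool.or_false, Bool.or_eq_true, List.all_eq_true, List.mem_map,
    Bool.not_eq_true', List.any_eq_false, id] at hchoice
  intro x hx hx1
  obtain ⟨i, hi, rfl⟩ := exists_code x
  obtain ⟨C0, hC, hiC⟩ := find i hi hx hx1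
  rcases hchoice with hall | hnone
  · exact full C0 hC (hall _ ⟨C0, hC, rfl⟩) i hiC
  · exfalso
    have : L = [] := by
      simp only [L, List.flatten_eq_nil_iff, List.mem_filter]
      rintro C ⟨hC, hf⟩
      exact absurd hf (hnone _ ⟨C, hC, rfl⟩)
    have h0 : (common D d c).ncard = 0 := by rw [← hsize, this]; rfl
    omega

omit g in
/-- The twenty points do not occur. -/
theorem twenty_absurd (g : Good D) {Q : QuadraticForm (ZMod 3) (V 5)} {p : V 5 → G} (C : Chart D d Q p)
    (hq' : ∀ x, Q x = q5 2 x) (hB' : ∀ x y, B Q x y = B5 2 x y) (L : Loc Q (Mv D d c Q p))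
    (hsix : ∀ i ∈ sixList, vec 5 i ∈ Mv D d c Q p) : False := by
  classical
  set M := Mv D d c Q p
  have hgen := twenty_gen
  simp only [List.all_eq_true, Bool.or_eq_true, List.any_eq_true, decide_eq_true_eq, List.contains_iff_mem] at hgen
  have inM : ∀ i ∈ twenty, vec 5 i ∈ M := by
    intro i hi
    rcases hgen i hi with h | ⟨u, hu, v, hv, e⟩
    · exact hsix i h
    · rw [← e, ← hB']; exact L.conj _ (hsix u hu) _ (hsix v hv)
  have hcut := twenty_cut
  simp only [List.all_eq_true, Bool.or_eq_true, Bool.not_eq_true', decide_eq_false_iff_not, decide_eq_true_eq,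
    List.mem_range, List.contains_iff_mem, List.all_eq_false] at hcut
  have hout := twenty_out
  simp only [List.all_eq_true, Bool.or_eq_true, Bool.not_eq_true', decide_eq_false_iff_not, decide_eq_true_eq,
    List.mem_range, List.contains_iff_mem, List.any_eq_true] at hout
  have outM : ∀ i < 243, vec 5 i ∈ M → i ∈ twenty := by
    intro i hi hiM
    have qi : q5 2 (vec 5 i) = 1 := (hq' _).symm.trans (L.pts _ hiM)
    rcases hout i hi with (h | h) | ⟨x, hx, hxi⟩
    · exact absurd qi h
    · exact h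
    · obtain ⟨ψ, h0, h1, h2, h3⟩ := L.cut _ (inM x hx)
      obtain ⟨j, hj, rfl⟩ := exists_code ψ
      rcases hcut x hx j (by omega) with (((h | h) | h) | h) | h
      · exact absurd (Nat.eq_of_beq_eq_true h) fun e => h0 (by subst e; funext k; simp [vec])
      · exact absurd ((hq' _).symm.trans h1) h
      · exact absurd ((hB' _ _).symm.trans h2) h
      · obtain ⟨y, hy, hy'⟩ := h
        push Not at hy'
        exact absurd ((hB' _ _).symm.trans ((h3 _ (L.pts _ (inM y hy)) ((hB' _ _).trans hy'.1)).mp (inM y hy))) hy'.2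
      · rcases h i hi with ((k | k) | k) | k
        · exact absurd qi k
        · exact absurd hxi k
        · exact absurd ((hB' _ _).symm.trans ((h3 _ (L.pts _ hiM) ((hB' _ _).trans hxi)).mp hiM)) k
        · exact k
  have hvc := vec_codeOf
  simp only [List.all_eq_true, List.mem_range] at hvc
  have code_ok : ∀ v : V 5, vec 5 (codeOf v) = v ∧ codeOf v < 243 := fun v => by
    obtain ⟨i, hi, rfl⟩ := exists_code v
    rw [Nat.eq_of_beq_eq_true (hvc i (by omega))]
    exact ⟨rfl, by omega⟩
  -- the orbit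
  have hms := maskStart_ok
  simp only [List.all_eq_true, List.mem_range, beq_iff_eq] at hms
  have orbit : ∀ j < 145, ∃ y ∈ apart D d, ∀ i < 243,
      (masks.getD j 0).testBit i = true ↔ vec 5 i ∈ Mv D d y Q p := by
    intro j
    induction j using Nat.strong_induction_on with
    | _ j ih =>
      intro hj
      cases j with
      | zero =>
        refine ⟨c, ⟨hc, fun k => hdc k.symm⟩, fun i hi => ?_⟩
        rw [show masks.getD 0 0 = maskStart from rfl, hms i hi, List.contains_iff_mem]
        exact ⟨inM i, outM i hi⟩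
      | succ j =>
        have hs := steps_ok
        simp only [List.all_eq_true, List.mem_range] at hs
        have hs' := hs j (by omega)
        set dd := orbitData.getD j (0, 0, 0) with hdd
        simp only [stepOK, ← hdd, Bool.and_eq_true, decide_eq_true_eq, List.all_eq_true, List.mem_range,
          beq_iff_eq] at hs'
        obtain ⟨⟨⟨hlt, hu⟩, hqu⟩, hbit⟩ := hs'
        obtain ⟨y, hy, hyM⟩ := ih dd.1 hlt (by omega)
        have qu : Q (vec 5 dd.2.1) = 1 := (hq' _).trans hqu
        set u := p (vec 5 dd.2.1) with hu'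
        have hup := C.mem _ qu
        have hsq := ThreeTrans.mul_self S.cls.1 hup.1
        have hyd : ¬ Commute d y := fun k => hy.2 k.symm
        have hy' : ¬ Commute d (u * y * u) := fun k => hy.2 (by
          have k' := (commute_swap hsq).mp k.symm
          rwa [show u * d * u = d by rw [← hup.2.2.eq, mul_assoc, hsq, mul_one]] at k')
        refine ⟨u * y * u, ⟨conj'_mem S.cls hup.1 hy.1, fun k => hy' k.symm⟩, fun i hi => ?_⟩
        have e1 : masks.getD (j + 1) 0 = dd.2.2 := by
          rw [hdd, masks, List.getD_cons_succ]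
          exact List.getD_map (l := orbitData) (d := ((0, 0, 0) : ℕ × ℕ × ℕ)) (n := j) (fun d : ℕ × ℕ × ℕ => d.2.2)
        obtain ⟨cv, cl'⟩ := code_ok (vec 5 i - B5 2 (vec 5 dd.2.1) (vec 5 i) • vec 5 dd.2.1)
        rw [e1, hbit i hi, hyM _ cl', cv, ← hB']
        set v := vec 5 i
        have qv : Q (v - B Q (vec 5 dd.2.1) v • vec 5 dd.2.1) = 1 ↔ Q v = 1 := by
          rw [sub_eq_add_neg, ← neg_smul, q_add_smul, qu, B_comm Q v]
          constructor <;> intro k <;> linear_combination k
        constructor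
        · rintro ⟨k1, k2⟩
          refine ⟨qv.mp k1, (C.mem_common_iff hy' (qv.mp k1)).mpr ((commute_swap hsq).mpr ?_)⟩
          rw [C.conj _ _ qu (qv.mp k1)]
          exact (C.mem_common_iff hyd k1).mp k2
        · rintro ⟨k1, k2⟩
          refine ⟨qv.mpr k1, (C.mem_common_iff hyd (qv.mpr k1)).mpr ?_⟩
          rw [← C.conj _ _ qu k1]
          exact (commute_swap hsq).mp ((C.mem_common_iff hy' k1).mp k2)
  choose y hy hyM using orbit
  have hsmall := masks_small
  simp only [List.all_eq_true, decide_eq_true_eq] at hsmall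
  have hinj : Function.Injective fun j : Fin 145 => y j j.2 := by
    intro j j' e
    simp only at e
    have hl1 : j.val < masks.length := by rw [masks_count]; exact j.2
    have hl2 : j'.val < masks.length := by rw [masks_count]; exact j'.2
    apply Fin.ext
    refine (masks_nodup.getElem_inj_iff (hi := hl1) (hj := hl2)).mp ?_
    have g1 : masks.getD j.val 0 = masks[j.val] := List.getD_eq_getElem _ _ hl1
    have g2 : masks.getD j'.val 0 = masks[j'.val] := List.getD_eq_getElem _ _ hl2
    refine Nat.eq_of_testBit_eq fun i => ?_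
    by_cases hi : i < 243
    · rw [Bool.eq_iff_iff, ← g1, ← g2, hyM _ j.2 i hi, hyM _ j'.2 i hi, e]
    · have b : ∀ x ∈ masks, x.testBit i = false := fun x hx =>
        Nat.testBit_lt_two_pow ((hsmall x hx).trans_le (Nat.pow_le_pow_right (by norm_num) (by omega)))
      rw [b _ (List.getElem_mem _), b _ (List.getElem_mem _)]
  have h145 : 145 ≤ (apart D d).ncard := by
    have := Set.ncard_le_ncard (show Set.range (fun j : Fin 145 => y j j.2) ⊆ apart D d from
      Set.range_subset_iff.mpr fun j => hy j j.2) (Set.toFinite _)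
    rwa [← Set.image_univ, Set.ncard_image_of_injective _ hinj, Set.ncard_univ, Nat.card_fin] at this
  -- but there are 144
  have q9 : Q (vec 5 9) = 1 := (hq' _).trans (by decide +kernel)
  obtain ⟨-, -, hk, hl⟩ := numbers g S hd hc hdc C q9 (fun i => decide (q5 2 (vec _ i) = 1))
    (fun i => decide (q5 2 (vec _ i) = 1) && decide (B5 2 (vec _ 9) (vec _ i) = 0))
    (fun i _ => by simp [hq']) (fun i _ => by simp [hq', hB']) pts52 lam52
  have hμ : (common D d c).ncard = 10 := by
    have hM : M.ncard = 20 := by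
      rw [show M = {x | x ∈ M} from rfl, ncard_codes (fun x => x ∈ M) (fun i => twenty.contains i) fun i hi => by
        rw [List.contains_iff_mem]; exact ⟨inM i, outM i (by omega)⟩]
      decide +kernel
    rw [C.common_card] at hM
    omega
  have := count S hd hc hdc (C.mem _ q9)
  rw [hk, hl, hμ] at this
  omega

omit g in
/-- The common perpendicular of an apart pair is cut out by one singular vector. -/
theorem linear {n : ℕ} (hn : 5 ≤ n) (g : Good D) {Q : QuadraticForm (ZMod 3) (V n)} {p : V n → G}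
    (C : Chart D d Q p) (hch : ∀ a ∈ D, ∃ p : V n → G, Chart D a Q p) :
    ∃ φ, φ ≠ 0 ∧ Q φ = 0 ∧ Mv D d c Q p = cutSet Q φ := by
  have L := C.loc g S hn hch hd hc hdc
  by_cases h7 : 7 ≤ n
  · exact linear_large Q C.nd hn L h7
  have hglue : ∀ a ∈ Mv D d c Q p, ∀ b ∈ Mv D d c Q p, B Q a b = 0 → ∀ φ φ',
      CutAt Q (Mv D d c Q p) a φ → CutAt Q (Mv D d c Q p) b φ' → φ' = φ ∨ φ' = -φ := by
    intro a ha b hb hab φ φ' hφ hφ'
    rcases pair_or Q C.nd hn L ha hb hab hφ hφ' with h | h | ⟨hne, hno⟩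
    · exact Or.inl h
    · exact Or.inr h
    exfalso
    have hφb : B Q φ b = 0 := (hφ.2.2.2 b (L.pts b hb) hab).mp hb
    have hφa : B Q a φ = 0 := hφ.2.2.1
    obtain ⟨he, hp⟩ := pair_list Q (L.pts a ha) (L.pts b hb) hab
    by_cases h6 : 6 ≤ n
    · obtain ⟨u, hu, hue, huφ⟩ := exists_point_perp Q C.nd (k := 2) (by omega) ![a, b] he hp hφ.1 hφ.2.1
        (fun i => by fin_cases i <;> first | exact hφa | (rw [B_comm]; exact hφb))
      exact hno u hu (hue 0) (hue 1) huφ
    obtain rfl : n = 3 + 2 := by omega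
    -- normalise the second vector
    obtain ⟨ψ, hψ, hφψ⟩ : ∃ ψ, CutAt Q (Mv D d c Q p) b ψ ∧ B Q φ ψ = 1 := by
      rcases (by decide : ∀ t : ZMod 3, t ≠ 0 → t = 1 ∨ t = -1) _ hne with h | h
      · exact ⟨φ', hφ', h⟩
      · exact ⟨-φ', hφ'.neg Q, by rw [B_neg_right, h]; decide⟩
    have hψa : B Q ψ a = 0 := (hψ.2.2.2 a (L.pts a ha) (by rw [B_comm]; exact hab)).mp ha
    have hψb : B Q b ψ = 0 := hψ.2.2.1
    have q1 : Q (φ + ψ) = 1 := by rw [q_add, hφ.2.1, hψ.2.1, hφψ]; rfl
    have q2 : Q (φ - ψ) = 2 := by rw [q_sub, hφ.2.1, hψ.2.1, hφψ]; rfl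
    obtain ⟨he1, hp1⟩ := snoc_list Q he hp (z := φ + ψ) (by rw [q1]; decide) fun i => by
      fin_cases i
      · show B Q a (φ + ψ) = 0
        rw [B_add_right, hφa, B_comm, hψa, add_zero]
      · show B Q b (φ + ψ) = 0
        rw [B_add_right, hψb, B_comm, hφb, add_zero]
    obtain ⟨he2, hp2⟩ := snoc_list Q he1 hp1 (z := φ - ψ) (by rw [q2]; decide) fun i => by
      refine Fin.lastCases ?_ (fun i => ?_) i
      · rw [Fin.snoc_last, B_add_left, B_sub_right, B_sub_right, B_self, B_self, hφ.2.1, hψ.2.1, B_comm Q ψ φ]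
        ring
      · rw [Fin.snoc_castSucc]
        fin_cases i
        · show B Q a (φ - ψ) = 0
          rw [B_sub_right, hφa, B_comm, hψa, sub_zero]
        · show B Q b (φ - ψ) = 0
          rw [B_sub_right, hψb, B_comm, hφb, sub_zero]
    obtain ⟨e, hqe, hee⟩ := ReflThree.exists_perp Q (by decide) C.nd (k := 4) (by simp) _ he2 hp2
    have ea : B Q a e = 0 := hee 0
    have eb : B Q b e = 0 := hee 1
    have h1 : B Q (φ + ψ) e = 0 := hee 2
    have h2 : B Q (φ - ψ) e = 0 := hee 3
    rw [B_add_left] at h1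
    rw [B_sub_left] at h2
    obtain ⟨eφ, eψ⟩ := (by decide : ∀ x y : ZMod 3, x + y = 0 → x - y = 0 → x = 0 ∧ y = 0) _ _ h1 h2
    have qe : Q e = 2 := by
      rcases (by decide : ∀ t : ZMod 3, t ≠ 0 → t = 1 ∨ t = 2) _ hqe with h | h
      · exact absurd eφ (hno e h ea eb)
      · exact h
    obtain ⟨Λ, hΛ, hq', hB', l0, l1, l2⟩ := exists_coords Q hφ.2.1 hψ.2.1 hφψ ![a, b, e] (wgt 3 2)
      (by decide)
      (fun i => by fin_cases i <;> first | exact L.pts a ha | exact L.pts b hb | exact qe)
      (fun i j hij => by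
        have ba : B Q b a = 0 := by rw [B_comm]; exact hab
        have ae : B Q e a = 0 := by rw [B_comm]; exact ea
        have be : B Q e b = 0 := by rw [B_comm]; exact eb
        fin_cases i <;> fin_cases j <;>
          first | exact absurd rfl hij | exact hab | exact ea | exact eb | exact ba | exact ae | exact be)
      (fun i => by fin_cases i <;> first | exact hφa | (rw [B_comm]; exact hφb) | (rw [B_comm]; exact eφ))
      (fun i => by fin_cases i <;> first | exact hψb | (rw [B_comm]; exact hψa) | (rw [B_comm]; exact eψ))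
    have C' := C.comap Λ hΛ
    have hM : ∀ x, x ∈ Mv D d c (Q.comp Λ) (fun x => p (Λ x)) ↔ Λ x ∈ Mv D d c Q p := fun x => Iff.rfl
    have L' := C'.loc g S hn (fun a' ha' => by
      obtain ⟨p', hp'⟩ := hch a' ha'
      exact ⟨_, hp'.comap Λ hΛ⟩) hd hc hdc
    refine twenty_absurd S hd hc hdc g C' hq' (fun x y => (comp_polar Q Λ x y).trans (hB' x y)) L' fun i hi => ?_
    rw [hM]
    have mem1 : ∀ x ∈ Mv D d c Q p, ∀ χ, CutAt Q (Mv D d c Q p) x χ → ∀ y ∈ Mv D d c Q p, B Q x y = 0 →
        y + χ ∈ Mv D d c Q p := fun x _ χ hχ y hy hxy => by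
      have k := (hχ.2.2.2 y (L.pts y hy) hxy).mp hy
      exact (hχ.2.2.2 _ (by rw [q_add, L.pts y hy, hχ.2.1, B_comm, k]; ring)
        (by rw [B_add_right, hxy, hχ.2.2.1, add_zero])).mpr (by rw [B_add_right, k, B_self, hχ.2.1]; ring)
    have key : ∀ i ∈ sixList, vec 5 i ∈ ([Pi.single 2 1, Pi.single 3 1, Pi.single 3 1 + Pi.single 0 1,
        Pi.single 3 1 + -Pi.single 0 1, Pi.single 2 1 + Pi.single 1 1, Pi.single 2 1 + -Pi.single 1 1] :
          List (V 5)).flatMap fun v => [v, -v] := by decide +kernel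
    obtain ⟨v, hv, hiv⟩ := List.mem_flatMap.mp (key i hi)
    have la : Λ (Pi.single 2 1) = a := l2 0
    have lb : Λ (Pi.single 3 1) = b := l2 1
    have hv' : Λ v ∈ Mv D d c Q p := by
      have hba : B Q b a = 0 := by rw [B_comm]; exact hab
      simp only [List.mem_cons, List.not_mem_nil, or_false] at hv
      rcases hv with rfl | rfl | rfl | rfl | rfl | rfl
      · rw [la]; exact ha
      · rw [lb]; exact hb
      · rw [map_add, lb, l0]; exact mem1 a ha φ hφ b hb hab
      · rw [map_add, map_neg, lb, l0]; exact mem1 a ha (-φ) (hφ.neg Q) b hb hab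
      · rw [map_add, la, l1]; exact mem1 b hb ψ hψ a ha hba
      · rw [map_add, map_neg, la, l1]; exact mem1 b hb (-ψ) (hψ.neg Q) a ha hba
    simp only [List.mem_cons, List.not_mem_nil, or_false] at hiv
    rcases hiv with e' | e'
    · rw [e']; exact hv'
    · rw [e', map_neg]; exact L.neg _ hv'
  obtain ⟨φ, h0, hqφ, hsub, hcl⟩ := one_vector Q C.nd hn L hglue
  refine ⟨φ, h0, hqφ, Set.eq_of_subset_of_subset hsub fun x hx => ?_⟩
  -- hyperbolic coordinates at the vector
  have goal : ∀ {m : ℕ} {Q' : QuadraticForm (ZMod 3) (V (m + 2))} {p' : V (m + 2) → G} (C' : Chart D d Q' p')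
      (w : Fin m → ZMod 3) {Λ : V (m + 2) →ₗ[ZMod 3] V (m + 2)}, Function.Bijective Λ →
      (∀ x, Q' (Λ x) = hq w x) → (∀ x y, B Q' (Λ x) (Λ y) = hB w x y) →
      ∀ (cl : List (List ℕ)) (k lam : ℕ), clsOK (hq w) (hB w) cl = true → selOK k lam cl = true →
      hq w (vec (m + 2) 9) = 1 →
      ((List.range (3 ^ (m + 2))).filter fun i => decide (hq w (vec _ i) = 1)).length = 2 * k →
      ((List.range (3 ^ (m + 2))).filter fun i =>
        decide (hq w (vec _ i) = 1) && decide (hB w (vec _ 9) (vec _ i) = 0)).length = 2 * lam →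
      Mv D d c Q' p' ⊆ cutSet Q' (Λ (Pi.single 0 1)) →
      (∀ y ∈ Mv D d c Q' p', ∀ z, Q' z = 1 → B Q' y z = 0 → B Q' (Λ (Pi.single 0 1)) z = 0 →
        z ∈ Mv D d c Q' p') →
      cutSet Q' (Λ (Pi.single 0 1)) ⊆ Mv D d c Q' p' := by
    intro m Q' p' C' w Λ hΛ hq' hB' cl k lam h1 h2 h3 h4 h5 hs hc'
    have e1 : ∀ x, B Q' (Λ (Pi.single 0 1)) (Λ x) = x 1 := fun x => by
      rw [hB']; simp [hB, Pi.single_apply, Fin.ext_iff]
    intro y ⟨hy, hy1⟩
    obtain ⟨x, rfl⟩ := hΛ.2 y
    exact small_finish g S hd hc hdc (C'.comap Λ hΛ) hq' (fun x y => (comp_polar Q' Λ x y).trans (hB' x y))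
      cl h1 h2 ((hq' _).trans h3) h4 h5
      (fun x hx => (e1 x).symm.trans (hs (show Λ x ∈ Mv D d c Q' p' from hx)).2)
      (fun y hy z hz hyz hz1 => hc' (Λ y) hy (Λ z) hz ((comp_polar Q' Λ y z).symm.trans hyz) ((e1 z).trans hz1))
      x hy ((e1 x).symm.trans hy1)
  rcases (show n = 2 + 1 + 2 ∨ n = 3 + 1 + 2 by omega) with rfl | rfl
  · obtain ⟨t, ht, Λ, hΛ, hq', hB', l0⟩ := exists_std (m := 2) Q C.nd h0 hqφ
    subst l0
    rcases ht with rfl | rfl
    · exact goal C _ hΛ hq' hB' cls51 36 15 cls51_ok sel51_ok (by decide +kernel) pts51 lam51 hsub hcl hx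
    · exact goal C _ hΛ hq' hB' cls52 45 12 cls52_ok sel52_ok (by decide +kernel) pts52 lam52 hsub hcl hx
  · obtain ⟨t, ht, Λ, hΛ, hq', hB', l0⟩ := exists_std (m := 3) Q C.nd h0 hqφ
    subst l0
    rcases ht with rfl | rfl
    · exact goal C _ hΛ hq' hB' cls61 117 36 cls61_ok sel61_ok (by decide +kernel) pts61 lam61 hsub hcl hx
    · exact goal C _ hΛ hq' hB' cls62 126 45 cls62_ok sel62_ok (by decide +kernel) pts62 lam62 hsub hcl hx

end Cfsg.Agent.Spor.FischerThm
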