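import Cfsg.Agent.Lib.Spor.ReflectionStructThree

/-! Quadratic spaces over the field of three elements: duals, partners and points. -/

set_option autoImplicit false
set_option linter.style.haveILetI false
set_option linter.unusedSectionVars false

namespace Cfsg.Agent.Spor.FischerThm.Q3

open Cfsg

/-- Coordinate vectors. -/
abbrev V (n : ℕ) : Type := Fin n → ZMod 3

variable {n : ℕ} (Q : QuadraticForm (ZMod 3) (V n))

/-- The polar form. -/
abbrev B (x y : V n) : ZMod 3 := QuadraticMap.polar ⇑Q x y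

theorem B_comm (x y : V n) : B Q x y = B Q y x := QuadraticMap.polar_comm _ _ _

theorem B_self (x : V n) : B Q x x = 2 * Q x := by
  show QuadraticMap.polar ⇑Q x x = _
  rw [QuadraticMap.polar_self, two_smul, two_mul]

theorem B_add_right (x y z : V n) : B Q x (y + z) = B Q x y + B Q x z :=
  QuadraticMap.polar_add_right Q _ _ _

theorem B_add_left (x y z : V n) : B Q (x + y) z = B Q x z + B Q y z :=
  QuadraticMap.polar_add_left Q _ _ _

theorem B_smul_right (t : ZMod 3) (x y : V n) : B Q x (t • y) = t * B Q x y := by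
  show QuadraticMap.polar ⇑Q x (t • y) = _
  rw [QuadraticMap.polar_smul_right, smul_eq_mul]

theorem B_smul_left (t : ZMod 3) (x y : V n) : B Q (t • x) y = t * B Q x y := by
  rw [B_comm, B_smul_right, B_comm]

theorem B_neg_right (x y : V n) : B Q x (-y) = -B Q x y := QuadraticMap.polar_neg_right Q _ _

theorem B_neg_left (x y : V n) : B Q (-x) y = -B Q x y := QuadraticMap.polar_neg_left Q _ _

theorem B_sub_right (x y z : V n) : B Q x (y - z) = B Q x y - B Q x z := by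
  rw [sub_eq_add_neg, B_add_right, B_neg_right, sub_eq_add_neg]

theorem B_sub_left (x y z : V n) : B Q (x - y) z = B Q x z - B Q y z := by
  rw [B_comm, B_sub_right, B_comm, B_comm Q z y]

theorem B_zero_right (x : V n) : B Q x 0 = 0 := QuadraticMap.polar_zero_right Q _

theorem B_zero_left (x : V n) : B Q 0 x = 0 := QuadraticMap.polar_zero_left Q _

theorem q_add (x y : V n) : Q (x + y) = Q x + Q y + B Q x y := QuadraticMap.map_add (⇑Q) x y

theorem q_smul (t : ZMod 3) (x : V n) : Q (t • x) = t * t * Q x := by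
  rw [QuadraticMap.map_smul, smul_eq_mul]

theorem q_neg (x : V n) : Q (-x) = Q x := QuadraticMap.map_neg Q x

theorem q_sub (x y : V n) : Q (x - y) = Q x + Q y - B Q x y := by
  rw [sub_eq_add_neg x y, q_add, q_neg, B_neg_right]; ring

theorem q_add_smul (x y : V n) (t : ZMod 3) : Q (x + t • y) = Q x + t * t * Q y + t * B Q x y := by
  rw [q_add, q_smul, B_smul_right]

theorem ne_zero_of_q {x : V n} (h : Q x ≠ 0) : x ≠ 0 := fun e => h (by rw [e, QuadraticMap.map_zero])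

theorem ne_zero_of_B {x y : V n} (h : B Q x y ≠ 0) : x ≠ 0 := fun e => h (by rw [e, B_zero_left])

theorem ne_of_B {x y z : V n} (h : B Q x z ≠ B Q y z) : x ≠ y := fun e => h (by rw [e])

variable (hQ : (QuadraticMap.polarBilin Q).Nondegenerate)
include hQ

theorem exists_dual {r : V n} (hr : r ≠ 0) (α : ZMod 3) : ∃ z, B Q r z = α := by
  obtain ⟨z, hz⟩ : ∃ z, B Q r z ≠ 0 := by
    by_contra h
    push Not at h
    exact hr (hQ.1 r h)
  refine ⟨(α * B Q r z) • z, ?_⟩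
  rw [B_smul_right]
  have : ∀ a b : ZMod 3, b ≠ 0 → a * b * b = a := by decide
  exact this _ _ hz

theorem exists_dual_two {r s : V n} (hr : r ≠ 0) (hs : ∀ t : ZMod 3, s ≠ t • r) (α β : ZMod 3) :
    ∃ z, B Q r z = α ∧ B Q s z = β := by
  obtain ⟨z₀, h0⟩ := exists_dual Q hQ hr 1
  set s' := s - B Q s z₀ • r with hs'
  have hne : s' ≠ 0 := sub_ne_zero.mpr (hs _)
  obtain ⟨z₁, h1⟩ := exists_dual Q hQ hne 1
  have h10 : B Q s' z₀ = 0 := by rw [hs', B_sub_left, B_smul_left, h0, mul_one, sub_self]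
  set z₂ := z₁ - B Q r z₁ • z₀
  have e1 : B Q r z₂ = 0 := by simp only [z₂, B_sub_right, B_smul_right, h0, mul_one, sub_self]
  have e2 : B Q s' z₂ = 1 := by simp only [z₂, B_sub_right, B_smul_right, h1, h10, mul_zero, sub_zero]
  have e3 : B Q s z₂ = 1 := by
    rw [hs', B_sub_left, B_smul_left, e1, mul_zero, sub_zero] at e2
    exact e2
  refine ⟨α • z₀ + (β - α * B Q s z₀) • z₂, ?_, ?_⟩
  · rw [B_add_right, B_smul_right, B_smul_right, h0, e1]; ring
  · rw [B_add_right, B_smul_right, B_smul_right, e3]; ring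

omit hQ in
/-- Projection away from an orthogonal anisotropic list. -/
theorem exists_proj {k : ℕ} (e : Fin k → V n) (he : ∀ i, Q (e i) ≠ 0)
    (hperp : ∀ i j, i ≠ j → B Q (e i) (e j) = 0) (z : V n) :
    ∃ z', (∀ i, B Q (e i) z' = 0) ∧ ∀ r, (∀ i, B Q (e i) r = 0) → B Q r z' = B Q r z := by
  refine ⟨z + ∑ i, (Q (e i) * B Q (e i) z) • e i, fun j => ?_, fun r hr => ?_⟩
  · have : B Q (e j) (∑ i, (Q (e i) * B Q (e i) z) • e i) = 2 * B Q (e j) z := by
      show (QuadraticMap.polarBilin Q (e j)) _ = _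
      rw [map_sum, Finset.sum_eq_single j (fun i _ hij => by
        rw [map_smul]; show _ * B Q (e j) (e i) = 0; rw [hperp j i hij.symm, mul_zero]) (by simp),
        map_smul]
      show _ * B Q (e j) (e j) = _
      rw [B_self]
      have : ∀ q b : ZMod 3, q ≠ 0 → q * b * (2 * q) = 2 * b := by decide
      exact this _ _ (he j)
    rw [B_add_right, this]
    have : ∀ b : ZMod 3, b + 2 * b = 0 := by decide
    exact this _
  · rw [B_add_right]
    have : B Q r (∑ i, (Q (e i) * B Q (e i) z) • e i) = 0 := by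
      show (QuadraticMap.polarBilin Q r) _ = _
      rw [map_sum]
      refine Finset.sum_eq_zero fun i _ => ?_
      rw [map_smul]
      show _ * B Q r (e i) = 0
      rw [B_comm Q r, hr i, mul_zero]
    rw [this, add_zero]

/-- A singular vector orthogonal to a list has a singular partner orthogonal to it. -/
theorem exists_partner {k : ℕ} (e : Fin k → V n) (he : ∀ i, Q (e i) ≠ 0)
    (hperp : ∀ i j, i ≠ j → B Q (e i) (e j) = 0) {r : V n} (hr : r ≠ 0) (hq : Q r = 0)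
    (hre : ∀ i, B Q (e i) r = 0) :
    ∃ s, Q s = 0 ∧ B Q r s = 1 ∧ ∀ i, B Q (e i) s = 0 := by
  obtain ⟨z, hz⟩ := exists_dual Q hQ hr 1
  obtain ⟨z', h1, h2⟩ := exists_proj Q e he hperp z
  have h3 : B Q r z' = 1 := (h2 r hre).trans hz
  refine ⟨z' + (-Q z') • r, ?_, ?_, fun i => ?_⟩
  · rw [q_add_smul, hq, B_comm, h3]; ring
  · rw [B_add_right, B_smul_right, B_self, hq, h3]; ring
  · rw [B_add_right, B_smul_right, h1 i, hre i]; ring

omit hQ in
theorem snoc_list {k : ℕ} {e : Fin k → V n} (he : ∀ i, Q (e i) ≠ 0)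
    (hperp : ∀ i j, i ≠ j → B Q (e i) (e j) = 0) {z : V n} (hz : Q z ≠ 0)
    (hze : ∀ i, B Q (e i) z = 0) :
    (∀ i, Q ((Fin.snoc e z : Fin (k + 1) → V n) i) ≠ 0) ∧
      ∀ i j, i ≠ j → B Q ((Fin.snoc e z : Fin (k + 1) → V n) i) ((Fin.snoc e z : Fin (k + 1) → V n) j) = 0 := by
  refine ⟨fun i => by refine Fin.lastCases ?_ (fun i => ?_) i <;> simp [he, hz], fun i j hij => ?_⟩
  revert hij
  refine Fin.lastCases ?_ (fun i => ?_) i <;> refine Fin.lastCases ?_ (fun j => ?_) j <;> intro hij <;>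
    simp only [Fin.snoc_last, Fin.snoc_castSucc]
  · exact absurd rfl hij
  · rw [B_comm]; exact hze j
  · exact hze i
  · exact hperp i j fun e => hij (by rw [e])

/-- A point orthogonal to a list and to a singular vector. -/
theorem exists_point_perp {k : ℕ} (hk : k + 3 < n) (e : Fin k → V n) (he : ∀ i, Q (e i) ≠ 0)
    (hperp : ∀ i j, i ≠ j → B Q (e i) (e j) = 0) {r : V n} (hr : r ≠ 0) (hq : Q r = 0)
    (hre : ∀ i, B Q (e i) r = 0) : ∃ p, Q p = 1 ∧ (∀ i, B Q (e i) p = 0) ∧ B Q r p = 0 := by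
  obtain ⟨s, hs, hrs, hse⟩ := exists_partner Q hQ e he hperp hr hq hre
  have q1 : Q (r + s) = 1 := by rw [q_add, hq, hs, hrs]; rfl
  have q2 : Q (r - s) = 2 := by rw [q_sub, hq, hs, hrs]; rfl
  obtain ⟨he1, hp1⟩ := snoc_list Q he hperp (z := r + s) (by rw [q1]; decide)
    fun i => by rw [B_add_right, hre i, hse i, add_zero]
  obtain ⟨he2, hp2⟩ := snoc_list Q he1 hp1 (z := r - s) (by rw [q2]; decide) fun i => by
    refine Fin.lastCases ?_ (fun i => ?_) i
    · rw [Fin.snoc_last, B_add_left, B_sub_right, B_sub_right, B_self, B_self, hq, hs, B_comm Q s r]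
      ring
    · rw [Fin.snoc_castSucc, B_sub_right, hre i, hse i, sub_zero]
  obtain ⟨p, hp, hpe⟩ := ReflThree.exists_norm_perp hQ (c := 1) one_ne_zero (k := k + 1 + 1) (by omega)
    _ he2 hp2
  refine ⟨p, hp, fun i => by simpa using hpe i.castSucc.castSucc, ?_⟩
  have h1 : B Q (r + s) p = 0 := by simpa using hpe (Fin.last k).castSucc
  have h2 : B Q (r - s) p = 0 := by simpa using hpe (Fin.last (k + 1))
  rw [B_add_left] at h1
  rw [B_sub_left] at h2
  exact (by decide : ∀ x y : ZMod 3, x + y = 0 → x - y = 0 → x = 0) _ _ h1 h2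

omit hQ in
/-- Two singular vectors with the same line. -/
theorem smul_cases {φ φ' : V n} (h0 : φ' ≠ 0) (t : ZMod 3) (h : φ' = t • φ) : φ' = φ ∨ φ' = -φ := by
  rcases (by decide : ∀ t : ZMod 3, t = 0 ∨ t = 1 ∨ t = -1) t with rfl | rfl | rfl
  · exact absurd (by rw [h, zero_smul]) h0
  · exact Or.inl (by rw [h, one_smul])
  · exact Or.inr (by rw [h, neg_one_smul])

/-- Points separate orthogonal singular lines. -/
theorem exists_point_sep {k : ℕ} (e : Fin k → V n) (he : ∀ i, Q (e i) ≠ 0)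
    (hperp : ∀ i j, i ≠ j → B Q (e i) (e j) = 0) {φ φ' : V n} (hφ : φ ≠ 0) (hφ' : φ' ≠ 0)
    (hq : Q φ' = 0) (hpp : B Q φ φ' = 0) (heφ : ∀ i, B Q (e i) φ = 0) (heφ' : ∀ i, B Q (e i) φ' = 0)
    (h1 : φ' ≠ φ) (h2 : φ' ≠ -φ) :
    ∃ p, Q p = 1 ∧ (∀ i, B Q (e i) p = 0) ∧ B Q φ p = 0 ∧ B Q φ' p = 1 := by
  obtain ⟨z, hz1, hz2⟩ := exists_dual_two Q hQ hφ
    (fun t e => (smul_cases hφ' t e).elim h1 h2) 0 1
  obtain ⟨z', h3, h4⟩ := exists_proj Q e he hperp z
  have a1 : B Q φ z' = 0 := (h4 φ heφ).trans hz1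
  have a2 : B Q φ' z' = 1 := (h4 φ' heφ').trans hz2
  refine ⟨z' + (1 - Q z') • φ', ?_, fun i => ?_, ?_, ?_⟩
  · rw [q_add_smul, hq, B_comm, a2]; ring
  · rw [B_add_right, B_smul_right, h3 i, heφ' i]; ring
  · rw [B_add_right, B_smul_right, a1, hpp]; ring
  · rw [B_add_right, B_smul_right, a2, B_self, hq]; ring

/-- A singular vector meeting two independent ones. -/
theorem exists_link {φ ψ : V n} (hφ : φ ≠ 0) (hψ : ψ ≠ 0) (hqφ : Q φ = 0) (hpp : B Q φ ψ = 0)
    (h1 : ψ ≠ φ) (h2 : ψ ≠ -φ) : ∃ χ, Q χ = 0 ∧ B Q φ χ = 1 ∧ B Q ψ χ = 1 := by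
  obtain ⟨z, hz1, hz2⟩ := exists_dual_two Q hQ hφ (fun t e => (smul_cases hψ t e).elim h1 h2) 1 1
  refine ⟨z + (-Q z) • φ, ?_, ?_, ?_⟩
  · rw [q_add_smul, hqφ, B_comm, hz1]; ring
  · rw [B_add_right, B_smul_right, hz1, B_self, hqφ]; ring
  · rw [B_add_right, B_smul_right, hz2, B_comm Q ψ φ, hpp]; ring

/-- Reflections in points connect the singular vectors. -/
theorem sing_orbit {A : Set (V n)} (hneg : ∀ x ∈ A, -x ∈ A)
    (hσ : ∀ u, Q u = 1 → ∀ x ∈ A, x - B Q u x • u ∈ A) {φ : V n} (hφA : φ ∈ A) (hqφ : Q φ = 0)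
    (hφ : φ ≠ 0) : ∀ ψ, ψ ≠ 0 → Q ψ = 0 → ψ ∈ A := by
  have step : ∀ φ ψ, φ ∈ A → Q φ = 0 → Q ψ = 0 → B Q φ ψ ≠ 0 → ψ ∈ A := by
    intro φ ψ hA hq hq' hb
    rcases (by decide : ∀ t : ZMod 3, t ≠ 0 → t = 1 ∨ t = -1) _ hb with e | e
    · have hu : Q (φ + ψ) = 1 := by rw [q_add, hq, hq', e]; rfl
      have := hneg _ (hσ _ hu φ hA)
      rw [B_add_left, B_self, hq, B_comm Q ψ φ, e] at this
      simpa using this
    · have hu : Q (φ - ψ) = 1 := by rw [q_sub, hq, hq', e]; rfl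
      have := hσ _ hu φ hA
      rw [B_sub_left, B_self, hq, B_comm Q ψ φ, e] at this
      simpa using this
  intro ψ hψ hqψ
  by_cases e1 : ψ = φ
  · exact e1 ▸ hφA
  by_cases e2 : ψ = -φ
  · exact e2 ▸ hneg _ hφA
  by_cases hb : B Q φ ψ = 0
  · obtain ⟨χ, hχ, b1, b2⟩ := exists_link Q hQ hφ hψ hqφ hb e1 e2
    exact step χ ψ (step φ χ hφA hqφ hχ (by rw [b1]; exact one_ne_zero)) hχ hqψ
      (by rw [B_comm, b2]; exact one_ne_zero)
  · exact step φ ψ hφA hqφ hqψ hb

/-- An orthogonal basis with all norms but the last equal to one. -/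
theorem exists_frame {m : ℕ} (hn : n = m + 1) :
    ∃ e : Fin n → V n, (∀ i : Fin n, i.val < m → Q (e i) = 1) ∧ (∀ i, Q (e i) ≠ 0) ∧
      ∀ i j, i ≠ j → B Q (e i) (e j) = 0 := by
  subst hn
  have key : ∀ k, k ≤ m → ∃ e : Fin k → V (m + 1), (∀ i, Q (e i) = 1) ∧
      ∀ i j, i ≠ j → B Q (e i) (e j) = 0 := by
    intro k
    induction k with
    | zero => exact fun _ => ⟨fun i => i.elim0, fun i => i.elim0, fun i => i.elim0⟩
    | succ k ih =>
      intro hk
      obtain ⟨e, he, hp⟩ := ih (by omega)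
      obtain ⟨z, hz, hze⟩ := ReflThree.exists_norm_perp hQ (c := 1) one_ne_zero (k := k) (by omega) e
        (fun i => by rw [he]; exact one_ne_zero) hp
      exact ⟨Fin.snoc e z, fun i => by refine Fin.lastCases ?_ (fun i => ?_) i <;> simp [he, hz],
        (snoc_list Q (fun i => by rw [he]; exact one_ne_zero) hp (by rw [hz]; exact one_ne_zero) hze).2⟩
  obtain ⟨e, he, hp⟩ := key m le_rfl
  obtain ⟨z, hz, hze⟩ := ReflThree.exists_perp Q (by decide) hQ (k := m) (by simp) e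
    (fun i => by rw [he]; exact one_ne_zero) hp
  refine ⟨Fin.snoc e z, fun i hi => ?_, (snoc_list Q (fun i => by rw [he]; exact one_ne_zero) hp hz hze).1,
    (snoc_list Q (fun i => by rw [he]; exact one_ne_zero) hp hz hze).2⟩
  have ei : i = Fin.castSucc ⟨i.val, hi⟩ := rfl
  rw [ei, Fin.snoc_castSucc, he]

end Cfsg.Agent.Spor.FischerThm.Q3
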