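import Cfsg.Agent.Lib.Spor.FischerThm.SmallModels
import Cfsg.Agent.Lib.Spor.FischerThm.Basic
import Cfsg.Agent.Lib.Spor.FourGen
import Cfsg.Agent.S0439

/-! The class with simple derived group: width one gives `S₃`, width two gives the standing facts. -/

set_option autoImplicit false
set_option linter.style.haveILetI false
set_option linter.unusedSectionVars false

namespace Cfsg.Agent.Spor.FischerThm

open Cfsg Cfsg.Agent.Spor.ThreeTrans Cfsg.Agent.Block.FischerTypes
open scoped commutatorElement

variable {G : Type*} [Group G] [Finite G] {D : Set G}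

theorem three_swap : ∀ σ : Equiv.Perm (Fin 3), σ * σ = 1 → σ ≠ 1 →
    ∃ x y, x ≠ y ∧ σ = Equiv.swap x y := by decide +kernel

/-- A commutative simple derived group has prime order. -/
theorem prime_card {K : Type*} [Group K] [Finite K] [IsSimpleGroup K] (h : ∀ a b : K, a * b = b * a) :
    (Nat.card K).Prime := by
  letI : CommGroup K := { (inferInstance : Group K) with mul_comm := h }
  exact IsSimpleGroup.prime_card

theorem mem_derived (h : IsThreeTranspositionClass D) {a b : G} (ha : a ∈ D) (hb : b ∈ D) :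
    a * b ∈ commutator G := by
  obtain ⟨r, rfl⟩ := transitive h ha hb
  have e : a * (r * a * r⁻¹) = ⁅a, r⁆ := by
    rw [commutatorElement_def, inv_eq h.1 ha]; group
  rw [e]
  exact Subgroup.commutator_mem_commutator (Subgroup.mem_top a) (Subgroup.mem_top r)

theorem not_all_comm (h : IsThreeTranspositionClass D) (hZ : Subgroup.center G = ⊥) :
    ∃ a ∈ D, ∃ b ∈ D, ¬ Commute a b := by
  by_contra hno
  push Not at hno
  obtain ⟨a, ha, -⟩ := h.2.1
  have : Subgroup.closure D ≤ Subgroup.centralizer {a} := (Subgroup.closure_le _).mpr fun x hx =>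
    Subgroup.mem_centralizer_singleton_iff.mpr (hno x hx a ha).eq
  rw [h.2.2] at this
  have hc : a ∈ Subgroup.center G := Subgroup.mem_center_iff.mpr fun x =>
    Subgroup.mem_centralizer_singleton_iff.mp (this (Subgroup.mem_top x))
  rw [hZ, Subgroup.mem_bot] at hc
  exact ne_one h.1 ha hc

/-- Width two: the standing facts hold. -/
theorem good_of_simple (h : IsThreeTranspositionClass D) (hZ : Subgroup.center G = ⊥)
    (hs : IsSimpleGroup (commutator G)) (hw : ∃ a ∈ D, ∃ b ∈ D, a ≠ b ∧ Commute a b) : Good D := by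
  obtain ⟨a, ha, b, hb, hab, hc⟩ := hw
  refine ⟨hyp_of_simple h hs ?_, hZ, a, ha, b, hb, hab, hc⟩
  by_contra hno
  push Not at hno
  have hp := prime_card hno
  haveI : Fact (Nat.card (commutator G)).Prime := ⟨hp⟩
  set z : commutator G := ⟨a * b, mem_derived h ha hb⟩ with hz
  have hz2 : z ^ 2 = 1 := Subtype.ext (by
    show (a * b) ^ 2 = 1
    rw [hc.mul_pow, pow_two, pow_two, ThreeTrans.mul_self h.1 ha, ThreeTrans.mul_self h.1 hb, mul_one])
  have hz1 : z ≠ 1 := fun e => hab (by
    have e' : a * b = 1 := congrArg Subtype.val e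
    rw [eq_inv_of_mul_eq_one_left e', inv_eq h.1 hb])
  have h2 : Nat.card (commutator G) = 2 := by
    have e : orderOf z = 2 := orderOf_eq_prime hz2 hz1
    exact ((Nat.prime_dvd_prime_iff_eq Nat.prime_two hp).mp (e ▸ orderOf_dvd_natCard z)).symm
  refine hz1 (Subtype.ext ?_)
  show a * b = 1
  rw [← Subgroup.mem_bot, ← hZ, Subgroup.mem_center_iff]
  intro x
  let w : commutator G := ⟨x * (a * b) * x⁻¹,
    Subgroup.Normal.conj_mem inferInstance _ z.2 x⟩
  have hw1 : w ≠ 1 := fun e => hz1 (Subtype.ext (conj_eq_one_iff.mp (congrArg Subtype.val e)))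
  obtain ⟨p, q, hpq, hu⟩ := Nat.card_eq_two_iff.mp h2
  have all2 : ∀ u v : commutator G, u ≠ 1 → v ≠ 1 → u = v := by
    intro u v hu' hv'
    have hu2 : u ∈ ({p, q} : Set _) := hu ▸ Set.mem_univ u
    have hv2 : v ∈ ({p, q} : Set _) := hu ▸ Set.mem_univ v
    have h12 : (1 : commutator G) ∈ ({p, q} : Set _) := hu ▸ Set.mem_univ 1
    simp only [Set.mem_insert_iff, Set.mem_singleton_iff] at hu2 hv2 h12
    grind
  have e : x * (a * b) * x⁻¹ = a * b := congrArg Subtype.val (all2 w z hw1 hz1)
  exact mul_inv_eq_iff_eq_mul.mp e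

/-- Width one gives the symmetric group of degree three. -/
theorem width_one (h : IsThreeTranspositionClass D) (hZ : Subgroup.center G = ⊥)
    (hs : IsSimpleGroup (commutator G)) (hw : ∀ a ∈ D, ∀ b ∈ D, Commute a b → a = b) :
    ∃ e : G ≃* Equiv.Perm (Fin 3), e '' D = {σ | σ.IsSwap} := by
  classical
  haveI : Fact (Nat.Prime 3) := ⟨Nat.prime_three⟩
  haveI : (pCore 3 G).Normal := Grp.pCore_isNormal
  have h3 : ∀ x ∈ D, ∀ y ∈ D, (x * y) ^ 3 = 1 := fun x hx y hy => by
    by_cases e : x = y
    · rw [e, ThreeTrans.mul_self h.1 hy, one_pow]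
    · exact pow_three_of_not_commute h hx hy fun k => e (hw x hx y hy k)
  have hin : ∀ x ∈ D, ∀ y ∈ D, x * y ∈ pCore 3 G := fun x hx y hy =>
    Spor.FourGen.mul_mem_pCore D (fun x hx => ThreeTrans.mul_self h.1 hx) (fun g x hx => conj_mem h g hx)
      h3 hx hy
  obtain ⟨a, ha, b, hb, hab⟩ := not_all_comm h hZ
  -- the derived group has order three
  have hle : commutator G ≤ pCore 3 G := by
    have hgen : ∀ g : G, g ∈ pCore 3 G ∨ g * a ∈ pCore 3 G := by
      intro g
      have hg : g ∈ Subgroup.closure D := h.2.2 ▸ Subgroup.mem_top g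
      have step : ∀ x ∈ D, ∀ y, y ∈ pCore 3 G ∨ y * a ∈ pCore 3 G →
          x * y ∈ pCore 3 G ∨ x * y * a ∈ pCore 3 G := by
        intro x hx y k
        have hxa := hin x hx a ha
        rcases k with k | k
        · refine Or.inr ?_
          have e : x * y * a = x * a * (a⁻¹ * y * a⁻¹⁻¹) := by group
          rw [e]
          exact mul_mem hxa (Subgroup.Normal.conj_mem inferInstance y k a⁻¹)
        · refine Or.inl ?_
          have e : x * y = x * a * (a⁻¹ * (y * a) * a⁻¹⁻¹) * (a * a)⁻¹ := by group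
          rw [ThreeTrans.mul_self h.1 ha, inv_one, mul_one] at e
          rw [e]
          exact mul_mem hxa (Subgroup.Normal.conj_mem inferInstance (y * a) k a⁻¹)
      induction hg using Subgroup.closure_induction_left with
      | one => exact Or.inl (one_mem _)
      | mul_left x hx y _ ih => exact step x hx y ih
      | inv_mul_cancel x hx y _ ih => rw [inv_eq h.1 hx]; exact step x hx y ih
    let π := QuotientGroup.mk' (pCore 3 G)
    have hπ : ∀ g, π g = 1 ∨ π g = π a := by
      intro g
      rcases hgen g with k | k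
      · exact Or.inl ((QuotientGroup.eq_one_iff g).mpr k)
      · refine Or.inr ?_
        have e : π g * π a = 1 := by
          rw [← map_mul]; exact (QuotientGroup.eq_one_iff _).mpr k
        rw [eq_inv_of_mul_eq_one_left e, ← map_inv, inv_eq h.1 ha]
    rw [commutator_def, Subgroup.commutator_le]
    intro u _ v _
    rw [← QuotientGroup.eq_one_iff]
    show π ⁅u, v⁆ = 1
    rw [map_commutatorElement, commutatorElement_eq_one_iff_mul_comm]
    rcases hπ u with e | e <;> rcases hπ v with e' | e' <;> simp [e, e']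
  have hP : IsPGroup 3 (commutator G) := (Grp.pCore_isPGroup (p := 3) (G := G)).to_le hle
  haveI : Group.IsNilpotent (commutator G) := hP.isNilpotent
  have hcomm : ∀ u v : commutator G, u * v = v * u := IsSimpleGroup.comm_iff_isSolvable.mpr inferInstance
  have hcard : Nat.card (commutator G) = 3 := by
    obtain ⟨j, hj⟩ := IsPGroup.iff_card.mp hP
    have hp := prime_card hcomm
    rw [hj] at hp ⊢
    rw [Nat.Prime.eq_one_of_pow hp, pow_one]
  -- three members
  let f : ↥D → ↥(commutator G) := fun x => ⟨a * x, mem_derived h ha x.2⟩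
  have hf : Function.Injective f := fun x y e => Subtype.ext (mul_left_cancel (congrArg Subtype.val e))
  have hD3 : Nat.card ↥D ≤ 3 := hcard ▸ Nat.card_le_card_of_injective f hf
  have hD3' : 3 ≤ Nat.card ↥D := by
    have hc : a * b * a ∈ D := by
      have := conj_mem h a hb
      rwa [inv_eq h.1 ha] at this
    have n1 : a ≠ b := fun e => hab (e ▸ Commute.refl a)
    have n2 : a * b * a ≠ a := fun e => n1 (by
      have : a * b = 1 := mul_eq_right.mp e
      rw [eq_inv_of_mul_eq_one_left this, inv_eq h.1 hb])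
    have n3 : a * b * a ≠ b := fun e => hab (by
      show a * b = b * a
      have e' : a * b * a * a = b * a := by rw [e]
      rwa [mul_assoc (a * b), ThreeTrans.mul_self h.1 ha, mul_one] at e')
    have : ({a, b, a * b * a} : Set G).ncard = 3 :=
      Set.ncard_eq_three.mpr ⟨a, b, a * b * a, n1, n2.symm, n3.symm, rfl⟩
    rw [Nat.card_coe_set_eq, ← this]
    exact Set.ncard_le_ncard (by simp [Set.insert_subset_iff, ha, hb, hc])
  let eD : ↥D ≃ Fin 3 := Finite.equivFinOfCardEq (le_antisymm hD3 hD3')
  let act : G →* Equiv.Perm ↥D :=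
    { toFun := fun g =>
        { toFun := fun x => ⟨g * x * g⁻¹, conj_mem h g x.2⟩
          invFun := fun x => ⟨g⁻¹ * x * g⁻¹⁻¹, conj_mem h g⁻¹ x.2⟩
          left_inv := fun x => Subtype.ext (by show g⁻¹ * (g * x * g⁻¹) * g⁻¹⁻¹ = x; group)
          right_inv := fun x => Subtype.ext (by show g * (g⁻¹ * x * g⁻¹⁻¹) * g⁻¹ = x; group) }
      map_one' := Equiv.ext fun x => Subtype.ext (by show (1 : G) * x * 1⁻¹ = x; group)
      map_mul' := fun g k => Equiv.ext fun x => Subtype.ext (by
        show g * k * x * (g * k)⁻¹ = g * (k * x * k⁻¹) * g⁻¹; group) }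
  let ψ : G →* Equiv.Perm (Fin 3) := (Equiv.permCongrHom eD).toMonoidHom.comp act
  have hψ : Function.Injective ψ := by
    rw [injective_iff_map_eq_one]
    intro g hg
    have hg' : act g = 1 := by
      have := (Equiv.permCongrHom eD).injective (a₁ := act g) (a₂ := 1) (by rw [map_one]; exact hg)
      exact this
    rw [← Subgroup.mem_bot, ← hZ, Subgroup.mem_center_iff]
    have hgd : ∀ x ∈ D, g * x * g⁻¹ = x := fun x hx =>
      congrArg Subtype.val (Equiv.congr_fun hg' ⟨x, hx⟩)
    intro x
    have : Subgroup.closure D ≤ Subgroup.centralizer {g} := (Subgroup.closure_le _).mpr fun y hy =>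
      Subgroup.mem_centralizer_singleton_iff.mpr (mul_inv_eq_iff_eq_mul.mp (hgd y hy)).symm
    rw [h.2.2] at this
    exact Subgroup.mem_centralizer_singleton_iff.mp (this (Subgroup.mem_top x))
  have h6 : Nat.card (Equiv.Perm (Fin 3)) ≤ Nat.card G := by
    have d2 : 2 ∣ Nat.card G := h.1.1 a ha ▸ orderOf_dvd_natCard a
    have d3 : 3 ∣ Nat.card G := hcard ▸ Subgroup.card_subgroup_dvd_card _
    have h0 : 0 < Nat.card G := Nat.card_pos
    rw [Nat.card_eq_fintype_card (α := Equiv.Perm (Fin 3)), Fintype.card_perm, Fintype.card_fin]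
    show 6 ≤ Nat.card G
    omega
  let e : G ≃* Equiv.Perm (Fin 3) := MulEquiv.ofBijective ψ (hψ.bijective_of_nat_card_le h6)
  refine ⟨e, ?_⟩
  have hE := Block.FischerTypes.class_image e h
  have hea : e a ∈ e '' D := ⟨a, ha, rfl⟩
  exact class_eq hE (Cfsg.Agent.S0439.result 3 (by norm_num)) hea
    (three_swap (e a) (ThreeTrans.mul_self hE.1 hea) (ThreeTrans.ne_one hE.1 hea))

end Cfsg.Agent.Spor.FischerThm
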