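import Cfsg.Agent.Lib.Fus.ThreeA.Refl
import Cfsg.Agent.Lib.Spor.FischerThm.Width
import Cfsg.Agent.Lib.Block.FischerTypes.M23Order
import Cfsg.Agent.Lib.Spor.FischerThm.Induct

/-! Which of Fischer's groups are simple. -/

set_option autoImplicit false
set_option linter.style.haveILetI false
set_option linter.unusedSectionVars false

namespace Cfsg.Agent.Spor.FischerThm

open Matrix Cfsg Cfsg.Agent.Spor.ThreeTrans Cfsg.Agent.Block.FischerTypes Cfsg.Agent.Classical

theorem commutator_image {G X : Type*} [Group G] [Group X] (f : G →* X) (hf : Function.Surjective f)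
    (h : commutator G = ⊤) : commutator X = ⊤ := by
  have e : (commutator G).map f = commutator X := by
    rw [commutator_def, Subgroup.map_commutator, Subgroup.map_top_of_surjective _ hf, commutator_def]
  rw [← e, h, Subgroup.map_top_of_surjective _ hf]

theorem perfect_hom {G A : Type*} [Group G] [CommGroup A] (h : commutator G = ⊤) (χ : G →* A) (g : G) :
    χ g = 1 :=
  Abelianization.commutator_subset_ker χ (h ▸ Subgroup.mem_top g)

theorem sym_absurd {n : ℕ} (hn : 2 ≤ n) {G : Type*} [Group G] (h : commutator G = ⊤)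
    (e : G ≃* Equiv.Perm (Fin n)) : False := by
  have hh := commutator_image e.toMonoidHom e.surjective h
  have hne : (⟨0, by omega⟩ : Fin n) ≠ ⟨1, by omega⟩ := by simp [Fin.ext_iff]
  have := perfect_hom hh Equiv.Perm.sign (Equiv.swap (⟨0, by omega⟩ : Fin n) ⟨1, by omega⟩)
  rw [Equiv.Perm.sign_swap hne] at this
  exact absurd this (by decide)

theorem orth_simple_absurd {ι : Type} [Fintype ι] [DecidableEq ι] (Q : QuadraticForm (ZMod 2) (ι → ZMod 2))
    (hQ : (QuadraticMap.polarBilin Q).Nondegenerate) (hn : 5 ≤ Fintype.card ι) {G : Type*} [Group G]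
    (h : commutator G = ⊤) (e : G ≃* ↥(isometryGroup (ZMod 2) ⇑Q)) : False := by
  have hh := commutator_image e.toMonoidHom e.surjective h
  have hi := OrthAut.index_omega_two hQ (Or.inr (by omega) : OrthAut.GenQ (ZMod 2) ι) rfl (by omega)
  rw [show Omega (ZMod 2) ⇑Q = ⊤ from hh, Subgroup.index_top] at hi
  exact absurd hi (by norm_num)

variable {n : ℕ} {Q : QuadraticForm (ZMod 3) (Fin n → ZMod 3)}

/-- Perfect projective reflection groups live in odd dimension and are the projective derived groups. -/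
theorem refl_perfect (hn : 5 ≤ n) (hQ : (QuadraticMap.polarBilin Q).Nondegenerate) {c : ZMod 3} (hc : c ≠ 0)
    {G : Type*} [Group G] (h : commutator G = ⊤) (hZ : Subgroup.center G = ⊥) (e : G ≃* RGrp Q c) :
    ∃ m, Nonempty (G ≃* POmega (ZMod 3) (quadFormOdd m (ZMod 3))) := by
  classical
  set R := reflectionSubgroup (⇑Q) c with hR
  have hX : commutator (↥R ⧸ Subgroup.center ↥R) = ⊤ := commutator_image e.toMonoidHom e.surjective h
  rcases Nat.even_or_odd n with hev | ⟨m, hm⟩
  · exfalso
    let det : ↥R →* (ZMod 3)ˣ :=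
      ((Units.map (Matrix.detMonoidHom : Matrix (Fin n) (Fin n) (ZMod 3) →* ZMod 3)).comp
        (isometryGroup (ZMod 3) ⇑Q).subtype).comp R.subtype
    have hker : Subgroup.center ↥R ≤ det.ker := fun z hz => by
      refine MonoidHom.mem_ker.mpr (Units.ext ?_)
      show (Fus.ThreeA.Refl.mat z).det = 1
      rcases Fus.ThreeA.Refl.central hn hQ hc hz with k | k
      · rw [k, det_one]
      · rw [k, det_neg, det_one, Fintype.card_fin, hev.neg_one_pow, one_mul]
    obtain ⟨v, hv, -⟩ := Spor.ReflThree.exists_norm_perp hQ hc (k := 0) (by omega) (fun i => i.elim0)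
      (fun i => i.elim0) fun i => i.elim0
    have hv0 : Q v ≠ 0 := hv ▸ hc
    have := perfect_hom hX (QuotientGroup.lift _ det hker)
      (QuotientGroup.mk (⟨OrthAut.refl hv0, Subgroup.subset_closure ⟨v, hv, rfl⟩⟩ : ↥R))
    have h1 : (reflectionMatrix ⇑Q v).det = 1 := congrArg Units.val this
    rw [det_reflection Q hv0] at h1
    exact absurd h1 (by decide)
  have h2 : (2 : ZMod 3) ≠ 0 := by decide
  have hidx := Spor.ReflThree.reflection_index hn hQ hc
  haveI : R.Normal := Subgroup.normal_of_index_eq_two hidx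
  have hΩR : Omega (ZMod 3) ⇑Q ≤ R := by
    haveI : IsCyclic (isometryGroup (ZMod 3) ⇑Q ⧸ R) := isCyclic_of_prime_card (p := 2)
      (show Nat.card _ = 2 from hidx)
    exact Subgroup.Normal.quotient_commutative_iff_commutator_le.mp IsCyclic.isMulCommutative
  let ρ : ↥(Omega (ZMod 3) ⇑Q) →* ↥R ⧸ Subgroup.center ↥R :=
    (QuotientGroup.mk' _).comp (Subgroup.inclusion hΩR)
  have hinj : Function.Injective ρ := by
    refine (injective_iff_map_eq_one ρ).mpr fun g hg => Subtype.ext ?_
    have hz : Subgroup.inclusion hΩR g ∈ Subgroup.center ↥R := (QuotientGroup.eq_one_iff _).mp hg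
    rcases Fus.ThreeA.Refl.central hn hQ hc hz with k | k
    · exact Subtype.ext (Units.ext k)
    · exfalso
      have h1 := Fus.ThreeA.Refl.det_omega g.2
      change (Fus.ThreeA.Refl.mat (Subgroup.inclusion hΩR g)).det = 1 at h1
      rw [k, det_neg, det_one, Fintype.card_fin, hm, Odd.neg_one_pow ⟨m, rfl⟩] at h1
      exact absurd h1 (by decide)
  have hsurj : Function.Surjective ρ := fun q => by
    have hle : (commutator ↥R).map (QuotientGroup.mk' (Subgroup.center ↥R)) ≤ ρ.range := by
      rintro _ ⟨x, hx, rfl⟩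
      have hxΩ : (x : ↥(isometryGroup (ZMod 3) ⇑Q)) ∈ Omega (ZMod 3) ⇑Q := by
        have hmem : (x : ↥(isometryGroup (ZMod 3) ⇑Q)) ∈ (commutator ↥R).map R.subtype := ⟨x, hx, rfl⟩
        rw [commutator_def, Subgroup.map_commutator] at hmem
        exact (Subgroup.commutator_mono le_top le_top) hmem
      exact ⟨⟨_, hxΩ⟩, rfl⟩
    rw [commutator_def, Subgroup.map_commutator,
      Subgroup.map_top_of_surjective _ (QuotientGroup.mk'_surjective _), ← commutator_def, hX] at hle
    exact hle (Subgroup.mem_top q)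
  let e1 : G ≃* ↥(Omega (ZMod 3) ⇑Q) := e.trans (MulEquiv.ofBijective ρ ⟨hinj, hsurj⟩).symm
  obtain ⟨φ⟩ := PrimeGraphBC.exists_mulEquiv_odd (n := m) h2 hQ (by simp [hm])
  have hmap : (Omega (ZMod 3) ⇑Q).map φ.toMonoidHom = Omega (ZMod 3) ⇑(qfOdd m (ZMod 3)) := by
    show (commutator _).map _ = commutator _
    rw [commutator_def, Subgroup.map_commutator, Subgroup.map_top_of_surjective _ φ.surjective, commutator_def]
  let e2 : G ≃* ↥(Omega (ZMod 3) ⇑(qfOdd m (ZMod 3))) :=
    e1.trans (((Omega (ZMod 3) ⇑Q).equivMapOfInjective φ.toMonoidHom φ.injective).trans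
      (MulEquiv.subgroupCongr hmap))
  refine ⟨m, ?_⟩
  rw [← coe_qfOdd]
  exact ⟨e2.trans ((QuotientGroup.quotientMulEquivOfEq (center_bot_map e2 hZ)).trans
    QuotientGroup.quotientBot).symm⟩

end Cfsg.Agent.Spor.FischerThm
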