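import Cfsg.Agent.Lib.Spor.FischerThm.UnitModel
import Cfsg.Agent.Lib.Spor.FischerThm.ReflFive

/-! The unitary class of degree four is a reflection class of dimension five. -/

set_option autoImplicit false
set_option linter.style.haveILetI false
set_option linter.unusedSectionVars false
set_option maxRecDepth 100000

namespace Cfsg.Agent.Spor.FischerThm

open Cfsg Cfsg.Agent.Spor.ThreeTrans Cfsg.Agent.Block.FischerTypes
open Cfsg.Agent.Spor.FischerThm.Q3

/-- The forty-five points. -/
def fourPts : List ℕ :=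
  [3, 5, 6, 9, 10, 12, 15, 129, 131, 141, 143, 257, 258, 261, 262, 267, 271, 393, 395, 397, 399, 513, 514, 516, 519, 521, 522, 524, 527, 645, 647, 653, 655, 771, 775, 779, 783, 897, 899, 901, 903, 905, 907, 909, 911]

/-- Their vectors. -/
def fourVecs : List ℕ :=
  [1, 40, 41, 43, 44, 3, 81, 127, 128, 155, 118, 98, 97, 139, 140, 123, 156, 49, 104, 115, 53, 95, 94, 132, 120, 142, 143, 129, 159, 52, 107, 112, 50, 27, 147, 150, 9, 119, 146, 103, 113, 106, 116, 145, 154]

/-- The vector of a point. -/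
def fourImg (c : ℕ) : ℕ := fourVecs.getD (fourPts.idxOf c) 0

/-- The sum of five squares. -/
def sumSq (x : V 5) : ZMod 3 := x 0 * x 0 + x 1 * x 1 + x 2 * x 2 + x 3 * x 3 + x 4 * x 4

/-- Its polar. -/
def sumB (x y : V 5) : ZMod 3 := 2 * (x 0 * y 0 + x 1 * y 1 + x 2 * y 2 + x 3 * y 3 + x 4 * y 4)

theorem fourPts_all : ((List.range 4096).all fun c => !ptN 4 c || fourPts.contains c) = true := by decide +kernel

theorem fourPts_ok : (fourPts.all fun c => ptN 4 c && decide (sumSq (vec 5 (fourImg c)) = 1)) = true := by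
  decide +kernel

theorem four_move : (fourPts.all fun p => fourPts.all fun c =>
    let a := vec 5 (fourImg p)
    let b := vec 5 (fourImg c)
    let m := vec 5 (fourImg (U6Code.refl p c))
    decide (m = b - sumB a b • a) || decide (m = -(b - sumB a b • a))) = true := by
  decide +kernel

theorem four_onto : ((List.range 243).all fun k => !decide (sumSq (vec 5 k) = 1) ||
    fourPts.any fun c => decide (vec 5 (fourImg c) = vec 5 k) || decide (vec 5 (fourImg c) = -vec 5 k)) = true := by
  decide +kernel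

theorem four_two : ptN 4 3 = true ∧ ptN 4 5 = true ∧ vec 5 (fourImg 3) ≠ vec 5 (fourImg 5) ∧
    vec 5 (fourImg 3) ≠ -vec 5 (fourImg 5) := by decide +kernel

variable {X : Type*} [Group X] [Finite X] {E : Set X}

/-- The class of degree four. -/
theorem unit_four (g : Good E) (N : UNum E 4) :
    ∃ Q : QuadraticForm (ZMod 3) (V 5), (QuadraticMap.polarBilin Q).Nondegenerate ∧
      ∃ e : X ≃* RGrp Q 1, e '' E = rset Q 1 := by
  classical
  let Q : QuadraticForm (ZMod 3) (V 5) := QuadraticMap.weightedSumSquares (ZMod 3) ![1, 1, 1, 1, (1 : ZMod 3)]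
  have hQ : ∀ x, Q x = sumSq x := fun x => by
    simp [Q, QuadraticMap.weightedSumSquares_apply, Fin.sum_univ_five, sumSq]
  have hB : ∀ x y, B Q x y = sumB x y := fun x y => by
    simp only [B, QuadraticMap.polar, hQ, sumSq, sumB, Pi.add_apply]; ring
  have hnd : (QuadraticMap.polarBilin Q).Nondegenerate := by
    have left : ∀ x : V 5, (∀ y, B Q x y = 0) → x = 0 := fun x hx => by
      obtain ⟨i, hi, rfl⟩ := exists_code x
      have : ∀ i : Fin 243, (∀ k : Fin 5, sumB (vec 5 i) (Pi.single k 1) = 0) → vec 5 i = 0 := by decide +kernel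
      exact this ⟨i, by omega⟩ fun k => (hB _ _).symm.trans (hx _)
    exact ⟨left, fun x hx => left x fun y => (B_comm Q x y).trans (hx y)⟩
  refine ⟨Q, hnd, ?_⟩
  obtain ⟨⟨pv, M⟩, hcen⟩ := rmodel_of_refl (c := (1 : ZMod 3)) le_rfl Q hnd one_ne_zero
  rw [one_smul] at M
  have pin : ∀ c, ptN 4 c = true → c ∈ fourPts := fun c hc => by
    have h := fourPts_all
    simp only [List.all_eq_true, List.mem_range, Bool.or_eq_true, Bool.not_eq_true', List.contains_iff_mem] at h
    rcases h c (U6Code.lt_of_isPt (ptN_iff.mp hc).1) with k | k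
    · rw [hc] at k; exact absurd k (by simp)
    · exact k
  have pok := fourPts_ok
  simp only [List.all_eq_true, Bool.and_eq_true, decide_eq_true_eq] at pok
  have norm : ∀ c, ptN 4 c = true → Q (vec 5 (fourImg c)) = 1 := fun c hc => (hQ _).trans (pok c (pin c hc)).2
  choose code hcode hpt using fun (u : X) (hu : u ∈ E) => N.surj u hu
  let φ : X → RGrp Q 1 := fun u => if hu : u ∈ E then pv (vec 5 (fourImg (code u hu))) else 1
  have hφ : ∀ c (hc : ptN 4 c = true), φ (N.pt c) = pv (vec 5 (fourImg c)) := fun c hc => by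
    simp only [φ, dif_pos (N.mem c hc)]
    rw [N.inj _ c (hcode _ _) hc (hpt _ _)]
  obtain ⟨t3, t5, t1, t2⟩ := four_two
  obtain ⟨e, he⟩ := Grp.PolarRec.iso_of_equivariant M.cls hcen
    ⟨_, M.mem _ (norm 3 t3), _, M.mem _ (norm 5 t5), fun k => (M.inj _ _ (norm 3 t3) (norm 5 t5) k).elim t1 t2⟩
    g.hyp g.cen φ (fun u hu => by
      rw [show φ u = pv (vec 5 (fourImg (code u hu))) from dif_pos hu]
      exact M.mem _ (norm _ (hcode u hu)))
    (fun T hT => by
      obtain ⟨x, hx, rfl⟩ := M.surj T hT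
      obtain ⟨i, hi, rfl⟩ := exists_code x
      have h := four_onto
      simp only [List.all_eq_true, List.mem_range, Bool.or_eq_true, Bool.not_eq_true', decide_eq_false_iff_not,
        List.any_eq_true, decide_eq_true_eq] at h
      rcases h i (by omega) with k | ⟨c, hc, k | k⟩
      · exact absurd ((hQ _).symm.trans hx) k
      · exact ⟨N.pt c, N.mem c (pok c hc).1, by rw [hφ c (pok c hc).1, k]⟩
      · exact ⟨N.pt c, N.mem c (pok c hc).1, by rw [hφ c (pok c hc).1, k, M.neg]⟩)
    (S := E) le_rfl g.cls.2.2 fun s hs b hb => by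
      obtain ⟨p, hp, rfl⟩ := N.surj s hs
      obtain ⟨c, hc, rfl⟩ := N.surj b hb
      obtain ⟨h1, h2⟩ := N.conj p c hp hc
      rw [h2, hφ p hp, hφ c hc, hφ _ h1, M.conj _ _ (norm p hp) (norm c hc), hB]
      have h := four_move
      simp only [List.all_eq_true, Bool.or_eq_true, decide_eq_true_eq] at h
      rcases h p (pin p hp) c (pin c hc) with k | k <;> rw [k]
      rw [M.neg]
  refine ⟨e, Set.ext fun T => ⟨?_, fun hT => ?_⟩⟩
  · rintro ⟨u, hu, rfl⟩
    rw [he u hu]
    obtain ⟨c, hc, rfl⟩ := N.surj u hu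
    rw [hφ c hc]
    exact M.mem _ (norm c hc)
  · obtain ⟨x, hx, rfl⟩ := M.surj T hT
    obtain ⟨i, hi, rfl⟩ := exists_code x
    have h := four_onto
    simp only [List.all_eq_true, List.mem_range, Bool.or_eq_true, Bool.not_eq_true', decide_eq_false_iff_not,
      List.any_eq_true, decide_eq_true_eq] at h
    rcases h i (by omega) with k | ⟨c, hc, k | k⟩
    · exact absurd ((hQ _).symm.trans hx) k
    · exact ⟨N.pt c, N.mem c (pok c hc).1, by rw [he _ (N.mem c (pok c hc).1), hφ c (pok c hc).1, k]⟩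
    · exact ⟨N.pt c, N.mem c (pok c hc).1, by rw [he _ (N.mem c (pok c hc).1), hφ c (pok c hc).1, k, M.neg]⟩

end Cfsg.Agent.Spor.FischerThm
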